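import Cfsg.Agent.RI.TC3
import Cfsg.Agent.S0516
import Cfsg.Agent.S0486
import Cfsg.Agent.S0523
import Cfsg.Agent.S1248
import Cfsg.Agent.GW.Main

/-! Aschbacher's theorem on proper 2-generated cores. -/

set_option autoImplicit false
set_option linter.unusedSectionVars false

namespace CF.Rt.TC
open MulAction Subgroup Cfsg CF.BG CF.Bender CF.ZD CF.Sig CF.PG
open scoped MatrixGroups

universe u
variable {G : Type u} [Group G] [Finite G] {M S W : Subgroup G} {t : G}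

/-- the quasi-dihedral theorem for `G` -/
def QD (G : Type u) [Group G] : Prop := ∀ S : Sylow 2 G, IsQuasiDihedral (S : Subgroup G) →
  (∃ (F : Type) (_ : Field F) (_ : Fintype F), Fintype.card F % 4 = 3 ∧ Nonempty (G ≃* PSL(3, F))) ∨
  (∃ (F : Type) (_ : Field F) (_ : Fintype F) (q : ℕ), Fintype.card F = q ^ 2 ∧ q % 4 = 1 ∧
    Nonempty (G ≃* PSU 3 F q)) ∨ IsM11 G

/-- the groups with a proper 2-generated core -/
def Con (G : Type u) [Group G] : Prop :=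
  (∃ (F : Type) (_ : Field F) (_ : Fintype F), 3 ≤ Fintype.card F ∧ Nonempty (G ≃* PSL(2, F))) ∨ Lie.IsoSuzuki G ∨
  (∃ (F : Type) (_ : Field F) (_ : Fintype F) (n : ℕ), 1 ≤ n ∧ Fintype.card F = (2 ^ n) ^ 2 ∧
    Nonempty (G ≃* PSU 3 F (2 ^ n))) ∨ Spor.IsoM11 G ∨ Spor.IsoJ1 G

theorem con_se [IsSimpleGroup G] (h : IsStronglyEmbedded M) : Con G := by
  rcases (Bender.se_simple part2 h).1 with ⟨F, i, j, ⟨n, l, c⟩, e⟩ | e | ⟨F, i, j, n, l, e⟩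
  · exact .inl ⟨F, i, j, by have := four_le_pow l; omega, e⟩
  · exact .inr (.inl e)
  · exact .inr (.inr (.inl ⟨F, i, j, n, by omega, e⟩))

variable [IsSimpleGroup G] (hG : ¬ IsMulCommutative G)
include hG

theorem h0 : 𝐎 {2}ᶜ (⊤ : Subgroup G) = ⊥ := ((Ab2.ns_top hG).eq_or _ (O_normal _ _)).resolve_right fun e =>
  (Ab2.ns_top hG).not_sol (e ▸ sol_pi (O_pi _ _))

theorem nc (t : G) (i : Iv t) : 𝐂₁ t ≠ ⊤ := fun e => i.ne ((Ab2.ns_top hG).eq_one trivial (le_cent1_iff.1 e.ge))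

theorem r2_syl (hS : Syl 2 S ⊤) : R2 S := by
  obtain ⟨z, -, i⟩ := exists_iv_of_pi hS.pi ((Ab2.ns_top hG).syl_ne hS)
  obtain ⟨E, -, k⟩ : R2 (⊤ : Subgroup G) := by_contra fun r => nc hG z i (eq_top_iff.2 fun g _ => by
    have := eq_one_of_mem_bot (h0 hG) (rank_one_comm r i trivial (mem_top g))
    rw [mul_inv_eq_one, mul_inv_eq_iff_eq_mul] at this
    exact mem_cent1.2 this.symm)
  obtain ⟨g, -, e⟩ := hS.syl_cj_le le_top (klein_pi k)
  exact ⟨_, e, klein_cj k g⟩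

theorem main (hq : QD G) (hS : Syl 2 S ⊤) (h : Ru ⊤ M) (hM : M ≠ ⊤) (SM : S ≤ M) :
    Con G ∧ (𝐎 {2}ᶜ M = ⊥ ∨ Nat.card G = 7920) := by
  have n := Ab2.ns_top hG
  have r := r2_syl hG hS
  by_cases r3 : 2 < pRank 2 S
  · have P := h.p4 (h0 hG) (nc hG) hS r3 hM SM
    refine ⟨?_, .inl (by simpa [stab_pt] using P.main (pt M))⟩
    rcases p4_cases P hS (SM.trans stab_pt.ge) with ⟨_, k⟩ | ab
    · exact con_se k
    rcases Ab2.abel_cases n hS ab with ⟨F, i, j, ⟨n, l, c⟩, e⟩ | k | k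
    · exact .inl ⟨F, i, j, by have := four_le_pow l; omega, e⟩
    · obtain ⟨F, i, j, -, -, l, e⟩ := k.psl n
      exact .inl ⟨F, i, j, l.le, e⟩
    · exact (h.jr hM hS SM r n k).elim con_se fun k => .inr (.inr (.inr (.inr k)))
  have m11 : IsM11 G → Con G ∧ (𝐎 {2}ᶜ M = ⊥ ∨ Nat.card G = 7920) := fun k =>
    ⟨.inr (.inr (.inr (.inl (CF.Small.M11_of_card k.2)))), .inr k.2⟩
  obtain ⟨S, rfl⟩ := hS.exists_sylow_top
  letI := Fintype.ofFinite (GaloisField 2 4)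
  have cF : Fintype.card (GaloisField 2 4) = 16 := by
    rw [← Nat.card_eq_fintype_card, GaloisField.card 2 4 (by decide)]; rfl
  obtain ⟨P⟩ : Nonempty (Sylow 2 (PSU 3 (GaloisField 2 4) 4)) := inferInstance
  rcases Agent.S0516.result hG ((pRankLE_top_iff Nat.prime_two).2 (hS.syl_pRank ▸ not_lt.1 r3)) S cF P with
    ⟨m, -, ⟨e⟩⟩ | k | k | ⟨⟨e⟩⟩
  · rcases CF.GW.gw_sylow hG S e with ⟨F, i, j, o, l, ⟨e⟩⟩ | ⟨⟨e⟩⟩
    · exact ⟨.inl ⟨F, i, j, l.le, ⟨e⟩⟩, .inl (h.l2 hS SM (JR.isL_top e) o)⟩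
    · exact absurd (h.a7 hS SM e) hM
  · rcases hq S k with ⟨F, i, j, c, ⟨e⟩⟩ | ⟨F, i, j, q, c, o, ⟨e⟩⟩ | k
    exacts [absurd (h.psl3 hS SM (Nat.odd_iff.2 (by omega)) e) hM,
      absurd (h.psu3 hS SM c (Nat.odd_iff.2 (by omega)) e) hM, m11 k]
  · rcases Agent.S0523.result S k with ⟨F, i, j, o, ⟨e⟩⟩ | ⟨F, i, j, q, c, o, ⟨e⟩⟩ | k
    exacts [absurd (h.psl3 hS SM o e) hM, absurd (h.psu3 hS SM c o e) hM, m11 k]
  obtain ⟨c64, k4, cl, -⟩ := Agent.S1248.result cF P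
  have cen : ∀ x ∈ (S : Subgroup G), x ^ 2 = 1 → x ∈ 𝐂 (S : Subgroup G) := fun x hx x2 => mem_cent.2 fun y hy => by
    by_cases x1 : x = 1
    · simp [x1]
    have : e ⟨x, hx⟩ ∈ center _ := cl.ge (subset_closure (by
      rw [Set.mem_ofPred_eq, e.orderOf_eq, Subgroup.orderOf_mk]; exact orderOf_eq_prime x2 x1))
    exact congrArg Subtype.val (e.injective (by rw [map_mul, map_mul]; exact mem_center_iff.1 this (e ⟨y, hy⟩)) :
      (⟨y, hy⟩ * ⟨x, hx⟩ : (S : Subgroup G)) = ⟨x, hx⟩ * ⟨y, hy⟩)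
  have ab : Abel (𝛀 2 (S : Subgroup G)) := Om_le_iff.2 fun x hx x1 => cent_anti (Om_le _ _) (cen x hx x1)
  obtain ⟨z, hz, i⟩ := exists_iv_of_pi hS.pi (n.syl_ne hS)
  rcases Agent.S1169.result S _ (fun e => i.ne (eq_one_of_mem_bot e (mem_Om hz (by rw [pow_two, i.sq])))) ab.comm
    ⟨Om_le _ _, fun x hx g m => mem_Om m (by rw [conj_pow, pow_of_mem_Om ab hx]; simp)⟩ with k | ⟨H, k⟩
  · have : center (P : Subgroup (PSU 3 (GaloisField 2 4) 4)) = ⊤ := eq_top_iff.2 fun x _ => mem_center_iff.2 fun y =>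
      e.symm.injective (by rw [map_mul, map_mul, mul_comm'])
    have c := k4.card_four
    rw [this, card_top, c64] at c
    omega
  · have := h.se_of hM hS SM r k
    exact ⟨con_se this, .inl (se_core this r)⟩

theorem s1728 (hq : QD G) (hc : HasProperTwoGeneratedCore G) : Con G := by
  obtain ⟨-, S, hM⟩ := hc
  have hS := syl_sylow_top S
  have k : ∀ Q ≤ (S : Subgroup G), R2 Q → 𝐍 Q ≤ kGeneratedCore 2 2 (S : Subgroup G) := fun Q l ⟨E, hE, k⟩ =>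
    le_iSup (fun Q : {Q : Subgroup G // Q ≤ S ∧ ¬ PRankLE 2 (2 - 1) Q} => 𝐍 (Q : Subgroup G))
      ⟨Q, l, (not_pRankLE_iff Nat.prime_two).2 (by have := ((klein_iff.1 k).of_le hE).le_pRank; omega)⟩
  have SM := le_normalizer.trans (k S le_rfl (r2_syl hG hS))
  exact (main hG hq hS (ru_core hS SM k) hM SM).1

theorem s1290 (hq : QD G) (hS : Syl 2 S ⊤) (o : Odd (♯W)) (l : W ≤ ⨆ x : {x : G // x ∈ S ∧ orderOf x = 2}, Oc 2 (x : G))
    (h : ∀ x ∈ S, orderOf x = 2 → W ⊓ 𝐂₁ x = Oc 2 x) (i : Iv t) : Oc 2 t = ⊥ := by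
  have le : ∀ x ∈ S, Iv x → Oc 2 x ≤ W := fun x hx j => h x hx j.orderOf ▸ inf_le_left
  have SM : S ≤ 𝐍 W := fun g hg => mem_norm_of_cj_le (cj_le_iff.2 (l.trans (iSup_le fun x => cj_le_iff.1 (by
    rw [cj_Oc]; exact le _ (mul_mem (mul_mem hg x.2.1) (inv_mem hg)) ((iv_iff.2 x.2.2).conj g)))))
  suffices W = ⊥ ∨ Nat.card G = 7920 by
    refine this.elim (fun e => ?_) fun c => m11_core c i
    obtain ⟨g, -, k⟩ := hS.syl_cj_le le_top (iv_pi i)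
    have := eq_bot_mono e (le _ (k (conj_mem_cj.2 (mem_zpowers t))) (i.conj g))
    rwa [← cj_Oc, cj_eq_bot] at this
  by_cases hM : 𝐍 W = ⊤
  · exact .inl (eq_bot_mono (h0 hG) (le_O ⟨le_top, hM.ge⟩ (pi_of_odd o)))
  refine (main hG hq hS (ru_of hS SM fun V k hV g hg => mem_norm_of_cj_le (cj_le_iff.2 (four_gen k (hV.trans SM) o
    fun e he j => ?_))) hM SM).2.imp_left fun e => eq_bot_mono e (le_O (normalIn_norm _) (pi_of_odd o))
  rw [h e (hV he) j.orderOf, ← cj_le_iff, cj_Oc]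
  exact le _ (hg (conj_mem_cj.2 he)) (j.conj g)

end CF.Rt.TC
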