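import Cfsg.Agent.Pgp.D

/-! Bicyclic `2`-groups: Blackburn's criterion and metacyclic maximal subgroups. -/

set_option autoImplicit false
set_option linter.unusedSectionVars false

namespace CF.Rt.BC

open Subgroup CF.BG CF.BG2 CF.Pgp
open scoped commutatorElement

variable {G : Type*} [Group G] [Finite G] {A B C D E H K L M N P Q R S : Subgroup G} {x y u : G}

/-- Blackburn's subgroup -/
def Bl (P : Subgroup G) : Subgroup G := 𝚽 ⁅P, P⁆ ⊔ ⁅⁅P, P⁆, P⁆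

theorem Bl_normal (h : P ⊴ S) : Bl P ⊴ S := h.der.Phi.sup (h.der.comm h)

theorem Bl_le_der (P : Subgroup G) : Bl P ≤ ⁅P, P⁆ :=
  sup_le (Phi_le _) (comm_le_left (der_normal P).norm)

theorem qt_Phi (k : PiGrp {2} H) (n : H ≤ 𝐍 K) : qt K (𝚽 H) = 𝚽 (qt K H) := by
  refine le_antisymm ((qt_le_iff ((Phi_le H).trans n)).2 (k.Phi_le_iff.2 ⟨?_, fun x hx => ?_⟩))
    ((k.qt K).Phi_le_iff.2 ⟨?_, fun z hz => ?_⟩)
  · rw [← qt_le_iff ((der_le H).trans n), qt_comm n n]; exact (k.qt K).der_le_Phi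
  · exact mem_qp.2 ⟨pow_mem (n hx) 2, by
      rw [qe_pow (n hx)]; exact (k.qt K).pow_mem_Phi (qe_mem_qt hx (n hx))⟩
  · rw [← qt_comm n n]; exact qt_mono _ k.der_le_Phi
  · obtain ⟨w, hw, nw, rfl⟩ := mem_qt.1 hz
    rw [← qe_pow nw]; exact qe_mem_qt (k.pow_mem_Phi hw) (pow_mem nw 2)

theorem qt_Bl (k : PiGrp {2} P) (n : P ≤ 𝐍 K) : qt K (Bl P) = Bl (qt K P) := by
  have d : ⁅P, P⁆ ≤ 𝐍 K := (der_le P).trans n
  rw [Bl, Bl, qt_sup ((Phi_le _).trans d) ((comm_le_left (der_normal P).norm).trans d),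
    qt_Phi (k.le (der_le P)) d, qt_comm d n, qt_comm n n]

/-- metacyclic modulo `K` -/
def MM (K P : Subgroup G) : Prop :=
  ∃ s ∈ P, ∃ t ∈ P, P ≤ 𝐍 (K ⊔ zpowers s : Subgroup G) ∧ P ≤ K ⊔ (zpowers s ⊔ zpowers t)

theorem mm_of_qt (n : K ⊴ P) (h : Meta (qt K P)) : MM K P := by
  obtain ⟨S, s1, s2, s3⟩ := h
  obtain ⟨s', rfl⟩ := s2.exists_gen
  obtain ⟨t', t1, e⟩ := (cyc_qt_iff s1.norm).1 s3
  obtain ⟨s, hs, ns, rfl⟩ := mem_qt.1 (s1.le (mem_zpowers s'))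
  obtain ⟨t, ht, nt, rfl⟩ := mem_qt.1 t1
  rw [← qt_zpowers ns, ← qt_zpowers nt, ← qt_sup (zpowers_le.2 ns) (zpowers_le.2 nt),
    qt_le_qt_iff n.norm (sup_le (zpowers_le.2 ns) (zpowers_le.2 nt))] at e
  have s4 := s1.qp_of_qt n
  rw [← qt_zpowers ns, qp_qt (zpowers_le.2 ns)] at s4
  exact ⟨s, hs, t, ht, s4.norm, e⟩

theorem blackburn_step (k : PiGrp {2} P) (hN : Elem 2 1 N (Bl P ⊓ 𝐙 P)) (h : MM N P) : Meta P := by
  have d := der_normal P
  have n := normalIn_of_le_center (hN.le.trans inf_le_right)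
  obtain ⟨s, hs, t, ht, s5, e⟩ := h
  have ns := n.norm hs
  have s4 : N ⊔ zpowers s ⊴ P := ⟨sup_le n.le (zpowers_le.2 hs), s5⟩
  have e1 : zpowers s ⊔ zpowers t = P := eq_of_le_sup_Phi (sup_le (zpowers_le.2 hs) (zpowers_le.2 ht))
    (e.trans (sup_le (le_sup_of_le_right ((hN.le.trans inf_le_left).trans ((Bl_le_der P).trans
      k.der_le_Phi))) le_sup_left))
  have cN : N ≤ 𝐂 P := (hN.le.trans inf_le_right).trans inf_le_right
  have aS : Abel (N ⊔ zpowers s) := hN.abel.sup (abel_zpowers s) (cent_mono cN le_rfl (zpowers_le.2 hs))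
  have c1 : ⁅N ⊔ zpowers s, zpowers t⁆ = zpowers ⁅s, t⁆ := by
    refine le_antisymm (fun w hw => ?_) (zpowers_le.2 (commutator_mem_commutator
      (mem_sup_right (mem_zpowers s)) (mem_zpowers t)))
    obtain ⟨x, hx, rfl⟩ := (PLocal.mem_commutator_zpowers_iff aS.comm (s4.norm ht)).1 hw
    obtain ⟨z, hz, _, ⟨i, rfl⟩, rfl⟩ := (mem_sup_norm' (zpowers_le.2 ns)).1 hx
    refine ⟨i, ?_⟩
    have c2 : Commute s (t * s⁻¹ * t⁻¹) := aS.mul_comm (mem_sup_right (mem_zpowers s))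
      (s4.conj_mem ht (inv_mem (mem_sup_right (mem_zpowers s))))
    have c3 := comm_of_cent (cN hz) (commutator_mem_commutator (zpow_mem hs i) ht |> der_le P)
    have c4 := comm_of_cent (cN hz) ht
    calc ⁅s, t⁆ ^ i = (s * (t * s⁻¹ * t⁻¹)) ^ i := by simp only [commutatorElement_def, mul_assoc]
      _ = ⁅s ^ i, t⁆ := by rw [c2.mul_zpow, conj_zpow, inv_zpow, commutatorElement_def]; group
      _ = z * ⁅s ^ i, t⁆ * z⁻¹ * ⁅z, t⁆ := by
        rw [c3.eq, commutatorElement_eq_one_iff_commute.2 c4]; group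
      _ = _ := by simp only [commutatorElement_def]; group
  have d1 := der_le_zpowers e1 (by
    rw [← c1, ← e1]
    exact sup_le (le_sup_right.trans (norm_comm_left _ _)) (norm_comm_right _ _))
  have c5 := commutator_mem_commutator hs ht
  have d2 : ⁅P, P⁆ = zpowers ⁅s, t⁆ := le_antisymm d1 (zpowers_le.2 c5)
  have ne : ⁅P, P⁆ ≠ ⊥ := fun e => hN.ne_bot (le_bot_iff.1 (((hN.le.trans inf_le_left).trans
    (Bl_le_der P)).trans e.le))
  have l : N ≤ zpowers s := by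
    refine ((hN.le.trans inf_le_left).trans (sup_le
      (le_zpowers_pow Nat.prime_two (k.elt (der_le P c5)) (d2 ▸ Phi_lt ne))
      (le_zpowers_pow Nat.prime_two (k.elt (der_le P c5)) (d2 ▸ k.nil.comm_lt d ne)))).trans
      (zpowers_le.2 ?_)
    obtain ⟨z, hz, y, hy, e⟩ := (mem_sup_norm' (zpowers_le.2 ns)).1
      (comm_le_left (zpowers_le.2 (s4.norm ht)) (c1.ge (mem_zpowers _)))
    rw [← e, Commute.mul_pow (aS.mul_comm (mem_sup_left hz) (mem_sup_right hy)), hN.ab.pow z hz, one_mul]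
    exact pow_mem hy 2
  rw [sup_eq_right.2 l] at s4
  exact meta_of_sup s4 ht e1.ge

universe v in
theorem blackburn_aux (m : ℕ) : ∀ {G : Type v} [Group G] [Finite G] (P : Subgroup G), ♯P < m →
    PiGrp {2} P → MM (Bl P) P → Meta P := by
  induction m with
  | zero => intro _ _ _ _ h; omega
  | succ m ih =>
  intro G _ _ P lt k ⟨s, hs, t, ht, h1, h2⟩
  by_cases h0 : Bl P = ⊥
  · rw [h0, bot_sup_eq] at h1 h2
    exact meta_of_sup ⟨zpowers_le.2 hs, h1⟩ ht h2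
  have b := Bl_normal (NormalIn.refl P)
  obtain ⟨N, hN⟩ := k.exists_elem_center b h0
  have n := normalIn_of_le_center (hN.le.trans inf_le_right)
  refine blackburn_step k hN (mm_of_qt n (ih (qt N P) (by have := card_qt_lt n hN.ne_bot; omega) (k.qt N)
    ⟨_, qe_mem_qt hs (n.norm hs), _, qe_mem_qt ht (n.norm ht), ?_, ?_⟩))
  · rw [← qt_Bl k n.norm, ← qt_zpowers (n.norm hs), ← qt_sup (b.le.trans n.norm) (zpowers_le.2 (n.norm hs))]
    exact qt_norm N h1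
  · rw [← qt_Bl k n.norm, ← qt_zpowers (n.norm hs), ← qt_zpowers (n.norm ht),
      ← qt_sup (zpowers_le.2 (n.norm hs)) (zpowers_le.2 (n.norm ht)), ← qt_sup (b.le.trans n.norm)
        (sup_le (zpowers_le.2 (n.norm hs)) (zpowers_le.2 (n.norm ht)))]
    exact qt_mono N h2

/-- Blackburn's criterion -/
theorem blackburn (k : PiGrp {2} P) (h : Meta (qt (Bl P) P)) : Meta P :=
  blackburn_aux _ P (Nat.lt_succ_self _) k (mm_of_qt (Bl_normal (NormalIn.refl P)) h)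

theorem Bl_qt_Bl (k : PiGrp {2} P) : Bl (qt (Bl P) P) = ⊥ := by
  rw [← qt_Bl k (Bl_normal (NormalIn.refl P)).norm, qt_self]

/-- `P` is the product of the cyclic groups generated by `x` and `y` -/
structure Bic (P : Subgroup G) (x y : G) : Prop where
  hx : x ∈ P
  hy : y ∈ P
  ex : ∀ g ∈ P, ∃ i j : ℕ, g = x ^ i * y ^ j

theorem Bic.sup (h : Bic P x y) : zpowers x ⊔ zpowers y = P :=
  le_antisymm (sup_le (zpowers_le.2 h.hx) (zpowers_le.2 h.hy)) fun g hg => by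
    obtain ⟨i, j, rfl⟩ := h.ex g hg
    exact mul_mem (mem_sup_left (pow_mem (mem_zpowers x) i)) (mem_sup_right (pow_mem (mem_zpowers y) j))

theorem exists_nat_inv (x : G) (i : ℕ) : ∃ j : ℕ, (x ^ i)⁻¹ = x ^ j :=
  let ⟨j, h⟩ := (mem_powers_iff_mem_zpowers (x := x)).2 (inv_mem (pow_mem (mem_zpowers x) i))
  ⟨j, h.symm⟩

theorem Bic.symm (h : Bic P x y) : Bic P y x := ⟨h.hy, h.hx, fun g hg => by
  obtain ⟨i, j, e⟩ := h.ex _ (inv_mem hg)
  obtain ⟨a, ha⟩ := exists_nat_inv x i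
  obtain ⟨b, hb⟩ := exists_nat_inv y j
  exact ⟨b, a, by rw [← ha, ← hb, ← mul_inv_rev, ← e, inv_inv]⟩⟩

theorem Bic.qt (h : Bic P x y) (n : P ≤ 𝐍 K) : Bic (qt K P) (qe K x) (qe K y) :=
  ⟨qe_mem_qt h.hx (n h.hx), qe_mem_qt h.hy (n h.hy), fun g hg => by
    obtain ⟨w, hw, nw, rfl⟩ := mem_qt.1 hg
    obtain ⟨i, j, rfl⟩ := h.ex w hw
    exact ⟨i, j, by rw [qe_mul (pow_mem (n h.hx) i) (pow_mem (n h.hy) j), qe_pow (n h.hx), qe_pow (n h.hy)]⟩⟩

theorem mem_zpowers_odd (k : PiElt {2} x) {a : ℕ} (ha : Odd a) : x ∈ zpowers (x ^ a) := by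
  obtain ⟨n, hn⟩ : ∃ n, orderOf x = 2 ^ n := ⟨_, k.eq_pow_logn (orderOf_pos x).ne'⟩
  exact mem_zpowers_pow_iff.2 (by
    rw [hn]; exact Nat.Coprime.pow_right _ (Nat.coprime_two_right.2 ha))

theorem pow_odd_of_sq {c : G} (h : c ^ 2 = 1) {a : ℕ} (ha : Odd a) : c ^ a = c := by
  obtain ⟨b, rfl⟩ := ha
  rw [pow_succ, pow_mul, h, one_pow, one_mul]

theorem pow_even_of_sq {c : G} (h : c ^ 2 = 1) {a : ℕ} (ha : Even a) : c ^ a = 1 := by
  obtain ⟨b, rfl⟩ := ha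
  rw [← two_mul, pow_mul, h, one_pow]

theorem Bic.meta_of_mem (h : Bic P x u) (k : PiGrp {2} P) {a b : ℕ} (hab : Odd a ∨ Odd b)
    (d : ⁅P, P⁆ ≤ zpowers (x ^ a * u ^ b)) : Meta P := by
  have g := mul_mem (pow_mem h.hx a) (pow_mem h.hy b)
  have n := normalIn_of_der_le (zpowers_le.2 g) d
  rcases hab with o | o
  · refine meta_of_sup n h.hy (h.sup.ge.trans (sup_le (zpowers_le.2 ?_) le_sup_right))
    refine (zpowers_le.2 ?_ : zpowers (x ^ a) ≤ _) (mem_zpowers_odd (k.elt h.hx) o)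
    exact (mul_mem_cancel_right (mem_sup_right (pow_mem (mem_zpowers u) b))).1 (mem_sup_left (mem_zpowers _))
  · refine meta_of_sup n h.hx (h.sup.ge.trans (sup_le le_sup_right (zpowers_le.2 ?_)))
    refine (zpowers_le.2 ?_ : zpowers (u ^ b) ≤ _) (mem_zpowers_odd (k.elt h.hy) o)
    exact (mul_mem_cancel_left (mem_sup_right (pow_mem (mem_zpowers x) a))).1 (mem_sup_left (mem_zpowers _))

theorem Bl_bot (k : PiGrp {2} P) (h : Bl P = ⊥) : ⁅P, P⁆ ≤ 𝐂 P ∧ ∀ c ∈ ⁅P, P⁆, c ^ 2 = 1 := by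
  rw [Bl, sup_eq_bot_iff] at h
  exact ⟨comm_eq_bot.1 h.2, (((k.le (der_le P)).Phi_eq_bot).1 h.1).pow⟩

theorem Bic.class_two (h : Bic P x u) (k : PiGrp {2} P) (h0 : Bl P = ⊥) :
    Meta P ∨ ∃ a b : ℕ, Odd a ∧ Odd b ∧ (x ^ a * u ^ b) ^ 2 = 1 := by
  obtain ⟨c, e⟩ := Bl_bot k h0
  have cm := commutator_mem_commutator h.hy h.hx
  have cz : ∀ {w}, w ∈ P → Commute w ⁅u, x⁆ := fun hw => (comm_of_cent (c cm) hw).symm
  have d : ⁅P, P⁆ ≤ zpowers ⁅u, x⁆ := der_le_zpowers h.symm.sup (norm_of_cent' (zpowers_le.2 (c cm)))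
  have c2 := e _ cm
  have cab : ∀ a b : ℕ, ⁅u ^ b, x ^ a⁆ = ⁅u, x⁆ ^ (a * b) := fun a b => by
    rw [Transfer.commutatorElement_pow_left' (by
      rw [Transfer.commutatorElement_pow_right' (cz h.hx)]; exact (cz h.hy).pow_right a),
      Transfer.commutatorElement_pow_right' (cz h.hx), pow_mul]
  by_cases h1 : ⁅u, x⁆ = 1
  · exact .inl (h.meta_of_mem k (a := 1) (b := 0) (.inl odd_one) (d.trans (by simp [h1])))
  obtain ⟨i, j, e1⟩ := h.ex _ (der_le P cm)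
  have hi : Even i := by
    by_contra o
    refine h1 ?_
    have := cab i 1
    rw [pow_one, mul_one, pow_odd_of_sq c2 (Nat.not_even_iff_odd.1 o), eq_mul_inv_of_mul_eq e1.symm] at this
    rw [← this, commutatorElement_eq_one_iff_commute]
    exact (cz h.hy).mul_right ((Commute.refl u).pow_right j).inv_right
  have hj : Even j := by
    by_contra o
    refine h1 ?_
    have := cab 1 j
    rw [pow_one, one_mul, pow_odd_of_sq c2 (Nat.not_even_iff_odd.1 o), eq_inv_mul_of_mul_eq e1.symm] at this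
    rw [← this, commutatorElement_eq_one_iff_commute]
    exact (((Commute.refl x).pow_right i).inv_right.mul_right (cz h.hx)).symm
  obtain ⟨n, ⟨a, b, e2⟩, e3⟩ : ∃ n, (∃ a b : ℕ, ⁅u, x⁆ = x ^ (2 ^ (n + 1) * a) * u ^ (2 ^ (n + 1) * b)) ∧
      ¬ ∃ a b : ℕ, ⁅u, x⁆ = x ^ (2 ^ (n + 1 + 1) * a) * u ^ (2 ^ (n + 1 + 1) * b) := by
    by_contra! hc
    have : ∀ n, ∃ a b : ℕ, ⁅u, x⁆ = x ^ (2 ^ (n + 1) * a) * u ^ (2 ^ (n + 1) * b) := fun n => by
      induction n with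
      | zero => obtain ⟨a, rfl⟩ := hi; obtain ⟨b, rfl⟩ := hj; exact ⟨a, b, by rw [e1]; ring_nf⟩
      | succ n ih => exact hc n ih
    obtain ⟨a, b, e4⟩ := this (logn 2 (♯P))
    have t : ∀ g ∈ P, g ^ 2 ^ logn 2 (♯P) = 1 := fun g hg => by
      rw [← k.card_eq, ← orderOf_dvd_iff_pow_eq_one]; exact orderOf_dvd_card' hg
    exact h1 (by rw [e4, pow_succ, mul_assoc, mul_assoc, pow_mul x, pow_mul u, t x h.hx, t u h.hy]; simp)
  have hab : Odd a ∨ Odd b := by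
    by_contra! hc
    obtain ⟨a, rfl⟩ := Nat.not_odd_iff_even.1 hc.1
    obtain ⟨b, rfl⟩ := Nat.not_odd_iff_even.1 hc.2
    exact e3 ⟨a, b, by rw [e2]; ring_nf⟩
  have e4 := Transfer.mul_pow_of_class_two (a := x ^ a) (b := u ^ b) (by
    rw [cab]; exact (cz (pow_mem h.hx a)).pow_right _) (by rw [cab]; exact (cz (pow_mem h.hy b)).pow_right _)
      (2 ^ (n + 1))
  rw [← pow_mul, ← pow_mul, mul_comm a, mul_comm b, ← e2, cab, ← pow_mul] at e4
  rcases Nat.even_or_odd (a * b * (2 ^ (n + 1)).choose 2) with o | o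
  · rw [pow_even_of_sq c2 o, mul_one] at e4
    exact .inl (h.meta_of_mem k hab (d.trans (zpowers_le.2 (e4 ▸ pow_mem (mem_zpowers _) _))))
  · rw [pow_odd_of_sq c2 o, ← pow_two, c2] at e4
    rw [Nat.odd_mul, Nat.odd_mul] at o
    rcases n with _ | n
    · exact .inr ⟨a, b, o.1.1, o.1.2, e4⟩
    · refine absurd o.2 (Nat.not_odd_iff_even.2 ⟨2 ^ n * (2 ^ (n + 2) - 1), ?_⟩)
      rw [Nat.choose_two_right, pow_succ' 2 (n + 1), mul_assoc, Nat.mul_div_cancel_left _ two_pos, pow_succ' 2 n]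
      ring

/-- the maximal subgroup containing `x` -/
def M1 (x y : G) : Subgroup G := zpowers x ⊔ zpowers (y ^ 2)

theorem Bic.mem_M1 (h : Bic S x y) (k : PiGrp {2} S) {i j : ℕ} (hj : Even j) : x ^ i * y ^ j ∈ M1 x y := by
  obtain ⟨j, rfl⟩ := hj
  exact mul_mem (mem_sup_left (pow_mem (mem_zpowers x) i)) (mem_sup_right (by
    rw [← two_mul, pow_mul]; exact pow_mem (mem_zpowers _) j))

theorem Bic.M1_le (h : Bic S x y) : M1 x y ≤ S := sup_le (zpowers_le.2 h.hx) (zpowers_le.2 (pow_mem h.hy 2))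

theorem Bic.M1_cases (h : Bic S x y) (k : PiGrp {2} S) {g : G} (hg : g ∈ S) :
    g ∈ M1 x y ∨ g * y⁻¹ ∈ M1 x y := by
  obtain ⟨i, j, rfl⟩ := h.ex g hg
  rcases Nat.even_or_odd' j with ⟨l, rfl | rfl⟩
  · exact .inl (h.mem_M1 k (even_two_mul l))
  · exact .inr (by rw [pow_succ, ← mul_assoc, mul_inv_cancel_right]; exact h.mem_M1 k (even_two_mul l))

theorem Bic.M1_normal (h : Bic S x y) (k : PiGrp {2} S) : M1 x y ⊴ S := by
  refine ⟨h.M1_le, h.sup.ge.trans (sup_le (le_sup_left.trans (le_norm_self _)) (zpowers_le.2 ?_))⟩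
  by_cases hy : y ∈ M1 x y
  · exact le_norm_self _ hy
  have key : ∀ g ∈ M1 x y, y * g * y⁻¹ ∈ M1 x y := fun g hg => by
    rcases h.M1_cases k (mul_mem h.hy (h.M1_le hg)) with c | c
    · exact (hy ((mul_mem_cancel_right hg).1 c)).elim
    · exact c
  exact zpowers_le.1 (le_norm_iff.2 fun g hg w hw => by
    obtain ⟨n, rfl⟩ := (mem_powers_iff_mem_zpowers (x := y)).2 hg
    induction n with
    | zero => simpa using hw
    | succ n ih =>
      have := key _ (ih (pow_mem (mem_zpowers y) n))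
      beta_reduce at this ⊢
      rwa [show y * (y ^ n * w * (y ^ n)⁻¹) * y⁻¹ = y ^ (n + 1) * w * (y ^ (n + 1))⁻¹ by group] at this)

theorem Bic.bic_M1 (h : Bic S x y) (k : PiGrp {2} S) : Bic (M1 x y) x (y ^ 2) := by
  refine ⟨mem_sup_left (mem_zpowers x), mem_sup_right (mem_zpowers _), fun g hg => ?_⟩
  by_cases hy : y ∈ M1 x y
  · -- then `y ∈ ⟨x⟩⟨y²⟩` by a Frattini argument
    have e : zpowers x = S := eq_of_le_sup_Phi (zpowers_le.2 h.hx) (h.sup.ge.trans (sup_le le_sup_left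
      (zpowers_le.2 ((sup_le_sup_left (zpowers_le.2 (k.pow_mem_Phi h.hy)) _) hy))))
    obtain ⟨i, hi⟩ := (mem_powers_iff_mem_zpowers (x := x)).2 (e.ge (h.M1_le hg))
    exact ⟨i, 0, by simpa using hi.symm⟩
  obtain ⟨i, j, rfl⟩ := h.ex g (h.M1_le hg)
  rcases Nat.even_or_odd' j with ⟨l, rfl | rfl⟩
  · exact ⟨i, l, by rw [pow_mul]⟩
  · rw [pow_succ, ← mul_assoc] at hg
    exact (hy ((mul_mem_cancel_left (h.mem_M1 k (even_two_mul l))).1 hg)).elim

theorem eq_of_mem_zpowers_two {c g : G} (h : c ^ 2 = 1) (hg : g ∈ zpowers c) : g = 1 ∨ g = c := by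
  obtain ⟨n, rfl⟩ := (mem_powers_iff_mem_zpowers (x := c)).2 hg
  exact (Nat.even_or_odd n).imp (pow_even_of_sq h) (pow_odd_of_sq h)

theorem Bic.meta_M1_aux (h : Bic S x y) (k : PiGrp {2} S) (h0 : Bl (M1 x y) = ⊥) : Meta (M1 x y) := by
  have kM := k.le h.M1_le
  have n := h.M1_normal k
  have b1 := h.bic_M1 k
  rcases b1.class_two kM h0 with c | ⟨a, b, ha, hb, e2⟩
  · exact c
  obtain ⟨cz, c2⟩ := Bl_bot kM h0
  have hu := b1.hy
  have he := mul_mem (pow_mem b1.hx a) (pow_mem hu b)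
  have g1 : zpowers (x ^ a * (y ^ 2) ^ b) ⊔ zpowers (y ^ 2) = M1 x y := by
    refine le_antisymm (sup_le (zpowers_le.2 he) (zpowers_le.2 hu)) (sup_le (zpowers_le.2 ?_) le_sup_right)
    refine (zpowers_le.2 ?_ : zpowers (x ^ a) ≤ _) (mem_zpowers_odd (kM.elt b1.hx) ha)
    exact (mul_mem_cancel_right (mem_sup_right (pow_mem (mem_zpowers _) b))).1 (mem_sup_left (mem_zpowers _))
  generalize x ^ a * (y ^ 2) ^ b = e at *
  have cm := commutator_mem_commutator he hu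
  have d := der_le_zpowers g1 (norm_of_cent' (zpowers_le.2 (cz cm)))
  have cc : ∀ {w}, w ∈ M1 x y → Commute w ⁅e, y ^ 2⁆ := fun hw => (comm_of_cent (cz cm) hw).symm
  suffices hc : ⁅e, y ^ 2⁆ ∈ zpowers (y ^ 2) from
    meta_of_sup (normalIn_of_der_le (zpowers_le.2 hu) (d.trans (zpowers_le.2 hc))) he
      (g1.ge.trans (sup_comm _ _).le)
  by_cases h1 : ⁅e, y ^ 2⁆ = 1
  · exact h1 ▸ one_mem _
  have c3 := c2 _ cm
  have yc : Commute y ⁅e, y ^ 2⁆ := by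
    rcases eq_of_mem_zpowers_two c3 (d (n.der.conj_mem h.hy cm)) with c | c
    · exact (h1 (by simpa using c)).elim
    · exact mul_inv_eq_iff_eq_mul.1 c
  have nK : M1 x y ≤ 𝐍 (zpowers (y ^ 2) ⊔ zpowers ⁅e, y ^ 2⁆ : Subgroup G) :=
    norm_of_der_le (sup_le (zpowers_le.2 hu) (zpowers_le.2 (der_le _ cm))) (d.trans le_sup_right)
  have hK : zpowers (y ^ 2) ⊔ zpowers ⁅e, y ^ 2⁆ ≤ 𝐂₁ y := sup_le (zpowers_le.2 (mem_cent1.2
    (Commute.pow_self y 2).eq)) (zpowers_le.2 (mem_cent1.2 yc.symm.eq))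
  obtain ⟨f, hf, w, hw, e3⟩ := (mem_sup_norm' (H := zpowers (y ^ 2) ⊔ zpowers ⁅e, y ^ 2⁆)
    (zpowers_le.2 (nK he))).1 ((g1.ge.trans (sup_le le_sup_right (le_sup_of_le_left le_sup_left)))
      (n.conj_mem h.hy he))
  have fy : Commute f y := mem_cent1.1 (hK hf)
  rcases eq_of_mem_zpowers_two e2 hw with rfl | rfl
  · refine (h1 (commutatorElement_eq_one_iff_commute.2 (Commute.pow_right ?_ 2))).elim
    rw [mul_one] at e3
    have : e = f := by
      calc e = y⁻¹ * (y * e * y⁻¹) * y := by group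
        _ = f := by rw [← e3, mul_assoc, fy.eq]; group
    exact this ▸ fy
  obtain ⟨_, h2, _, h3, rfl⟩ := (mem_sup_norm' (norm_of_cent (zpowers_le.2 (by
    rw [cent_zpowers]; exact mem_cent1.2 (cc hu).symm.eq)))).1 hf
  obtain ⟨i, rfl⟩ := (mem_powers_iff_mem_zpowers (x := y ^ 2)).2 h2
  obtain ⟨j, rfl⟩ := (mem_powers_iff_mem_zpowers (x := ⁅w, y ^ 2⁆)).2 h3
  beta_reduce at *
  have c4 : (⁅w, y ^ 2⁆ ^ j) ^ 2 = 1 := by rw [← pow_mul, mul_comm, pow_mul, c3, one_pow]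
  have c5 : ((y ^ 2) ^ i) ^ 2 * ⁅w, y ^ 2⁆ ^ i = 1 := by
    have t1 : ((y ^ 2) ^ i * ⁅w, y ^ 2⁆ ^ j * w) ^ 2 = 1 := by rw [e3, conj_pow, e2]; group
    have t2 := Transfer.commutatorElement_pow_right' (cc hu) i
    rwa [mul_assoc, ((cc he).pow_right j).symm.eq, ← mul_assoc, Commute.mul_pow
      ((cc (mul_mem (pow_mem hu i) he)).pow_right j), c4, mul_one, Transfer.mul_pow_of_class_two
      (by rw [t2]; exact (cc (pow_mem hu i)).pow_right i) (by rw [t2]; exact (cc he).pow_right i), e2, mul_one,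
      Nat.choose_self, pow_one, t2] at t1
  rcases Nat.even_or_odd i with o | o
  · rw [pow_even_of_sq c3 o, mul_one] at c5
    refine (h1 (commutatorElement_eq_one_iff_commute.2 (Commute.symm ?_))).elim
    have t3 : ((y ^ 2) ^ i * ⁅w, y ^ 2⁆ ^ j) ^ 2 = 1 := by
      rw [Commute.mul_pow ((cc (pow_mem hu i)).pow_right j), c5, c4, mul_one]
    generalize (y ^ 2) ^ i * ⁅w, y ^ 2⁆ ^ j = f at *
    refine mul_inv_eq_iff_eq_mul.1 ?_
    calc y ^ 2 * w * (y ^ 2)⁻¹ = y * (y * w * y⁻¹) * y⁻¹ := by rw [pow_two]; group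
      _ = f * (y * w * y⁻¹) := by rw [← e3, ← mul_assoc y, ← fy.eq, mul_assoc f, mul_assoc f, e3]
      _ = w := by rw [← e3, ← mul_assoc, ← pow_two, t3, one_mul]
  · rw [pow_odd_of_sq c3 o] at c5
    rw [eq_inv_of_mul_eq_one_right c5]
    exact inv_mem (pow_mem (pow_mem (mem_zpowers _) i) 2)

theorem Bic.meta_M1 (h : Bic S x y) (k : PiGrp {2} S) : Meta (M1 x y) := by
  have kM := k.le h.M1_le
  have n := (Bl_normal (h.M1_normal k)).norm
  have e : BG.qt (Bl (M1 x y)) (M1 x y) = M1 (qe _ x) (qe _ y) := by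
    generalize Bl (M1 x y) = D at n
    rw [M1, M1, qt_sup (zpowers_le.2 (n h.hx)) (zpowers_le.2 (pow_mem (n h.hy) 2)), qt_zpowers (n h.hx),
      qt_zpowers (pow_mem (n h.hy) 2), qe_pow (n h.hy)]
  refine blackburn kM ?_
  have := Bl_qt_Bl kM
  rw [e] at this ⊢
  exact (h.qt n).meta_M1_aux (k.qt _) this

theorem Bic.meta_or (h : Bic S x y) (k : PiGrp {2} S) :
    Meta S ∨ ∃ a b : ℕ, Odd a ∧ Odd b ∧ (x ^ a * y ^ b) ^ 2 ∈ Bl S := by
  have n := (Bl_normal (NormalIn.refl S)).norm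
  refine ((h.qt n).class_two (k.qt _) (Bl_qt_Bl k)).imp (blackburn k) fun ⟨a, b, ha, hb, e⟩ => ⟨a, b, ha, hb, ?_⟩
  have m := mul_mem (pow_mem (n h.hx) a) (pow_mem (n h.hy) b)
  rwa [← qe_pow (n h.hx), ← qe_pow (n h.hy), ← qe_mul (pow_mem (n h.hx) a) (pow_mem (n h.hy) b), ← qe_pow m,
    qe_eq_one (pow_mem m 2)] at e

end CF.Rt.BC
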