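import Cfsg.Agent.RI.BC9

/-! Bicyclic non-metacyclic `2`-groups with cyclic derived subgroup carry a non-inner fusion system. -/

set_option autoImplicit false
set_option linter.unusedSectionVars false

namespace CF.Rt.BC

open Subgroup CF.BG CF.BG2 CF.Pgp Cfsg
open CF.Fus (Sat Mor Iso fn cA img Gen stab OpIn pre fn_cA fn_mem mulOn_fn stab_maps mem_stab_of_maps fn_mul PIso
  MulOn SylIn)
open scoped commutatorElement CF.Fus

universe v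

variable {G : Type v} [Group G] [Finite G] {A B C D E H K L M N P Q R S W X : Subgroup G}
  {a b c e g h k m s t u v w x y z : G} {F : FusionSystem S} {f : G → G}

theorem mem_of_dvd (cy : Cyc A) (hu : u ∈ A) (hv : v ∈ A) (d : u ^ orderOf v = 1) : u ∈ zpowers v :=
  zpowers_le.1 (cy.le_of_dvd (zpowers_le.2 hu) (zpowers_le.2 hv) (by
    rw [Nat.card_zpowers, Nat.card_zpowers]; exact orderOf_dvd_of_pow_eq_one d))

theorem ord4 (h : v ^ 2 = z) (z2 : z ^ 2 = 1) (z1 : z ≠ 1) : orderOf v = 2 ^ 2 :=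
  orderOf_eq_prime_pow (by rwa [pow_one, h]) (by rw [pow_succ, pow_mul, pow_one, h, z2])

/-- the involution of the cyclic derived subgroup -/
structure ZD (S : Subgroup G) (z : G) : Prop where
  cy : Cyc ⁅S, S⁆
  mem : z ∈ ⁅S, S⁆
  z2 : z ^ 2 = 1
  z1 : z ≠ 1
  cent : z ∈ 𝐂 S

theorem ZD.all (hz : ZD S z) (hu : u ∈ ⁅S, S⁆) (h : u ^ 2 = 1) : u ∈ zpowers z :=
  mem_of_dvd hz.cy hu hz.mem (by rwa [orderOf_eq_prime hz.z2 hz.z1])

namespace NB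

theorem mem_of_norm (h : NB S x y) (he : b ∈ M3 S x y) (ne : b ∉ 𝚽 S) (hg : g ∈ S) (n : g ∈ 𝐍 (zpowers b)) :
    g ∈ M3 S x y := by_contra fun c => by
  have bS := zpowers_le.2 (h.M3_le he)
  have : zpowers b ⊔ zpowers g = S := eq_of_le_sup_Phi (sup_le bS (zpowers_le.2 hg)) (by
    rw [sup_right_comm, sup_comm _ (𝚽 S), h.sup_eq_M3 he ne]
    exact (sup_zpowers_eq (p := 2) h.k h.M3_le (by have := h.lg_S; have := h.lg_M3; omega) hg c).ge)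
  exact h.nm (meta_of_sup ⟨bS, this.ge.trans (sup_le le_normalizer (zpowers_le.2 n))⟩ hg this.ge)

theorem der_eq (h : NB S x y) (cy : Cyc ⁅S, S⁆) (he : b ∈ M3 S x y) (ne : b ∉ 𝚽 S) : zpowers ⁅x, b⁆ = ⁅S, S⁆ :=
  have l := zpowers_le.2 (commutator_mem_commutator h.bic.hx (h.M3_le he))
  le_antisymm l (der_le_zpowers (h.gen he ne) (cy.le_norm l (der_normal S).norm))

theorem exists_z (h : NB S x y) (cy : Cyc ⁅S, S⁆) : ∃ z, ZD S z := by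
  obtain ⟨z, z0, z2, z1⟩ := exists_inv (h.k.le (der_le S)) fun c => h.nm (meta_of_sup ⟨zpowers_le.2 h.bic.hx,
    norm_of_cent ((der_eq_bot.1 c).cent le_rfl (zpowers_le.2 h.bic.hx))⟩ h.bic.hy h.bic.sup.ge)
  exact ⟨z, cy, z0, z2, z1, zpowers_le.1 (comm_eq_bot.1 (le_bot_iff.1 (comm_le_of_logn h.k (NormalIn.bot S)
    (cy.normalIn (zpowers_le.2 z0) (der_normal S)) bot_le (by have := lg_zpowers_le z2; omega))))⟩

theorem exists_b (h : NB S x y) (hz : ZD S z) : ∃ b ∈ M3 S x y, b ∉ 𝚽 S ∧ b ^ 2 ∈ zpowers z := by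
  obtain ⟨i, j, hi, hj, hb⟩ := (h.bic.meta_or h.k).resolve_left h.nm
  obtain ⟨he, ne⟩ := h.mem_M3 hi hj
  generalize x ^ i * y ^ j = b at *
  have e := h.der_eq hz.cy he ne
  have n : zpowers ⁅x, b⁆ ⊴ S := e ▸ der_normal S
  have l : Bl S ≤ zpowers (⁅x, b⁆ ^ 2) := by
    rw [Bl, ← e]
    refine sup_le (Phi_le_of_sq (h.k.le n.le) ?_) (commutator_comm S _ ▸ comm_cyc_le h.k n)
    rintro _ ⟨i, rfl⟩
    exact ⟨i, by simp only [← zpow_natCast, ← zpow_mul, mul_comm]⟩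
  obtain ⟨m, hm⟩ := comm_cyc_le h.k (normal_pow n 2) (commutator_mem_commutator h.bic.hx (l hb))
  obtain ⟨k, hk⟩ := l hb
  refine ⟨b, he, ne, hz.all (Bl_le_der S hb) ?_⟩
  rw [pow_two b, Transfer.commutatorElement_mul_right', ← inv_mul_eq_iff_eq_mul] at hm
  generalize ⁅x, b⁆ = d at *
  have e1 : ((b ^ 2) ^ 2) ^ (2 * m - 1) = 1 := by
    have : b * b ^ 2 * b⁻¹ = (b ^ 2) ^ (4 * m - 1) := by
      beta_reduce at hk hm
      nth_rw 1 [← hk]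
      rw [← conj_zpow, ← conj_pow, ← hm, ← hk]; group
    calc ((b ^ 2) ^ 2) ^ (2 * m - 1) = (b ^ 2) ^ (4 * m - 1) * (b * b ^ 2 * b⁻¹)⁻¹ := by group
      _ = 1 := by rw [this, mul_inv_cancel]
  have := mem_zpowers_odd (h.k.elt (pow_mem (pow_mem (h.M3_le he) 2) 2)) (a := (2 * m - 1).natAbs)
    (Int.natAbs_odd.2 ⟨m - 1, by ring⟩)
  rwa [pow_natAbs_eq_one.2 e1, zpowers_one_eq_bot, mem_bot] at this

theorem exists_c (h : NB S x y) (hz : ZD S z) (he : b ∈ M3 S x y) (ne : b ∉ 𝚽 S) (b2 : b ^ 2 ∈ zpowers z) :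
    ∃ c ∈ 𝚽 S ⊓ 𝐂₁ b, 𝚽 S ⊓ 𝐂₁ b ≤ zpowers z ⊔ zpowers c := by
  have bS := h.M3_le he
  have l : ⁅S, S⁆ ⊔ zpowers b ≤ S := sup_le (der_le S) (zpowers_le.2 bS)
  have n : S ≤ 𝐍 (⁅S, S⁆ ⊔ zpowers b : Subgroup G) := le_norm_iff.2 fun g hg u hu => by
    rw [conj_eq_comm]; exact mul_mem (mem_sup_left (commutator_mem_commutator hg (l hu))) hu
  have l1 : 𝚽 S ⊓ 𝐂₁ b ≤ S := inf_le_left.trans (Phi_le S)
  obtain ⟨c, hc, e⟩ := (cyc_qt_iff (l1.trans n)).1 (((cyc_qt_iff n).2 ⟨x, h.bic.hx, (h.gen he ne).ge.trans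
    (sup_le le_sup_right (le_sup_right.trans le_sup_left))⟩).mono (qt_mono _ l1))
  refine ⟨c, hc, fun u hu => ?_⟩
  obtain ⟨a, ha, i, rfl⟩ := (Fus.mem_sup_zpowers (n (l1 hc))).1 (e hu)
  have a1 := (mul_mem_cancel_right (zpow_mem hc i)).1 hu
  have a2 : a ∈ ⁅S, S⁆ := by_contra fun d => ne (((𝚽 S).mul_mem_cancel_left a1.1).1 (h.k.der_le_Phi
    (mul_mem_of_logn (h.k.le l) le_sup_left (lg_sup_zpowers_le ((der_normal S).norm bS) (zpowers_le.2 hz.mem b2)) ha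
      (mem_sup_right (mem_zpowers b)) d fun d => ne (h.k.der_le_Phi d))))
  have := h.invert he ne (zpowers_le.2 hz.cent b2) a2
  rw [← mem_cent1.1 a1.2, mul_inv_cancel_right, eq_inv_iff_mul_eq_one, ← pow_two] at this
  exact mul_mem (mem_sup_left (hz.all a2 this)) (mem_sup_right (zpow_mem (mem_zpowers c) i))

theorem abel_C (h : NB S x y) (hz : ZD S z) (he : b ∈ M3 S x y) (ne : b ∉ 𝚽 S) (b2 : b ^ 2 ∈ zpowers z) :
    Abel (𝚽 S ⊓ 𝐂₁ b) :=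
  let ⟨c, hc, e⟩ := h.exists_c hz he ne b2
  ((abel_zpowers z).sup (abel_zpowers c) (zpowers_le.2 (cent_anti (zpowers_le.2 (Phi_le S hc.1)) hz.cent))).mono e

theorem mem_of_comm (h : NB S x y) (he : b ∈ M3 S x y) (ne : b ∉ 𝚽 S) (l : 𝚽 S ⊓ 𝐂₁ b ≤ E) (hb : b ∈ E) (hg : g ∈ S)
    (c : g ∈ 𝐂₁ b) : g ∈ E := by
  by_cases d : g ∈ 𝚽 S
  · exact l ⟨d, c⟩
  · exact (mul_mem_cancel_right hb).1 (l ⟨h.mul_mem_Phi (h.mem_of_norm he ne hg (zpowers_le.1 (norm_of_cent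
      (zpowers_le.2 (cent_zpowers b ▸ c))))) he d ne, mul_mem c (self_mem_cent1 b)⟩)

theorem exists_v (h : NB S x y) (hz : ZD S z) (hd : g ∈ ⁅S, S⁆) (d2 : g ^ 2 ≠ 1) :
    ∃ v ∈ ⁅S, S⁆, v ^ 2 = z ∧ 𝚽 S ≤ 𝐂 (zpowers v) := by
  have l := zpowers_le.2 (pow_mem hd 2)
  obtain ⟨_, ⟨i, rfl⟩, j2, j1⟩ := exists_inv (h.k.le (l.trans (der_le S))) (by simpa using d2)
  have e := (eq_of_mem_zpowers_two hz.z2 (hz.all (l ⟨i, rfl⟩) j2)).resolve_left j1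
  have e1 : (g ^ i) ^ 2 = z := by rw [← e]; group
  refine ⟨_, zpow_mem hd i, e1, comm_eq_bot.1 (le_bot_iff.1 (comm_Phi_le_of_lg h.k (NormalIn.bot S)
    (hz.cy.normalIn (zpowers_le.2 (zpow_mem hd i)) (der_normal S)) bot_le ?_))⟩
  rw [Nat.card_zpowers, ord4 e1 hz.z2 hz.z1, logn_pow Nat.prime_two]; omega

theorem caseQ (h : NB S x y) (hz : ZD S z) (he : b ∈ M3 S x y) (ne : b ∉ 𝚽 S) (b2 : b ^ 2 = z) :
    ∃ E C v, CD S E C b v z := by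
  have bS := h.M3_le he
  have b3 : b ^ 2 ∈ zpowers z := b2 ▸ mem_zpowers _
  have inv := fun a (ha : a ∈ ⁅S, S⁆) => h.invert he ne (zpowers_le.2 hz.cent b3) ha
  have d0 := commutator_mem_commutator h.bic.hx bS
  obtain ⟨v, hv, v2, cv⟩ := h.exists_v hz d0 fun c => h.nx (h.mem_of_norm he ne h.bic.hx (norm_of_gen (bot_sup_eq _)
    (by simp) (conj_eq_comm x b ▸ mul_mem (zpowers_le.2 (b2 ▸ pow_mem (mem_zpowers b) 2) (hz.all d0 c))
      (mem_zpowers b))))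
  have vP := h.k.der_le_Phi hv
  have vS := der_le S hv
  have zC : z ∈ 𝚽 S ⊓ 𝐂₁ b := ⟨h.k.der_le_Phi hz.mem, mem_cent1.2 (mem_cent.1 hz.cent b bS).symm⟩
  have l : 𝚽 S ⊓ 𝐂₁ b ⊔ zpowers b ⊔ zpowers v ≤ M3 S x y :=
    sup_le (sup_le (inf_le_left.trans Phi_le_M3) (zpowers_le.2 he)) (zpowers_le.2 (Phi_le_M3 vP))
  have o4 := ord4 v2 hz.z2 hz.z1
  have nz : S ≤ 𝐍 (zpowers z) := norm_of_cent' (zpowers_le.2 hz.cent)
  have zv : zpowers z ≤ zpowers v := zpowers_le.2 (v2 ▸ pow_mem (mem_zpowers v) 2)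
  have lv : ℓ (zpowers v) ≤ ℓ (zpowers z) + 1 := by
    rw [lg_zpowers hz.z2 hz.z1, Nat.card_zpowers, o4, logn_pow Nat.prime_two]
  have kv := h.k.le (zpowers_le.2 vS)
  have nv : v ∉ zpowers z := fun c => hz.z1 (v2.symm.trans ((abelem_zpowers Nat.prime_two hz.z2).pow v c))
  have bv : ⁅b, v⁆ = z⁻¹ := by rw [commutatorElement_def, inv v hv, ← v2, pow_two, mul_inv_rev]
  refine ⟨_, 𝚽 S ⊓ 𝐂₁ b, v, l.trans_lt h.M3_lt, rfl, le_cent1_iff.1 inf_le_right,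
    zpowers_le.1 (cent_symm (inf_le_left.trans cv)), h.abel_C hz he ne b3, zC, hz.cent, hz.z2, b2, v2, ?_,
    fun c => ne c.1, fun c => hz.z1 ?_, fun c => ne ((mul_mem_cancel_right vP).1 c.1), ?_⟩
  · rw [show (b * v) ^ 2 = b * v * b⁻¹ * b ^ 2 * v by simp only [pow_two]; group, inv v hv, b2, mul_assoc,
      ← mem_cent.1 hz.cent v vS, inv_mul_cancel_left]
  · rwa [commutatorElement_eq_one_iff_mul_comm.2 (mem_cent1.1 c.2).symm, eq_comm, inv_eq_one] at bv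
  have lC : 𝚽 S ⊓ 𝐂₁ b ≤ 𝚽 S ⊓ 𝐂₁ b ⊔ zpowers b ⊔ zpowers v := le_sup_left.trans le_sup_left
  have bE : b ∈ 𝚽 S ⊓ 𝐂₁ b ⊔ zpowers b ⊔ zpowers v := mem_sup_left (mem_sup_right (mem_zpowers b))
  have vE : v ∈ 𝚽 S ⊓ 𝐂₁ b ⊔ zpowers b ⊔ zpowers v := mem_sup_right (mem_zpowers v)
  have lc : 𝚽 S ⊓ 𝐂₁ b ⊔ zpowers b ⊔ zpowers v ≤ cm1 b (zpowers z) := sup_le (sup_le (fun u hu =>
    ⟨nz (Phi_le S hu.1), commutatorElement_eq_one_iff_mul_comm.2 (mem_cent1.1 hu.2).symm ▸ one_mem _⟩)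
      (zpowers_le.2 ⟨nz bS, by simp⟩)) (zpowers_le.2 ⟨nz vS, bv ▸ inv_mem (mem_zpowers z)⟩)
  generalize 𝚽 S ⊓ 𝐂₁ b ⊔ zpowers b ⊔ zpowers v = E at *
  have A1 : ∀ n ∈ NS S E, ⁅n, b⁆ ∈ zpowers v := fun n hn => by
    have a1 := commutator_mem_commutator hn.1 bS
    have := (lc (mul_mem (conj_mem_of_norm hn.2 bE) (inv_mem bE))).2
    rw [← commutatorElement_def, commutatorElement_def b, inv _ a1, ← mul_inv_rev, ← pow_two, inv_mem_iff] at this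
    exact mem_of_dvd hz.cy a1 hv (by
      rw [o4, pow_succ, pow_mul, pow_one]; exact (abelem_zpowers Nat.prime_two hz.z2).pow _ this)
  intro n hn nn
  have a1 := commutator_mem_commutator hn.1 bS
  refine ⟨norm_of_maps fun u hu => ⟨(Phi_normal S).conj_mem hn.1 hu.1, mem_cent1.2 ?_⟩, ?_,
    conj_triv_of_lg kv zv lv (nz hn.1) (hz.cy.le_norm (zpowers_le.2 hv) (der_normal S).norm hn.1) (mem_zpowers v)⟩
  · have c : Commute (n⁻¹ * b * n⁻¹⁻¹) u := conj_eq_comm n⁻¹ b ▸ Commute.mul_left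
      (mem_cent.1 (cv hu.1) _ (A1 _ (inv_mem hn))) (mem_cent1.1 hu.2).symm
    calc n * u * n⁻¹ * b = n * (u * (n⁻¹ * b * n⁻¹⁻¹)) * n⁻¹ := by group
      _ = _ := by rw [← c.eq]; group
  · have := mul_mem_of_logn kv zv lv (A1 n hn) (mem_zpowers v) (fun c => nn (by
      rcases eq_of_mem_zpowers_two hz.z2 c with d | d
      · exact h.mem_of_comm he ne lC bE hn.1 (mem_cent1.2 (commutatorElement_eq_one_iff_mul_comm.1 d))
      · refine (mul_mem_cancel_left (inv_mem vE)).1 (h.mem_of_comm he ne lC bE (mul_mem (inv_mem vS) hn.1)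
          (mem_cent1.2 (mul_inv_eq_iff_eq_mul.1 ?_)))
        rw [show v⁻¹ * n * b * (v⁻¹ * n)⁻¹ = v⁻¹ * (n * b * n⁻¹) * v by group, conj_eq_comm n, d, ← inv_inv z, ← bv,
          commutatorElement_def]; group)) nv
    have e := inv _ (inv_mem a1)
    rw [conj_eq_comm n, show (b * v)⁻¹ * (⁅n, b⁆ * b) = v⁻¹ * b⁻¹ * ⁅n, b⁆⁻¹⁻¹ * b by group, ← e]
    simpa [mul_assoc] using inv_mem this

theorem caseD (h : NB S x y) (hz : ZD S z) (he : b ∈ M3 S x y) (ne : b ∉ 𝚽 S) (b2 : b ^ 2 = 1)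
    (nq : ∀ b ∈ M3 S x y, b ∉ 𝚽 S → b ^ 2 ≠ z) : ∃ E C, CD S E C b z 1 := by
  have bS := h.M3_le he
  have b3 : b ^ 2 ∈ zpowers z := b2 ▸ one_mem _
  have inv := fun a (ha : a ∈ ⁅S, S⁆) => h.invert he ne (zpowers_le.2 hz.cent b3) ha
  have d0 := commutator_mem_commutator h.bic.hx bS
  have zP := h.k.der_le_Phi hz.mem
  have bz : Commute b z := mem_cent.1 hz.cent b bS
  obtain ⟨C, C1, C2, C3⟩ : ∃ C, C ≤ 𝚽 S ⊓ 𝐂₁ b ∧ z ∉ C ∧ 𝚽 S ⊓ 𝐂₁ b ≤ zpowers z ⊔ C := by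
    obtain ⟨c, hc, e⟩ := h.exists_c hz he ne b3
    by_cases d : z ∈ zpowers c
    swap
    · exact ⟨_, zpowers_le.2 hc, d, e⟩
    obtain ⟨i, rfl⟩ := (mem_powers_iff_mem_zpowers (x := c)).2 d
    rcases Nat.even_or_odd i with ⟨j, rfl⟩ | o
    · have m := pow_mem hc j
      exact (nq (b * c ^ j) (mul_mem he (Phi_le_M3 m.1)) (by rwa [(𝚽 S).mul_mem_cancel_right m.1]) (by
        rw [Commute.mul_pow (mem_cent1.1 m.2).symm, b2, one_mul, pow_two, ← pow_add])).elim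
    · exact ⟨⊥, bot_le, hz.z1, e.trans (sup_le le_sup_left
        (zpowers_le.2 (mem_sup_left (mem_zpowers_odd (h.k.elt (Phi_le S hc.1)) o))))⟩
  obtain ⟨s, hs, s1, s2⟩ : ∃ s ∈ S, ⁅s, b⁆ = z ∧ s ∈ 𝐂 (𝚽 S) := by
    by_cases c : ⁅x, b⁆ ^ 2 = 1
    · have e := h.der_eq hz.cy he ne
      have l : ⁅S, S⁆ ≤ zpowers z := e.ge.trans (zpowers_le.2 (hz.all d0 c))
      refine ⟨x, h.bic.hx, (eq_of_mem_zpowers_two hz.z2 (l d0)).resolve_left fun d => hz.z1 (by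
        simpa [d] using e.ge hz.mem), cent_symm (comm_eq_bot.1 (le_bot_iff.1 (comm_Phi_le h.k (by simp)
          fun w hw m hm => comm_sq_mem (commutatorElement_eq_one_iff_mul_comm.2 (mem_cent.1 (zpowers_le.2 hz.cent
            (l (commutator_mem_commutator hw hm))) w hw)) ((abelem_zpowers Nat.prime_two hz.z2).pow _
              (l (commutator_mem_commutator hw hm)))))) h.bic.hx⟩
    · obtain ⟨v, hv, v2, cv⟩ := h.exists_v hz d0 c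
      exact ⟨v, der_le S hv, by rw [← commutatorElement_inv, commutatorElement_def, inv v hv, ← v2, pow_two]; simp,
        zpowers_le.1 (cent_symm cv)⟩
  have l : C ⊔ zpowers b ⊔ zpowers z ≤ M3 S x y :=
    sup_le (sup_le ((C1.trans inf_le_left).trans Phi_le_M3) (zpowers_le.2 he)) (zpowers_le.2 (Phi_le_M3 zP))
  have cb : b ∈ 𝐂 C := le_cent1_iff.1 (C1.trans inf_le_right)
  have cz : z ∈ 𝐂 C := cent_anti ((C1.trans inf_le_left).trans (Phi_le S)) hz.cent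
  have ab := (h.abel_C hz he ne b3).mono C1
  refine ⟨_, C, l.trans_lt h.M3_lt, rfl, cb, cz, ab, one_mem _, one_mem _, one_pow 2, b2, hz.z2,
    by rw [bz.mul_pow, b2, hz.z2, one_mul], fun c => ne (C1 c).1, C2,
    fun c => ne ((mul_mem_cancel_right zP).1 (C1 c).1), fun n hn nn => ?_⟩
  have lC : 𝚽 S ⊓ 𝐂₁ b ≤ C ⊔ zpowers b ⊔ zpowers z := C3.trans (sup_le le_sup_right (le_sup_left.trans le_sup_left))
  have bE : b ∈ C ⊔ zpowers b ⊔ zpowers z := mem_sup_left (mem_sup_right (mem_zpowers b))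
  have l1 : C ⊔ zpowers b ⊔ zpowers z ≤ 𝐂₁ b := sup_le (sup_le (C1.trans inf_le_right)
    (zpowers_le.2 (self_mem_cent1 b))) (zpowers_le.2 (mem_cent1.2 bz.symm))
  have l2 : C ⊔ zpowers b ⊔ zpowers z ≤ 𝐂 C := sup_le (sup_le ab (zpowers_le.2 cb)) (zpowers_le.2 cz)
  generalize C ⊔ zpowers b ⊔ zpowers z = E at *
  have a1 := commutator_mem_commutator hn.1 bS
  have a2 := inv _ a1
  rw [← mem_cent1.1 (l1 (show ⁅n, b⁆ ∈ E from mul_mem (conj_mem_of_norm hn.2 bE) (inv_mem bE))),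
    mul_inv_cancel_right, eq_inv_iff_mul_eq_one, ← pow_two] at a2
  have a3 := (eq_of_mem_zpowers_two hz.z2 (hz.all a1 a2)).resolve_left fun d =>
    nn (h.mem_of_comm he ne lC bE hn.1 (mem_cent1.2 (commutatorElement_eq_one_iff_mul_comm.1 d)))
  refine ⟨zpowers_le.1 (norm_of_cent (zpowers_le.2 ((mul_mem_cancel_left (inv_mem (cent_anti (C1.trans inf_le_left)
    s2))).1 (l2 (h.mem_of_comm he ne lC bE (mul_mem (inv_mem hs) hn.1)
      (mem_cent1.2 (mul_inv_eq_iff_eq_mul.1 ?_))))))), ?_, ?_⟩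
  · rw [show s⁻¹ * n * b * (s⁻¹ * n)⁻¹ = s⁻¹ * (n * b * n⁻¹) * s by group, conj_eq_comm n, a3, ← s1,
      commutatorElement_def]; group
  · rw [conj_eq_comm, a3, bz.eq, inv_mul_cancel]; exact one_mem _
  · rw [mem_cent.1 hz.cent n hn.1, mul_inv_cancel_right, inv_mul_cancel]; exact one_mem _

theorem exists_sat (h : NB S x y) (cy : Cyc ⁅S, S⁆) :
    ∃ F : FusionSystem S, Sat F 2 ∧ ∃ P, P ≤ S ∧ ¬ IsPGroup 2 (F.autGroup P) := by
  obtain ⟨z, hz⟩ := h.exists_z cy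
  obtain ⟨E, C, b, v, z, t⟩ : ∃ E C b v z, CD S E C b v z := by
    by_cases c : ∃ b ∈ M3 S x y, b ∉ 𝚽 S ∧ b ^ 2 = z
    · obtain ⟨b, he, ne, e⟩ := c
      obtain ⟨E, C, v, t⟩ := h.caseQ hz he ne e
      exact ⟨E, C, b, v, z, t⟩
    push Not at c
    obtain ⟨b, he, ne, e⟩ := h.exists_b hz
    obtain ⟨E, C, t⟩ := h.caseD hz he ne ((eq_of_mem_zpowers_two hz.z2 e).resolve_right (c b he ne)) c
    exact ⟨E, C, b, z, 1, t⟩
  obtain ⟨F, hF, e⟩ := t.exists_sat h.k.isPGroup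
  exact ⟨F, hF, E, t.lt.le, e⟩

end NB

end CF.Rt.BC
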