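import Cfsg.Agent.RI.BC10
import Cfsg.Agent.Ab2.CI

/-! A simple group normalized by a bicyclic `2`-group containing its Sylow subgroup has `2`-rank at most two. -/

set_option autoImplicit false
set_option linter.unusedSectionVars false

namespace CF.Rt.BC

open Subgroup CF.BG CF.BG2 CF.Pgp Cfsg
open scoped commutatorElement

variable {G : Type*} [Group G] [Finite G] {A B C D E H K L M N P Q R S T U W X : Subgroup G}
  {a b c e g h k m s t u v w x y z : G}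

/-- Thompson transfer -/
theorem tt (hT : Syl 2 T L) (pf : ⁅L, L⁆ = L) (hc : ⁅T, T⁆ ≤ M) (hw : w ∈ T) (w2 : w ^ 2 = 1) (nw : w ∉ M)
    (h : ∀ u ∈ T, u ^ 2 = 1 → u ∉ M → w⁻¹ * u ∈ M) : ∃ g ∈ L, g * w * g⁻¹ ∈ T ⊓ M := by
  by_contra! hn
  have h1 := hall_subgroupOf hT le_rfl
  rw [subgroupOf_self] at h1
  have h2 := h1.not_dvd Nat.prime_two
  rw [relIndex_top_right] at h2
  obtain ⟨K, -, hK, -, e⟩ := Transfer.exists_normal_of_transfer (G := L) (H := T.subgroupOf L)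
    (M := M.subgroupOf L) (commutator_le.2 fun a ha b hb => hc (commutator_mem_commutator ha hb))
  have w3 : (⟨w, hT.le hw⟩ : L) ^ 2 = 1 := Subtype.ext w2
  have := (e ⟨w, hT.le hw⟩ hw fun k g hg => ?_).1 (hK ((mem_map_iff_mem L.subtype_injective).1 (by
    rw [map_subtype_commutator, pf]; exact hT.le hw)))
  · rw [pow_odd_of_sq w3 (Nat.odd_iff.2 (by omega))] at this
    exact nw this
  rcases k.even_or_odd with o | o
  · simp [pow_even_of_sq w3 o, one_mem]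
  · rw [pow_odd_of_sq w3 o] at hg ⊢
    refine h _ hg ?_ fun c => hn g⁻¹ (inv_mem g.2) ⟨by rwa [inv_inv], by rwa [inv_inv]⟩
    have : ((g⁻¹ * ⟨w, hT.le hw⟩ * g⁻¹⁻¹ : L)) ^ 2 = 1 := by rw [conj_pow, w3]; simp
    rw [inv_inv] at this
    exact congrArg Subtype.val this

namespace NB

theorem D_norm (he : e ∈ S) : S ≤ 𝐍 (⁅S, S⁆ ⊔ zpowers e : Subgroup G) :=
  norm_of_der_le (sup_le (der_le S) (zpowers_le.2 he)) le_sup_left

theorem D_cases (h : NB S x y) (he : e ∈ S) (e2 : e ^ 2 = 1) (ne : e ∉ 𝚽 S)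
    (hg : g ∈ ⁅S, S⁆ ⊔ zpowers e) : g ∈ ⁅S, S⁆ ∨ g * e ∈ ⁅S, S⁆ :=
  or_iff_not_imp_left.2 fun d => mul_mem_of_logn (h.k.le (sup_le (der_le S) (zpowers_le.2 he))) le_sup_left
    (lg_sup_zpowers_le ((der_normal S).norm he) (e2 ▸ one_mem _)) hg (mem_sup_right (mem_zpowers e)) d
      fun d => ne (h.k.der_le_Phi d)

theorem D_uniq (h : NB S x y) (he : e ∈ M3 S x y) (ne : e ∉ 𝚽 S) (hu : u ∈ S) (hv : v ∈ S) (u2 : u ^ 2 = 1)
    (v2 : v ^ 2 = 1) (nu : u ∉ ⁅S, S⁆ ⊔ zpowers e) (nv : v ∉ ⁅S, S⁆ ⊔ zpowers e) :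
    u⁻¹ * v ∈ ⁅S, S⁆ ⊔ zpowers e := by
  have n := D_norm (h.M3_le he)
  have c := (cyc_qt_iff n).2 ⟨x, h.bic.hx, (h.gen he ne).ge.trans
    (sup_le le_sup_right (le_sup_right.trans le_sup_left))⟩
  have t : ∀ {u}, u ∈ S → u ^ 2 = 1 → qe (⁅S, S⁆ ⊔ zpowers e) u ^ 2 = 1 := fun hu u2 => by
    rw [← qe_pow (n hu), u2, qe_one]
  have u1 := mt (qe_eq_one (n hu)).1 nu
  rw [← qe_eq_iff (n hu) (n hv)]
  exact ((eq_of_mem_zpowers_two (t hu u2) (mem_of_dvd c (qe_mem_qt hv (n hv)) (qe_mem_qt hu (n hu)) (by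
    rw [orderOf_eq_prime (t hu u2) u1, t hv v2]))).resolve_left (mt (qe_eq_one (n hv)).1 nv)).symm

theorem mul_mem' (h : NB S x y) (ha : a ∈ M3 S x y) (na : a ∉ 𝚽 S) (hw : w ∈ 𝚽 S) :
    a * w ∈ M3 S x y ∧ a * w ∉ 𝚽 S :=
  ⟨mul_mem ha (Phi_le_M3 hw), fun c => na ((mul_mem_cancel_right hw).1 c)⟩

theorem cent_w (h : NB S x y) (hz : ZD S z) (ha : a ∈ M3 S x y) (na : a ∉ 𝚽 S) (a2 : a ^ 2 = 1) (hw : w ∈ 𝚽 S)
    (w2 : w ^ 2 = 1) (c : Commute a w) :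
    ⁅S, S⁆ ≤ 𝐂₁ w ∧ (∀ g ∈ S, ⁅g, w⁆ ∈ zpowers z) ∧ M3 S x y ≤ 𝐂₁ w := by
  obtain ⟨h1, h2⟩ := h.mul_mem' ha na hw
  have c1 : ⁅S, S⁆ ≤ 𝐂₁ w := fun s hs => by
    have e1 := h.invert h1 h2 (by rw [c.mul_pow, a2, w2, mul_one]; exact one_mem _) hs
    rw [← h.invert ha na (a2 ▸ one_mem _) hs] at e1
    rw [mem_cent1]
    calc s * w = a⁻¹ * (a * s * a⁻¹) * a * w := by group
      _ = _ := by rw [← e1]; group
  have c2 : ∀ g ∈ S, ⁅g, w⁆ ∈ zpowers z := fun g hg => by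
    have m := commutator_mem_commutator hg (Phi_le S hw)
    refine hz.all m ?_
    have : (g * w * g⁻¹) ^ 2 = 1 := by rw [conj_pow, w2]; simp
    rwa [conj_eq_comm, (show Commute ⁅g, w⁆ w from mem_cent1.1 (c1 m)).mul_pow, w2, mul_one] at this
  refine ⟨c1, c2, (h.sup_eq_M3 ha na).ge.trans (sup_le (Phi_le_of_sq h.k fun g hg => mem_cent1.2 ?_)
    (zpowers_le.2 (mem_cent1.2 c.eq)))⟩
  have e1 := conj_eq_comm g w
  have e2 := (abelem_zpowers Nat.prime_two hz.z2).pow _ (c2 g hg)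
  have e3 := mem_cent.1 (zpowers_le.2 hz.cent (c2 g hg)) g hg
  generalize ⁅g, w⁆ = s at *
  calc g ^ 2 * w = g * (g * w * g⁻¹) * g := by simp only [pow_two]; group
    _ = g * s * w * g := by rw [e1]; group
    _ = s * (g * w * g⁻¹) * g ^ 2 := by rw [e3]; simp only [pow_two]; group
    _ = s ^ 2 * w * g ^ 2 := by rw [e1]; simp only [pow_two]; group
    _ = _ := by rw [e2, one_mul]

theorem not_conj (h : NB S x y) (hz : ZD S z) (n : S ≤ 𝐍 L) (hT : Syl 2 (S ⊓ L) L) (l : S ⊓ L ≤ M3 S x y)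
    (ha : a ∈ S ⊓ L) (na : a ∉ 𝚽 S) (a2 : a ^ 2 = 1) (hw : w ∈ 𝚽 S) (w2 : w ^ 2 = 1) (c : Commute a w)
    (nw : w ∉ zpowers z) (hg : g ∈ L) (e : g * z * g⁻¹ = w) : False := by
  obtain ⟨c1, c2, c3⟩ := h.cent_w hz (l ha) na a2 hw w2 c
  have nT : S ≤ 𝐍 (S ⊓ L : Subgroup G) := norm_inf (le_norm_self S) n
  have cm : ∀ g ∈ S, ∀ v ∈ S ⊓ L, ⁅g, v⁆ ∈ S ⊓ L := fun g hg v hv =>
    mul_mem (conj_mem_of_norm (nT hg) hv) (inv_mem hv)
  have de := h.der_eq hz.cy (l ha) na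
  have dT : ⁅S, S⁆ ≤ S ⊓ L := de ▸ zpowers_le.2 (cm x h.bic.hx a ha)
  have zc : z ∈ 𝐂 (S ⊓ L : Subgroup G) := cent_anti inf_le_left hz.cent
  obtain ⟨m, hm, e1⟩ := Ab2.burnside_fusion hT zc hg (e ▸ le_cent1_iff.1 (l.trans c3))
  have mL : m ∈ L := hm.1
  have mN : m ∈ 𝐍 (S ⊓ L : Subgroup G) := hm.2
  rw [e] at e1
  have lS : S ⊓ L ≤ S := inf_le_left
  have lL : S ⊓ L ≤ L := inf_le_right
  generalize S ⊓ L = T at *
  by_cases ab : Abel T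
  swap
  · obtain ⟨j, j0, j2, j1⟩ := exists_inv (hT.pi.le (der_le T)) (mt der_eq_bot.1 ab)
    obtain rfl := (eq_of_mem_zpowers_two hz.z2 (hz.all (der_mono lS j0) j2)).resolve_left j1
    exact nw (hz.all (der_mono lS (e1 ▸ conj_mem_of_norm (norm_der T mN) j0)) w2)
  have d0 := commutator_mem_commutator h.bic.hx (lS ha)
  have dz : ⁅S, S⁆ ≤ zpowers z := de ▸ zpowers_le.2 (hz.all d0 (by
    have := h.invert (l ha) na (a2 ▸ one_mem _) d0
    rwa [ab.mul_comm ha (dT d0), mul_inv_cancel_right, eq_inv_iff_mul_eq_one, ← pow_two] at this))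
  have nx : ∀ b ∈ M3 S x y, b ∉ 𝚽 S → ⁅x, b⁆ = z := fun b hb nb =>
    (eq_of_mem_zpowers_two hz.z2 (dz (commutator_mem_commutator h.bic.hx (h.M3_le hb)))).resolve_left fun d =>
      h.nx (h.mem_of_norm hb nb h.bic.hx (zpowers_le.1 (norm_of_cent (zpowers_le.2 (cent_zpowers b ▸
        mem_cent1.2 (commutatorElement_eq_one_iff_mul_comm.1 d))))))
  have zz : z * z = 1 := by rw [← pow_two, hz.z2]
  have xw : x * w * x⁻¹ = w := by
    obtain ⟨h1, h2⟩ := h.mul_mem' (l ha) na hw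
    have := conj_eq_comm x (a * w)
    rw [nx _ h1 h2, show x * (a * w) * x⁻¹ = x * a * x⁻¹ * (x * w * x⁻¹) by group, conj_eq_comm x a,
      nx _ (l ha) na, mul_assoc] at this
    exact mul_left_cancel (mul_left_cancel this)
  have xz : x * z = z * x := mem_cent.1 hz.cent x h.bic.hx
  have xN := nT h.bic.hx
  have zT := dT hz.mem
  have wT : w ∈ T := e1 ▸ conj_mem_of_norm mN zT
  have ww : w * w = 1 := by rw [← pow_two, w2]
  have tau : ∀ v ∈ T, m * x * m⁻¹ * v * (m * x * m⁻¹)⁻¹ = v ∨ m * x * m⁻¹ * v * (m * x * m⁻¹)⁻¹ = w * v :=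
    fun v hv => by
      have e2 : m * x * m⁻¹ * v * (m * x * m⁻¹)⁻¹ = m * ⁅x, m⁻¹ * v * m⁆ * m⁻¹ * v := by
        rw [commutatorElement_def]; group
      rcases eq_of_mem_zpowers_two hz.z2 (dz (commutator_mem_commutator h.bic.hx
        (lS (conj_mem_of_norm' mN hv)))) with d | d <;> rw [d] at e2
      · exact .inl (by simpa using e2)
      · exact .inr (e1 ▸ e2)
  have tw : m * x * m⁻¹ * w * (m * x * m⁻¹)⁻¹ = w := by
    rw [← e1]
    calc _ = m * (x * z) * x⁻¹ * m⁻¹ := by group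
      _ = _ := by rw [xz]; group
  have hq : x⁻¹ * (m * x * m⁻¹) ∈ L ⊓ 𝐍 T := mem_inf.2 ⟨by
    simpa only [mul_assoc] using mul_mem (conj_mem_of_norm' (n h.bic.hx) mL) (inv_mem mL),
    mul_mem (inv_mem xN) (mul_mem (mul_mem mN xN) (inv_mem mN))⟩
  have sg : ∀ v ∈ T, x⁻¹ * v * x = v ∨ x⁻¹ * v * x = z * v := fun v hv => by
    have := conj_eq_comm x⁻¹ v
    rw [inv_inv] at this
    rcases eq_of_mem_zpowers_two hz.z2 (dz (commutator_mem_commutator (inv_mem h.bic.hx) (lS hv))) with d | d <;>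
      rw [d] at this
    exacts [.inl (by simpa using this), .inr this]
  have xw' : x⁻¹ * w * x = w := by nth_rw 1 [← xw]; group
  have xz' : x⁻¹ * z * x = z := by rw [mul_assoc, ← xz]; group
  generalize m * x * m⁻¹ = x' at *
  have ph : ∀ v, x⁻¹ * x' * v * (x⁻¹ * x')⁻¹ = x⁻¹ * (x' * v * x'⁻¹) * x := fun v => by group
  have : x⁻¹ * x' ∈ 𝐂 T := by
    have e4 : ∀ v ∈ T, x⁻¹ * x' * v * (x⁻¹ * x')⁻¹ = v ∨ x⁻¹ * x' * v * (x⁻¹ * x')⁻¹ = z * v ∨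
        x⁻¹ * x' * v * (x⁻¹ * x')⁻¹ = w * v ∨ x⁻¹ * x' * v * (x⁻¹ * x')⁻¹ = w * (z * v) := fun v hv => by
      have : x⁻¹ * (w * v) * x = w * (x⁻¹ * v * x) := by nth_rw 2 [← xw']; group
      rw [ph]
      rcases tau v hv with d | d <;> rcases sg v hv with d' | d' <;> simp only [d, this, d'] <;> simp
    have ew : x⁻¹ * x' * w * (x⁻¹ * x')⁻¹ = w := by rw [ph, tw, xw']
    have ez : x⁻¹ * x' * z * (x⁻¹ * x')⁻¹ = z ∨ x⁻¹ * x' * z * (x⁻¹ * x')⁻¹ = w * z := by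
      have : x⁻¹ * (w * z) * x = w * z := by nth_rw 2 [← xw', ← xz']; group
      rw [ph]
      rcases tau z zT with d | d <;> simp only [d, this, xz'] <;> simp
    generalize x⁻¹ * x' = q at *
    have zw : z * w = w * z := ab.mul_comm zT wT
    have ml : ∀ u v, q * (u * v) * q⁻¹ = q * u * q⁻¹ * (q * v * q⁻¹) := fun u v => by group
    have e5 : ∀ v ∈ T, q * (q * v * q⁻¹) * q⁻¹ = v ∨ q * (q * v * q⁻¹) * q⁻¹ = w * v := fun v hv => by
      have z1 : ∀ u, z * (z * u) = u := fun u => by rw [← mul_assoc, zz, one_mul]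
      have w1 : ∀ u, w * (w * u) = u := fun u => by rw [← mul_assoc, ww, one_mul]
      have zw1 : ∀ u, z * (w * u) = w * (z * u) := fun u => by rw [← mul_assoc, zw, mul_assoc]
      rcases e4 v hv with d | d | d | d <;> rcases ez with d' | d' <;>
        simp only [d, ml, d', ew] <;> simp [mul_assoc, z1, w1, zw1]
    refine Transfer.mem_of_pow_mem_of_coprime (n := 2 ^ 2) (inf_le_right.trans (norm_le_norm_cent T))
      (Nat.Coprime.pow_left 2 ((Nat.Prime.coprime_iff_not_dvd Nat.prime_two).2 fun d =>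
        hT.norm_self.not_dvd Nat.prime_two (d.trans (relIndex_dvd_of_le_left _ (ab.cent le_rfl le_rfl))))) hq
      (mem_cent.2 fun v hv => ?_)
    have : q * (q * (q * (q * v * q⁻¹) * q⁻¹) * q⁻¹) * q⁻¹ = v := by
      rcases e5 v hv with d | d
      · rw [d, d]
      · rw [d, ml w v, ew, ml w, ew, d, ← mul_assoc, ww, one_mul]
    nth_rw 1 [← this]
    simp only [pow_succ, pow_zero, one_mul, mul_one, Nat.reduceMul]
    group
  have e6 : x' * a * x'⁻¹ = z * a := by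
    rw [← nx _ (l ha) na, ← conj_eq_comm]
    calc _ = x * (x⁻¹ * x' * a) * x'⁻¹ := by group
      _ = _ := by rw [← mem_cent.1 this a ha]; group
  rcases tau a ha with d | d <;> rw [e6] at d
  · exact hz.z1 (by simpa using d)
  · exact nw (mul_right_cancel d ▸ mem_zpowers z)

theorem not_D (h : NB S x y) (hz : ZD S z) (he : e ∈ S) (e2 : e ^ 2 = 1) (ne : e ∉ 𝚽 S) (hw : w ∈ 𝚽 S)
    (w2 : w ^ 2 = 1) (nw : w ∉ zpowers z) : w ∉ ⁅S, S⁆ ⊔ zpowers e := fun c =>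
  (h.D_cases he e2 ne c).elim (fun d => nw (hz.all d w2)) fun d =>
    ne (((𝚽 S).mul_mem_cancel_left hw).1 (h.k.der_le_Phi d))

theorem no_E8 (h : NB S x y) (cy : Cyc ⁅S, S⁆) (hL : Ab2.NS L) (n : S ≤ 𝐍 L) (hT : Syl 2 (S ⊓ L) L)
    (l : S ⊓ L ≤ M3 S x y) (hU : U ≤ S ⊓ L) (ab : Abel U) (sq : ∀ u ∈ U, u ^ 2 = 1) : ℓ U ≤ 2 := by
  by_contra c
  obtain ⟨z, hz⟩ := h.exists_z cy
  have r : ∀ V, V ≤ U → V ≤ 𝚽 S → ℓ V ≤ 2 := fun V h1 h2 => by
    have := meta_sr2 (h.k.le (Phi_le S)) h.meta_Phi V ⊥ h2 bot_le fun u hu => sq u (h1 hu)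
    rwa [lg_bot] at this
  obtain ⟨a, ha, na⟩ := SetLike.not_le_iff_exists.1 fun d => c (r U le_rfl d)
  obtain ⟨w, hw, nw⟩ := SetLike.not_le_iff_exists.1 fun d : U ⊓ 𝚽 S ≤ zpowers z => by
    have := h.lg_inf (hU.trans l)
    have := logn_card_le (p := 2) d
    have := lg_zpowers_le hz.z2
    omega
  have aT := hU ha
  have a2 := sq a ha
  have w2 := sq w hw.1
  have cw : Commute a w := ab.mul_comm ha hw.1
  have c1 := (h.cent_w hz (l aT) na a2 hw.2 w2 cw).1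
  have nT : S ≤ 𝐍 (S ⊓ L : Subgroup G) := norm_inf (le_norm_self S) n
  have dT : ⁅S, S⁆ ≤ S ⊓ L := h.der_eq hz.cy (l aT) na ▸
    zpowers_le.2 (mul_mem (conj_mem_of_norm (nT h.bic.hx) aT) (inv_mem aT))
  obtain ⟨g, hg, hu, ne⟩ := hL.exists_conj hT (dT hz.mem) hz.z1
  have u2 : (g * z * g⁻¹) ^ 2 = 1 := by rw [conj_pow, hz.z2]; simp
  have nu : g * z * g⁻¹ ∉ 𝚽 S := fun d => by
    have nz : g * z * g⁻¹ ∉ zpowers z := fun d =>
      (eq_of_mem_zpowers_two hz.z2 d).elim (fun d => hz.z1 (conj_eq_one_iff.1 d)) ne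
    refine h.not_conj hz n hT l aT na a2 d u2 ?_ nz hg rfl
    generalize g * z * g⁻¹ = v at *
    have := (h.D_cases aT.1 a2 na (h.D_uniq (l aT) na (hU hw.1).1 hu.1 w2 u2 (h.not_D hz aT.1 a2 na hw.2 w2 nw)
      (h.not_D hz aT.1 a2 na d u2 nz))).resolve_right fun k =>
        na (((𝚽 S).mul_mem_cancel_left (mul_mem (inv_mem hw.2) d)).1 (h.k.der_le_Phi k))
    obtain ⟨s, rfl⟩ : ∃ s, v = w * s := ⟨w⁻¹ * v, by simp⟩
    rw [inv_mul_cancel_left] at this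
    rw [(show Commute w s from (mem_cent1.1 (c1 this)).symm).mul_pow, w2, one_mul] at u2
    exact cw.mul_right (mem_cent.1 (zpowers_le.2 hz.cent (hz.all this u2)) a aT.1)
  have e0 : x * (g * z * g⁻¹) * x⁻¹ = x * g * x⁻¹ * z * (x * g * x⁻¹)⁻¹ := by
    calc _ = x * g * x⁻¹ * (x * z) * g⁻¹ * x⁻¹ := by group
      _ = _ := by rw [mem_cent.1 hz.cent x h.bic.hx]; group
  have nD := h.not_D hz hu.1 u2 nu hw.2 w2 nw
  obtain ⟨k, hk, v1, v2⟩ := tt hT hL.perf ((der_mono inf_le_left).trans le_sup_left) (hU hw.1) w2 nD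
    fun v hv v2 nv => h.D_uniq (l hu) nu (hU hw.1).1 hv.1 w2 v2 nD nv
  have v3 : (k * w * k⁻¹) ^ 2 = 1 := by rw [conj_pow, w2]; simp
  suffices ∃ m ∈ L, m * z * m⁻¹ = k * w * k⁻¹ by
    obtain ⟨m, hm, e⟩ := this
    refine h.not_conj hz n hT l aT na a2 hw.2 w2 cw nw (mul_mem (inv_mem hk) hm) ?_
    calc _ = k⁻¹ * (m * z * m⁻¹) * k := by group
      _ = _ := by rw [e]; group
  rcases h.D_cases hu.1 u2 nu v2 with d | d
  · exact ⟨1, one_mem _, by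
      rw [(eq_of_mem_zpowers_two hz.z2 (hz.all d v3)).resolve_left fun d =>
        nw (conj_eq_one_iff.1 d ▸ one_mem _)]; simp⟩
  have de := h.der_eq hz.cy (l hu) nu
  have inv := fun s (hs : s ∈ ⁅S, S⁆) => h.invert (l hu) nu (u2 ▸ one_mem _) hs
  have e1 := conj_eq_comm x (g * z * g⁻¹)
  have d0 := commutator_mem_commutator h.bic.hx hu.1
  obtain ⟨i, hi⟩ := de.ge d
  have e2 : k * w * k⁻¹ = ⁅x, g * z * g⁻¹⁆ ^ i * (g * z * g⁻¹) := by
    beta_reduce at hi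
    rw [hi, mul_assoc (k * w * k⁻¹), ← pow_two, u2, mul_one]
  rw [e2]
  generalize ⁅x, g * z * g⁻¹⁆ = s at *
  have e3 : ∀ j : ℤ, g * z * g⁻¹ * (s ^ j)⁻¹ = s ^ j * (g * z * g⁻¹) := fun j => by
    have := inv _ (inv_mem (zpow_mem d0 j))
    rwa [inv_inv, mul_inv_eq_iff_eq_mul] at this
  have sL : ∀ j : ℤ, s ^ j ∈ L := fun j => (dT (zpow_mem d0 j)).2
  obtain ⟨j, rfl | rfl⟩ := Int.even_or_odd' i
  · refine ⟨s ^ j * g, mul_mem (sL j) hg, ?_⟩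
    calc _ = s ^ j * (g * z * g⁻¹ * (s ^ j)⁻¹) := by group
      _ = _ := by rw [e3]; group
  · refine ⟨s ^ j * (x * g * x⁻¹), mul_mem (sL j) (conj_mem_of_norm (n h.bic.hx) hg), ?_⟩
    calc _ = s ^ j * (x * g * x⁻¹ * z * (x * g * x⁻¹)⁻¹) * (s ^ j)⁻¹ := by group
      _ = s ^ j * s * (g * z * g⁻¹ * (s ^ j)⁻¹) := by rw [← e0, e1]; group
      _ = _ := by rw [e3]; group

end NB

end CF.Rt.BC
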