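import Cfsg.Agent.RI.BC1
import Cfsg.Agent.S0572

/-! Bicyclic `2`-groups that are not metacyclic: maximal subgroups and the derived subgroup. -/

set_option autoImplicit false
set_option linter.unusedSectionVars false

namespace CF.Rt.BC

open Subgroup CF.BG CF.BG2 CF.Pgp
open scoped commutatorElement

scoped notation:max "ℓ " H:max => CF.BG.logn 2 (Nat.card (↥H))

variable {G : Type*} [Group G] [Finite G] {A B C D E H K L M N P Q R S W X : Subgroup G}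
  {a b c e g h k s t u w x y z : G}

theorem lg_sup_zpowers_le (n : x ∈ 𝐍 H) (e : x ^ 2 ∈ H) : ℓ (H ⊔ zpowers x : Subgroup G) ≤ ℓ H + 1 := by
  by_cases h : x ∈ H
  · rw [sup_eq_left.2 (zpowers_le.2 h)]; omega
  · exact (logn_sup_zpowers Nat.prime_two n h e).le

theorem norm_of_Phi_le (k : PiGrp {2} P) (h1 : 𝚽 P ≤ H) (h2 : H ≤ P) : P ≤ 𝐍 H :=
  norm_of_der_le h2 (k.der_le_Phi.trans h1)

theorem lg_le_of_sup (k : PiGrp {2} P) (e : zpowers s ⊔ zpowers t = P) : ℓ P ≤ ℓ (𝚽 P) + 2 := by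
  have hs : s ∈ P := e.le (mem_sup_left (mem_zpowers s))
  have ht : t ∈ P := e.le (mem_sup_right (mem_zpowers t))
  have l1 := lg_sup_zpowers_le ((Phi_normal P).norm hs) (k.pow_mem_Phi hs)
  have l2 := lg_sup_zpowers_le (H := 𝚽 P ⊔ zpowers s) (norm_of_Phi_le k le_sup_left
    (sup_le (Phi_le P) (zpowers_le.2 hs)) ht) (mem_sup_left (k.pow_mem_Phi ht))
  have l3 := logn_card_le (p := 2) (show P ≤ 𝚽 P ⊔ zpowers s ⊔ zpowers t by rw [sup_assoc, e]; exact le_sup_right)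
  omega

theorem meta_gen (h : Meta P) : ∃ k ∈ P, ∃ g ∈ P, zpowers k ⊴ P ∧ zpowers k ⊔ zpowers g = P := by
  obtain ⟨S, s1, s2, s3⟩ := h
  obtain ⟨k, rfl⟩ := s2.exists_gen
  obtain ⟨g, g1, e⟩ := (cyc_qt_iff s1.norm).1 s3
  exact ⟨k, s1.le (mem_zpowers k), g, g1, s1, le_antisymm (sup_le s1.le (zpowers_le.2 g1)) e⟩

theorem meta_lg (k : PiGrp {2} P) (h : Meta P) : ℓ P ≤ ℓ (𝚽 P) + 2 :=
  let ⟨_, _, _, _, _, e⟩ := meta_gen h
  lg_le_of_sup k e

theorem Phi_le_of_sq (k : PiGrp {2} P) (h : ∀ x ∈ P, x ^ 2 ∈ K) : 𝚽 P ≤ K := k.Phi_le_iff.2 ⟨der_le_of_sq h, h⟩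

theorem meta_sr2 (k : PiGrp {2} P) (h : Meta P) : SR2 P := fun H K a _ c => by
  have := meta_lg (k.le a) (h.mono a)
  have := logn_card_le (p := 2) (Phi_le_of_sq (k.le a) c)
  omega

theorem meta_of_proper (k : PiGrp {2} P) (l : ℓ P ≤ ℓ (𝚽 P) + 2) (h : ∀ H, H < P → Meta H) : Meta P := by
  refine meta_of_sr2 k fun H K a b c => ?_
  rcases a.eq_or_lt with rfl | a'
  · have := logn_card_le (p := 2) (Phi_le_of_sq k c)
    omega
  · exact meta_sr2 (k.le a) (h H a') H K le_rfl b c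

theorem der_le_of_gen (e : zpowers s ⊔ zpowers t = P) (n : P ≤ 𝐍 N) (h : ⁅s, t⁆ ∈ N) : ⁅P, P⁆ ≤ N := by
  have hs : s ∈ P := e.le (mem_sup_left (mem_zpowers s))
  have ht : t ∈ P := e.le (mem_sup_right (mem_zpowers t))
  rw [← abel_qt_iff n, ← e, qt_sup (zpowers_le.2 (n hs)) (zpowers_le.2 (n ht)), qt_zpowers (n hs),
    qt_zpowers (n ht)]
  refine (abel_zpowers _).sup (abel_zpowers _) (zpowers_le.2 ?_)
  rw [cent_zpowers, mem_cent1, ← commutatorElement_eq_one_iff_mul_comm, ← qe_comm (n hs) (n ht), qe_of_mem h]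

theorem comm_sq_mem (h1 : ⁅w, ⁅w, h⁆⁆ ∈ K) (h2 : ⁅w, h⁆ ^ 2 ∈ K) : ⁅w ^ 2, h⁆ ∈ K := by
  rw [show ⁅w ^ 2, h⁆ = ⁅w, ⁅w, h⁆⁆ * ⁅w, h⁆ ^ 2 by simp only [pow_two, commutatorElement_def]; group]
  exact mul_mem h1 h2

theorem comm_Phi_le (k : PiGrp {2} P) (n : P ≤ 𝐍 K) (h : ∀ w ∈ P, ∀ m ∈ M, ⁅w ^ 2, m⁆ ∈ K) : ⁅𝚽 P, M⁆ ≤ K :=
  (le_centMod.1 (Phi_le_of_sq k fun w hw => mem_centMod.2 ⟨pow_mem (n hw) 2, h w hw⟩)).2

theorem sq_mem_of_lg (k : PiGrp {2} L) (h : K ≤ L) (l : ℓ L ≤ ℓ K + 1) (hx : x ∈ L) : x ^ 2 ∈ K := by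
  by_cases c : x ∈ K
  · exact pow_mem c 2
  · exact pow_two x ▸ mul_mem_of_logn k h l hx hx c c

/-- the Frattini subgroup centralizes normal sections of order four -/
theorem comm_Phi_le_of_lg (k : PiGrp {2} P) (hK : K ⊴ P) (hM : M ⊴ P) (l : K ≤ M) (h : ℓ M ≤ ℓ K + 2) :
    ⁅𝚽 P, M⁆ ≤ K := by
  have h0 := logn_card_le (p := 2) l
  obtain ⟨L, l1, l2, l3, l4⟩ := exists_normal_between k hK hM l (r := min (ℓ K + 1) (ℓ M)) (by omega) (by omega)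
  have c1 := comm_le_of_logn k l3 hM l2 (by omega)
  have c2 := comm_le_of_logn k hK l3 l1 (by omega)
  rw [commutator_comm] at c1 c2
  refine comm_Phi_le k hK.norm fun w hw m hm => ?_
  have := c1 (commutator_mem_commutator hw hm)
  exact comm_sq_mem (c2 (commutator_mem_commutator hw this)) (sq_mem_of_lg (k.le l3.le) l1 (by omega) this)

theorem comm_cyc_le (kX : PiGrp {2} X) (n : zpowers k ⊴ X) : ⁅X, zpowers k⁆ ≤ zpowers (k ^ 2) := by
  rw [commutator_comm]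
  by_cases h : k = 1
  · simp [h]
  · exact le_zpowers_pow Nat.prime_two (kX.elt (n.le (mem_zpowers k))) (kX.nil.comm_lt n (by simpa using h))

theorem normal_pow (n : zpowers k ⊴ X) (m : ℕ) : zpowers (k ^ m) ⊴ X :=
  have l := zpowers_le.2 (pow_mem (mem_zpowers k) m)
  ⟨l.trans n.le, (cyc_zpowers k).le_norm l n.norm⟩

theorem meta_der_le (kX : PiGrp {2} X) (n : zpowers k ⊴ X) (e : zpowers k ⊔ zpowers g = X) :
    ⁅X, X⁆ ≤ zpowers (k ^ 2) := by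
  refine der_le_of_gen ((sup_comm _ _).trans e) (normal_pow n 2).norm (comm_cyc_le kX n ?_)
  exact commutator_mem_commutator (e.le (mem_sup_right (mem_zpowers g))) (mem_zpowers k)

theorem meta_sq_comm (kX : PiGrp {2} X) (n : zpowers k ⊴ X) (e : zpowers k ⊔ zpowers g = X) (hw : w ∈ X)
    (hh : h ∈ X) : ⁅w ^ 2, h⁆ ∈ zpowers ((k ^ 2) ^ 2) := by
  have a := meta_der_le kX n e (commutator_mem_commutator hw hh)
  refine comm_sq_mem (comm_cyc_le kX (normal_pow n 2) (commutator_mem_commutator hw a)) ?_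
  obtain ⟨i, hi⟩ := a
  exact ⟨i, by beta_reduce at hi ⊢; rw [← hi, ← zpow_natCast, ← zpow_natCast (_ ^ i), zpow_comm]⟩

theorem meta_sq_comm_k (kX : PiGrp {2} X) (n : zpowers k ⊴ X) (hw : w ∈ X) :
    ⁅w ^ 2, k⁆ ∈ zpowers (((k ^ 2) ^ 2) ^ 2) := by
  obtain ⟨a, ha⟩ := (mem_powers_iff_mem_zpowers (x := k ^ 2)).2
    (comm_cyc_le kX n (commutator_mem_commutator hw (mem_zpowers k)))
  beta_reduce at ha
  have e1 : w * k * w⁻¹ = k ^ (2 * a + 1) := by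
    rw [pow_succ, pow_mul, ha, commutatorElement_def]; group
  obtain ⟨b, hb⟩ := Nat.even_mul_succ_self a
  have e2 : ⁅w ^ 2, k⁆ = (((k ^ 2) ^ 2) ^ 2) ^ b := by
    calc ⁅w ^ 2, k⁆ = w * (w * k * w⁻¹) * w⁻¹ * k⁻¹ := by rw [pow_two, commutatorElement_def]; group
      _ = k ^ ((2 * a + 1) * (2 * a + 1)) * k⁻¹ := by rw [e1, ← conj_pow, e1, ← pow_mul]
      _ = _ := by
        rw [show (2 * a + 1) * (2 * a + 1) = 2 * (2 * (2 * b)) + 1 by nlinarith, pow_succ, mul_inv_cancel_right,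
          pow_mul, pow_mul, pow_mul]
  exact e2 ▸ pow_mem (mem_zpowers _) b

/-- the elements commuting with `a` modulo `K` -/
def cm1 (a : G) (K : Subgroup G) : Subgroup G where
  carrier := {u | u ∈ 𝐍 K ∧ ⁅a, u⁆ ∈ K}
  mul_mem' := fun {u v} hu hv => ⟨mul_mem hu.1 hv.1, by
    rw [Transfer.commutatorElement_mul_right']; exact mul_mem hu.2 (conj_mem_of_norm hu.1 hv.2)⟩
  one_mem' := ⟨one_mem _, by simp⟩
  inv_mem' := fun {u} hu => ⟨inv_mem hu.1, by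
    rw [show ⁅a, u⁻¹⁆ = u⁻¹ * ⁅a, u⁆⁻¹ * u by simp only [commutatorElement_def]; group]
    exact conj_mem_of_norm' hu.1 (inv_mem hu.2)⟩

theorem mem_cm1 : u ∈ cm1 a K ↔ u ∈ 𝐍 K ∧ ⁅a, u⁆ ∈ K := Iff.rfl

/-- a metacyclic `2`-group acts trivially on `Φ(H) / Φ(Φ(H))` for `H` of index two -/
theorem meta_comm_Phi (kX : PiGrp {2} X) (m : Meta X) (hH : H ≤ X) (l : ℓ X ≤ ℓ H + 1) :
    ⁅𝚽 H, X⁆ ≤ 𝚽 (𝚽 H) := by
  obtain ⟨k, hk, g, hg, n, e⟩ := meta_gen m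
  have kH := kX.le hH
  have kP := kH.le (Phi_le H)
  have nH : H ⊴ X := ⟨hH, kX.norm_of_logn hH l⟩
  refine comm_Phi_le kH (hH.trans nH.Phi.Phi.norm) fun w hw h hh => ?_
  by_cases h1 : k ∈ H
  · exact zpowers_le.2 (kP.pow_mem_Phi (kH.pow_mem_Phi h1)) (meta_sq_comm kX n e (hH hw) hh)
  have k2 : k ^ 2 ∈ H := sq_mem_of_lg kX hH l hk
  have k8 := zpowers_le.2 (kP.pow_mem_Phi (kH.pow_mem_Phi k2))
  obtain ⟨g', g1, e'⟩ : ∃ g' ∈ H, zpowers k ⊔ zpowers g' = X := by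
    by_cases h2 : g ∈ H
    · exact ⟨g, h2, e⟩
    · refine ⟨k * g, mul_mem_of_logn kX hH l hk hg h1 h2, le_antisymm (sup_le n.le (zpowers_le.2 (mul_mem hk hg)))
        (e.ge.trans (sup_le le_sup_left (zpowers_le.2 ?_)))⟩
      exact (mul_mem_cancel_left (mem_sup_left (mem_zpowers k))).1 (mem_sup_right (mem_zpowers _))
  have l1 : zpowers (k ^ 2) ⊔ zpowers g' ≤ H := sup_le (zpowers_le.2 k2) (zpowers_le.2 g1)
  have e2 : zpowers (k ^ 2) ⊔ zpowers g' = H := by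
    have := lg_sup_zpowers_le (H := zpowers (k ^ 2) ⊔ zpowers g') (x := k)
      (norm_of_der_le (l1.trans hH) ((meta_der_le kX n e).trans le_sup_left) hk) (mem_sup_left (mem_zpowers _))
    have l2 := logn_card_le (p := 2) (show X ≤ zpowers (k ^ 2) ⊔ zpowers g' ⊔ zpowers k from
      e'.ge.trans (sup_le le_sup_right (le_sup_of_le_left le_sup_right)))
    have l3 := kX.logn_lt (lt_of_le_of_ne hH fun c => h1 (c ▸ hk))
    exact kH.eq_of_logn_le l1 (by omega)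
  exact ((e'.ge.trans (sup_le (zpowers_le.2 ⟨nH.Phi.Phi.norm hk, k8 (meta_sq_comm_k kX n (hH hw))⟩)
    (zpowers_le.2 ⟨nH.Phi.Phi.norm (hH g1), k8 (meta_sq_comm kH ((normal_pow n 2).of_le (zpowers_le.2 k2) hH)
      e2 hw g1)⟩)) : X ≤ cm1 (w ^ 2) (𝚽 (𝚽 H))) hh).2

theorem lg_zpowers_le (h : c ^ 2 = 1) : ℓ (zpowers c) ≤ 1 := by
  have := lg_sup_zpowers_le (H := ⊥) (x := c) (by simp [norm_bot]) (by simpa using h)
  rw [bot_sup_eq] at this
  simpa [logn] using this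

theorem lg_zpowers (h : c ^ 2 = 1) (h1 : c ≠ 1) : ℓ (zpowers c) = 1 := by
  rw [Nat.card_zpowers, orderOf_eq_prime h h1]; exact logn_self Nat.prime_two

theorem meta_of_lg_der (k : PiGrp {2} P) (h : ℓ P ≤ ℓ (⁅P, P⁆ : Subgroup G) + 2) : Meta P := by
  have n := Bl_normal (NormalIn.refl P)
  have h1 := logn_qt (p := 2) n
  have h2 := logn_qt (p := 2) (n.of_le (Bl_le_der P) (der_le P))
  rw [qt_comm n.norm n.norm] at h2
  have kQ := k.qt (Bl P)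
  obtain ⟨c, e⟩ := Bl_bot kQ (Bl_qt_Bl k)
  refine blackburn k ?_
  have h3 : ℓ (qt (Bl P) P) ≤ ℓ (⁅qt (Bl P) P, qt (Bl P) P⁆ : Subgroup _) + 2 := by omega
  generalize qt (Bl P) P = Q at *
  have h4 := logn_card_le (p := 2) kQ.der_le_Phi
  by_cases h0 : Q = ⊥
  · exact meta_of_cyc (h0 ▸ cyc_bot)
  obtain ⟨s, hs, ns⟩ := SetLike.exists_of_lt (Phi_lt h0)
  obtain ⟨t, ht, e1⟩ := exists_gen_two kQ (by omega) hs ns
  have cm := commutator_mem_commutator hs ht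
  have h5 := logn_card_le (p := 2) (der_le_zpowers e1 (norm_of_cent' (zpowers_le.2 (c cm))))
  have h6 := lg_zpowers_le (e _ cm)
  refine meta_of_sr2 kQ fun H K a b c' => ?_
  rcases a.eq_or_lt with rfl | a'
  · have := logn_card_le (p := 2) (Phi_le_of_sq kQ c')
    omega
  · have := kQ.logn_lt a'
    omega

theorem meta_of_four (k : PiGrp {2} P) (l : H ≤ P) (h : ℓ H ≤ 2) (c : P ⊓ 𝐂 H ≤ H) : Meta P :=
  meta_of_lg_der k (logn_le_der_of_self_cent Nat.prime_two k l h c)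

theorem meta_of_eight (k : PiGrp {2} P) (l : H ≤ P) (h3 : ℓ H = 3) (na : ¬ Abel H) (c : P ⊓ 𝐂 H ≤ H) :
    Meta P := by
  have kH := k.le l
  have z1 := (kH.le (center_normal H).le).logn_pos.2 (kH.center_ne_bot fun e => na (e ▸ abel_bot))
  have z2 := logn_qt (p := 2) (center_normal H)
  have z3 : ¬ logn 2 (♯(qt (𝐙 H) H)) ≤ 1 := fun h => na (abel_of_cyc_qt le_rfl ((kH.qt _).cyc_of_logn h))
  have z4 : ♯(𝐙 H) = 2 := by rw [(kH.le (center_normal H).le).card_eq, show logn 2 _ = 1 by omega]; rfl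
  have d1 : ⁅H, H⁆ ≤ 𝐙 H := (abel_qt_iff (center_normal H).norm).1 ((kH.qt _).abel_of_logn (by omega))
  have d2 := eq_of_prime_of_ne_bot (z4 ▸ Nat.prime_two) d1 fun e => na (der_eq_bot.1 e)
  have z5 : 𝐙 P = 𝐙 H := eq_of_prime_of_ne_bot (z4 ▸ Nat.prime_two) (le_inf
    ((inf_le_inf_left P (cent_anti l)).trans c) (inf_le_right.trans (cent_anti l)))
    (k.center_ne_bot fun e => na (eq_bot_mono e l ▸ abel_bot))
  have n : 𝐙 H ⊴ P := z5 ▸ center_normal P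
  have cz : 𝐙 H ≤ 𝐂 P := z5.ge.trans inf_le_right
  generalize hZ : 𝐙 H = Z at *
  have h4 := logn_le_der_of_self_cent Nat.prime_two (k.qt Z) (qt_mono Z l) (by omega) (by
    have := Fact.mk Nat.prime_two
    have l1 : qp Z (qt Z P ⊓ 𝐂 (qt Z H)) ≤ P := qp_le_of_le_qt n inf_le_left
    have := Solv.sup_centralizer_eq_of_commutator_le (E := H) (K := H ⊔ qp Z (qt Z P ⊓ 𝐂 (qt Z H)))
      le_sup_left z4 (cent_mono cz le_rfl (sup_le l l1)) (hZ.le.trans (cent_mono cz le_rfl (sup_le l l1)))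
      (comm_sup_le' d1 (by
        rw [← qt_cent_iff (l.trans n.norm) (qp_le_norm _), qt_qp]; exact cent_symm inf_le_right)
        (l.trans n.norm) (qp_le_norm _))
    rw [← qt_qp (qt Z P ⊓ 𝐂 (qt Z H))]
    exact qt_mono Z (le_sup_right.trans (this.ge.trans (sup_le le_rfl
      ((inf_le_inf_right _ (sup_le l l1)).trans c)))))
  have h5 := logn_qt (p := 2) n
  have h6 := logn_qt (p := 2) (n.of_le (d2.ge.trans (der_mono l)) (der_le P))
  rw [qt_comm n.norm n.norm] at h6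
  exact meta_of_lg_der k (by omega)

theorem Bic.abel_der (h : Bic S x y) : Abel ⁅S, S⁆ := by
  have := Cfsg.Agent.S0572.result (zpowers (⟨x, h.hx⟩ : S)) (zpowers (⟨y, h.hy⟩ : S)) fun g => by
    obtain ⟨i, j, e⟩ := h.ex g g.2
    exact ⟨_, pow_mem (mem_zpowers _) i, _, pow_mem (mem_zpowers _) j, Subtype.ext e⟩
  rw [← der_eq_bot]
  have e := congrArg (Subgroup.map S.subtype) this
  rwa [derivedSeries_succ, derivedSeries_succ, derivedSeries_zero, Subgroup.map_commutator, Subgroup.map_commutator,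
    map_top_subtype, Subgroup.map_bot] at e

/-- bicyclic, not metacyclic -/
structure NB (S : Subgroup G) (x y : G) : Prop where
  bic : Bic S x y
  k : PiGrp {2} S
  nm : ¬ Meta S

/-- the third maximal subgroup -/
def M3 (S : Subgroup G) (x y : G) : Subgroup G := 𝚽 S ⊔ zpowers (x * y)

namespace NB

theorem symm (h : NB S x y) : NB S y x := ⟨h.bic.symm, h.k, h.nm⟩

theorem Phi_le_M1 (h : NB S x y) : 𝚽 S ≤ M1 x y := Phi_le_of_sq h.k fun g hg => by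
  rcases h.bic.M1_cases h.k hg with c | c
  · exact pow_mem c 2
  · rw [show g ^ 2 = g * y⁻¹ * (y * (g * y⁻¹) * y⁻¹) * y ^ 2 by rw [pow_two, pow_two]; group]
    exact mul_mem (mul_mem c ((h.bic.M1_normal h.k).conj_mem h.bic.hy c)) (mem_sup_right (mem_zpowers _))

theorem meta_Phi (h : NB S x y) : Meta (𝚽 S) := (h.bic.meta_M1 h.k).mono h.Phi_le_M1

theorem M3_le (h : NB S x y) : M3 S x y ≤ S := sup_le (Phi_le S) (zpowers_le.2 (mul_mem h.bic.hx h.bic.hy))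

theorem Phi_le_M3 : 𝚽 S ≤ M3 S x y := le_sup_left

theorem not_le (h : NB S x y) (hg : g ∈ S) : ¬ S ≤ 𝚽 S ⊔ zpowers g := fun c =>
  h.nm (meta_of_cyc (eq_of_le_sup_Phi (zpowers_le.2 hg) (c.trans (sup_comm _ _).le) ▸ cyc_zpowers g))

theorem nx (h : NB S x y) : x ∉ M3 S x y := fun c => h.not_le (mul_mem h.bic.hx h.bic.hy) (h.bic.sup.ge.trans
  (sup_le (zpowers_le.2 c) (zpowers_le.2 ((mul_mem_cancel_left c).1 (mem_sup_right (mem_zpowers _))))))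

theorem nxy (h : NB S x y) : x * y ∉ 𝚽 S := fun c => h.not_le h.bic.hx (h.bic.sup.ge.trans
  (sup_le le_sup_right (zpowers_le.2 ((mul_mem_cancel_left (mem_sup_right (mem_zpowers x))).1 (mem_sup_left c)))))

theorem lg_M3 (h : NB S x y) : ℓ (M3 S x y) = ℓ (𝚽 S) + 1 :=
  have m := mul_mem h.bic.hx h.bic.hy
  logn_sup_zpowers Nat.prime_two ((Phi_normal S).norm m) h.nxy (h.k.pow_mem_Phi m)

theorem M3_lt (h : NB S x y) : M3 S x y < S := lt_of_le_of_ne h.M3_le fun e => h.nx (e.ge h.bic.hx)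

theorem lg_S (h : NB S x y) : ℓ S = ℓ (𝚽 S) + 2 := by
  have := lg_le_of_sup h.k h.bic.sup
  have := h.k.logn_lt h.M3_lt
  have := h.lg_M3
  omega

theorem M3_normal (h : NB S x y) : M3 S x y ⊴ S := ⟨h.M3_le, norm_of_Phi_le h.k Phi_le_M3 h.M3_le⟩

theorem mul_mem_Phi (h : NB S x y) (ha : a ∈ M3 S x y) (hb : b ∈ M3 S x y) (na : a ∉ 𝚽 S) (nb : b ∉ 𝚽 S) :
    a * b ∈ 𝚽 S := mul_mem_of_logn (h.k.le h.M3_le) Phi_le_M3 h.lg_M3.le ha hb na nb

theorem mul_mem_M3 (h : NB S x y) (ha : a ∈ S) (hb : b ∈ S) (na : a ∉ M3 S x y) (nb : b ∉ M3 S x y) :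
    a * b ∈ M3 S x y := mul_mem_of_logn h.k h.M3_le (by have := h.lg_S; have := h.lg_M3; omega) ha hb na nb

theorem mem_M3 (h : NB S x y) {i j : ℕ} (hi : Odd i) (hj : Odd j) : x ^ i * y ^ j ∈ M3 S x y ∧ x ^ i * y ^ j ∉ 𝚽 S := by
  obtain ⟨i, rfl⟩ := hi
  obtain ⟨j, rfl⟩ := hj
  have a := pow_mem (h.k.pow_mem_Phi h.bic.hx) i
  have b := pow_mem (h.k.pow_mem_Phi h.bic.hy) j
  rw [pow_succ, pow_succ', pow_mul, pow_mul, show (x ^ 2) ^ i * x * (y * (y ^ 2) ^ j) =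
    (x ^ 2) ^ i * (x * y) * (y ^ 2) ^ j by simp only [mul_assoc]]
  exact ⟨mul_mem (mul_mem (Phi_le_M3 a) (mem_sup_right (mem_zpowers _))) (Phi_le_M3 b), by
    rw [mul_mem_cancel_right b, mul_mem_cancel_left a]; exact h.nxy⟩

theorem mem_cases (h : NB S x y) (hg : g ∈ S) : g ∈ M1 x y ∨ g ∈ M1 y x ∨ g ∈ M3 S x y := by
  obtain ⟨i, j, rfl⟩ := h.bic.ex g hg
  rcases Nat.even_or_odd j with c | c
  · exact .inl (h.bic.mem_M1 h.k c)
  rcases Nat.even_or_odd i with ⟨i, rfl⟩ | d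
  · refine .inr (.inl (mul_mem (mem_sup_right ?_) (mem_sup_left (pow_mem (mem_zpowers y) j))))
    rw [← two_mul, pow_mul]; exact pow_mem (mem_zpowers _) i
  · exact .inr (.inr (h.mem_M3 d c).1)

theorem meta_sup (h : NB S x y) (hg : g ∈ S) (ng : g ∉ M3 S x y ∨ g ∈ 𝚽 S) : Meta (𝚽 S ⊔ zpowers g) := by
  rcases h.mem_cases hg with c | c | c
  · exact (h.bic.meta_M1 h.k).mono (sup_le h.Phi_le_M1 (zpowers_le.2 c))
  · exact (h.symm.bic.meta_M1 h.k).mono (sup_le h.symm.Phi_le_M1 (zpowers_le.2 c))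
  · exact h.meta_Phi.mono (sup_le le_rfl (zpowers_le.2 (ng.resolve_left fun d => d c)))

theorem cases (h : NB S x y) (hH : H < S) : Meta H ∨ H ≤ M3 S x y := by
  refine or_iff_not_imp_right.2 fun c => ?_
  obtain ⟨g, hg, ng⟩ := SetLike.not_le_iff_exists.1 c
  have l : 𝚽 S ⊔ H < S := lt_of_le_of_ne (sup_le (Phi_le S) hH.le) fun e =>
    hH.ne (eq_of_le_sup_Phi hH.le (e.ge.trans (sup_comm _ _).le))
  have := h.k.logn_lt l
  have := h.lg_S
  refine (h.meta_sup (hH.le hg) (.inl ng)).mono (le_sup_right.trans (sup_zpowers_eq (p := 2) (h.k.le l.le)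
    le_sup_left (by omega) (mem_sup_right hg) fun d => ng (Phi_le_M3 d)).ge)

theorem nm3 (h : NB S x y) : ¬ Meta (M3 S x y) := fun c =>
  h.nm (meta_of_proper h.k h.lg_S.le fun _ hH => (h.cases hH).elim id c.mono)

theorem sup_eq_M3 (h : NB S x y) (he : e ∈ M3 S x y) (ne : e ∉ 𝚽 S) : 𝚽 S ⊔ zpowers e = M3 S x y :=
  sup_zpowers_eq (p := 2) (h.k.le h.M3_le) Phi_le_M3 h.lg_M3.le he ne

theorem gen (h : NB S x y) (he : e ∈ M3 S x y) (ne : e ∉ 𝚽 S) : zpowers x ⊔ zpowers e = S := by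
  refine eq_of_le_sup_Phi (sup_le (zpowers_le.2 h.bic.hx) (zpowers_le.2 (h.M3_le he))) ?_
  rw [sup_assoc, sup_comm _ (𝚽 S), h.sup_eq_M3 he ne, sup_comm]
  exact (sup_zpowers_eq (p := 2) h.k h.M3_le (by have := h.lg_S; have := h.lg_M3; omega) h.bic.hx h.nx).ge

end NB

end CF.Rt.BC
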