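import Cfsg.Agent.RI.BC2

/-! Bicyclic `2`-groups with non-cyclic derived subgroup. -/

set_option autoImplicit false
set_option linter.unusedSectionVars false

namespace CF.Rt.BC

open Subgroup CF.BG CF.BG2 CF.Pgp
open scoped commutatorElement

variable {G : Type*} [Group G] [Finite G] {A B C D E H K L M N P Q R S W X : Subgroup G}
  {a b c e g h k m s t u w x y z : G}

/-- the normal four-group of the Frattini subgroup -/
structure WD (S W : Subgroup G) : Prop where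
  n : W ⊴ S
  le : W ≤ ⁅S, S⁆
  sq : ∀ w ∈ W, w ^ 2 = 1
  lg : ℓ W = 2
  cent : 𝚽 S ≤ 𝐂 W
  all : ∀ j ∈ 𝚽 S, j ^ 2 = 1 → j ∈ W

theorem lg_bot : ℓ (⊥ : Subgroup G) = 0 := by simp [logn]

theorem NB.exists_W (h : NB S x y) (nc : ¬ Cyc ⁅S, S⁆) : ∃ W, WD S W := by
  have ab := h.bic.abel_der
  have kA := h.k.le (der_le S)
  have el := ab.elem_Om Nat.prime_two
  have r := meta_sr2 (h.k.le (Phi_le S)) h.meta_Phi
  have l : 𝛀 2 ⁅S, S⁆ ≤ 𝚽 S := el.le.trans h.k.der_le_Phi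
  have l1 := r _ ⊥ l bot_le fun w hw => el.ab.pow w hw
  have l2 : ¬ pRank 2 ⁅S, S⁆ ≤ 1 := fun c => nc (ab.cyc_of_pRank kA c)
  have l3 := el.ab.logn_le_pRank el.le
  have l4 := el.pRank_eq
  rw [el.ab.pRank_eq] at l4
  rw [lg_bot] at l1
  have n := (der_normal S).Om 2
  have c : 𝚽 S ≤ 𝐂 (𝛀 2 ⁅S, S⁆) := comm_eq_bot.1 (le_bot_iff.1
    (comm_Phi_le_of_lg h.k (NormalIn.bot S) n bot_le (by rw [lg_bot]; omega)))
  refine ⟨_, n, el.le, el.ab.pow, by omega, c, fun j hj j2 => by_contra fun nj => ?_⟩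
  have a := el.ab.sup (abelem_zpowers Nat.prime_two j2) (cent_symm (zpowers_le.2 (c hj)))
  have := r _ ⊥ (sup_le l (zpowers_le.2 hj)) bot_le fun w hw => a.pow w hw
  have := a.pi.logn_lt (lt_sup_zpowers nj)
  rw [lg_bot] at *
  omega

theorem conj_conj (ab : Abel ⁅S, S⁆) (ha : a ∈ S) (hb : b ∈ S) (hm : m ∈ ⁅S, S⁆) :
    a * (b * m * b⁻¹) * a⁻¹ = b * (a * m * a⁻¹) * b⁻¹ := by
  have c := ab.mul_comm (commutator_mem_commutator (inv_mem ha) (inv_mem hb)) hm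
  calc a * (b * m * b⁻¹) * a⁻¹ = b * a * (⁅a⁻¹, b⁻¹⁆ * m) * ⁅a⁻¹, b⁻¹⁆⁻¹ * a⁻¹ * b⁻¹ := by
        simp only [commutatorElement_def]; group
    _ = _ := by rw [c]; group

theorem NB.invert (h : NB S x y) (he : e ∈ M3 S x y) (ne : e ∉ 𝚽 S) (hc : e ^ 2 ∈ 𝐂 S) (ha : a ∈ ⁅S, S⁆) :
    e * a * e⁻¹ = a⁻¹ := by
  have ab := h.bic.abel_der
  have eS := h.M3_le he
  let J : Subgroup G := ⟨⟨⟨{a | a ∈ ⁅S, S⁆ ∧ e * a * e⁻¹ = a⁻¹}, fun {a b} ha hb => ⟨mul_mem ha.1 hb.1, by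
    rw [show e * (a * b) * e⁻¹ = e * a * e⁻¹ * (e * b * e⁻¹) by group, ha.2, hb.2, ← mul_inv_rev,
      ab.mul_comm ha.1 hb.1]⟩⟩, one_mem _, by simp⟩, fun {a} ha => ⟨inv_mem ha.1, by
    rw [show e * a⁻¹ * e⁻¹ = (e * a * e⁻¹)⁻¹ by group, ha.2]⟩⟩
  refine (der_le_of_gen (N := J) (h.gen he ne) (le_norm_iff.2 fun g hg a ha =>
    ⟨(der_normal S).conj_mem hg ha.1, ?_⟩) ⟨commutator_mem_commutator h.bic.hx eS, ?_⟩ ha).2
  · rw [conj_conj ab eS hg ha.1, ha.2]; group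
  · refine eq_inv_of_mul_eq_one_right ?_
    rw [← Transfer.commutatorElement_mul_right', ← pow_two, commutatorElement_eq_one_iff_commute]
    exact (comm_of_cent hc h.bic.hx).symm

theorem exists_sq (k : PiGrp {2} A) (ab : Abel A) (ha : a ∈ 𝚽 A) : ∃ b ∈ A, b ^ 2 = a := by
  let Y : Subgroup G := ⟨⟨⟨{y | ∃ z ∈ A, z ^ 2 = y}, by
    rintro _ _ ⟨z, hz, rfl⟩ ⟨w, hw, rfl⟩
    exact ⟨_, mul_mem hz hw, Commute.mul_pow (ab.mul_comm hz hw) 2⟩⟩, 1, one_mem _, one_pow 2⟩, by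
    rintro _ ⟨z, hz, rfl⟩
    exact ⟨_, inv_mem hz, inv_pow z 2⟩⟩
  exact Phi_le_of_sq (K := Y) k (fun z hz => ⟨z, hz, rfl⟩) ha

theorem NB.trans (h : NB S x y) (nc : ¬ Cyc ⁅S, S⁆) (he : e ∈ M3 S x y) (ne : e ∉ 𝚽 S) (hc : e ^ 2 ∈ 𝐂 S)
    (ha : a ∈ ⁅S, S⁆) : ∃ g ∈ S, g * e * g⁻¹ = a * e := by
  have ab := h.bic.abel_der
  have eS := h.M3_le he
  have hx := h.bic.hx
  have kA := h.k.le (der_le S)
  have nA := der_normal S
  have inv := fun a (ha : a ∈ ⁅S, S⁆) => h.invert he ne hc ha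
  have c0 := commutator_mem_commutator hx eS
  have lA := meta_lg kA (h.meta_Phi.mono h.k.der_le_Phi)
  have c2 := comm_Phi_le_of_lg h.k nA.Phi nA (Phi_le _) lA (commutator_mem_commutator (h.k.pow_mem_Phi hx) c0)
  generalize hA : ⁅S, S⁆ = A at *
  have x1 : x * e * x⁻¹ = ⁅x, e⁆ * e := by rw [commutatorElement_def]; group
  have key : ∀ u ∈ A, (∃ g ∈ S, g * e * g⁻¹ = u * e) → ∀ v, v * u⁻¹ ∈ 𝚽 A → ∃ g ∈ S, g * e * g⁻¹ = v * e := by
    rintro u hu ⟨g, hg, e1⟩ v hv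
    obtain ⟨b, hb, e2⟩ := exists_sq kA ab hv
    refine ⟨b * g, mul_mem (nA.le hb) hg, ?_⟩
    calc b * g * e * (b * g)⁻¹ = b * (g * e * g⁻¹) * b⁻¹ := by group
      _ = b * u * (e * b⁻¹ * e⁻¹) * e := by rw [e1]; group
      _ = b ^ 2 * u * e := by rw [inv _ (inv_mem hb), inv_inv, mul_assoc b, ab.mul_comm hu hb, pow_two]; group
      _ = v * e := by rw [e2]; group
  have step : ∀ u, (∃ g ∈ S, g * e * g⁻¹ = u * e) → ∃ g ∈ S, g * e * g⁻¹ = x * u * x⁻¹ * ⁅x, e⁆ * e := by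
    rintro u ⟨g, hg, e1⟩
    refine ⟨x * g, mul_mem hx hg, ?_⟩
    calc x * g * e * (x * g)⁻¹ = x * (g * e * g⁻¹) * x⁻¹ := by group
      _ = x * u * x⁻¹ * (x * e * x⁻¹) := by rw [e1]; group
      _ = _ := by rw [x1]; group
  have y1 : ∃ g ∈ S, g * e * g⁻¹ = ⁅x, e⁆ * e := ⟨x, hx, x1⟩
  have y2 := step _ y1
  have y3 := step _ y2
  generalize hc0 : ⁅x, e⁆ = c at *
  have c1 := nA.conj_mem hx c0
  have l1 : 𝚽 A ⊔ zpowers c ≤ A := sup_le (Phi_le A) (zpowers_le.2 c0)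
  have n1 : x * c * x⁻¹ ∉ 𝚽 A ⊔ zpowers c := fun d => by
    have t : ∀ g ∈ S, g * c * g⁻¹ ∈ 𝚽 A ⊔ zpowers c → g ∈ 𝐍 (𝚽 A ⊔ zpowers c : Subgroup G) := fun g hg d =>
      zpowers_le.1 (le_norm_iff.2 fun _ hw => by
        obtain ⟨n, rfl⟩ := (mem_powers_iff_mem_zpowers (x := g)).2 hw
        have : 𝚽 A ⊔ zpowers c ≤ (𝚽 A ⊔ zpowers c).comap (MulAut.conj g).toMonoidHom :=
          sup_le (fun v hv => mem_sup_left (nA.Phi.conj_mem hg hv)) (zpowers_le.2 d)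
        intro v hv
        induction n with
        | zero => simpa using hv
        | succ n ih =>
          have := this (ih (pow_mem (mem_zpowers g) n))
          beta_reduce at this ⊢
          rwa [show g ^ (n + 1) * v * (g ^ (n + 1))⁻¹ = g * (g ^ n * v * (g ^ n)⁻¹) * g⁻¹ by group])
    have := der_le_of_gen (N := 𝚽 A ⊔ zpowers c) (h.gen he ne) ((h.gen he ne).ge.trans (sup_le (zpowers_le.2 (t x hx d))
      (zpowers_le.2 (t e eS (by rw [inv c c0]; exact inv_mem (mem_sup_right (mem_zpowers c)))))))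
      (by rw [hc0]; exact mem_sup_right (mem_zpowers c))
    rw [hA] at this
    exact nc (eq_of_le_sup_Phi (zpowers_le.2 c0) (this.trans (sup_comm _ _).le) ▸ cyc_zpowers c)
  have n0 : c ∉ 𝚽 A := fun d => n1 (mem_sup_left (nA.Phi.conj_mem hx d))
  have l2 := logn_sup_zpowers Nat.prime_two ((Phi_normal A).norm c0) n0 (kA.pow_mem_Phi c0)
  have two : ∀ v ∈ 𝚽 A ⊔ zpowers c, v ∈ 𝚽 A ∨ v * c⁻¹ ∈ 𝚽 A := fun v hv => or_iff_not_imp_left.2 fun d =>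
    mul_mem_of_logn (kA.le l1) le_sup_left l2.le hv (inv_mem (mem_sup_right (mem_zpowers c))) d (by simpa using n0)
  have cm : ∀ {u v}, u ∈ A → v ∈ A → u * v = v * u := fun hu hv => ab.mul_comm hu hv
  by_cases d : a ∈ 𝚽 A ⊔ zpowers c
  · rcases two a d with f | f
    · exact key 1 (one_mem _) ⟨1, one_mem _, by simp⟩ a (by simpa using f)
    · exact key c c0 y1 a f
  have d1 := mul_mem_of_logn kA l1 (by omega) ha (inv_mem c1) d (by rwa [inv_mem_iff])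
  rcases two _ d1 with f | f
  · refine key _ (mul_mem (nA.conj_mem hx (mul_mem c1 c0)) c0) y3 a ?_
    have := mul_mem (mul_mem f (inv_mem c2)) (inv_mem (kA.pow_mem_Phi c0))
    convert this using 1
    have e1 := cm (nA.conj_mem hx c1) c1
    have e2 := cm (mul_mem (nA.conj_mem hx c1) c1) c0
    have e3 : ⁅x ^ 2, c⁆ = x * (x * c * x⁻¹) * x⁻¹ * c⁻¹ := by rw [pow_two, commutatorElement_def]; group
    have e4 := cm (nA.conj_mem hx c1) c0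
    rw [show x * (x * c * x⁻¹ * c) * x⁻¹ = x * (x * c * x⁻¹) * x⁻¹ * (x * c * x⁻¹) by group, e3]
    generalize x * (x * c * x⁻¹) * x⁻¹ = c'' at *
    generalize x * c * x⁻¹ = c' at *
    rw [e2, pow_two]
    calc a * (c * (c'' * c'))⁻¹ = a * c'⁻¹ * (c * (c'' * c)⁻¹) * c⁻¹ := by group
      _ = _ := by rw [e4]; group
  · exact key _ (mul_mem c1 c0) y2 a (by
      rwa [mul_inv_rev, cm (inv_mem c0) (inv_mem c1), ← mul_assoc])

end CF.Rt.BC
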