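import Cfsg.Agent.RI.BC3
import Cfsg.Agent.Fus.Meta2
import Cfsg.Agent.Fus.Datum

/-! Essential subgroups: chains through the Frattini subgroup; metacyclic essential subgroups. -/

set_option autoImplicit false
set_option linter.unusedSectionVars false

namespace CF.Rt.BC

open Subgroup CF.BG CF.BG2 CF.Pgp Cfsg
open CF.Fus (Sat Mor Iso fn cA img Gen stab OpIn pre fn_cA fn_mem mulOn_fn stab_maps mem_stab_of_maps fn_mul)
open scoped commutatorElement CF.Fus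

universe v

variable {G : Type v} [Group G] [Finite G] {A B C D E H K L M N P Q R S W X : Subgroup G}
  {a b c e g h k m s t u w x y z : G} {F : FusionSystem S} {α β : MulAut E}

theorem triv_of_lg (k : PiGrp {2} B) (h : A ≤ B) (l : ℓ B ≤ ℓ A + 1) (hu : u ∈ B) (hw : w ∈ B)
    (i : w ∈ A ↔ u ∈ A) : u⁻¹ * w ∈ A := by
  by_cases c : u ∈ A
  · exact mul_mem (inv_mem c) (i.2 c)
  · exact mul_mem_of_logn k h l (inv_mem hu) hw (by rwa [inv_mem_iff]) (mt i.1 c)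

theorem stab_top (α : MulAut E) : α ∈ stab E E := Fus.stab_self.ge (mem_top α)

theorem Phi_stab (k : PiGrp {2} E) (hQ : Q ≤ E) (h : α ∈ stab E Q) : α ∈ stab E (𝚽 Q) :=
  mem_stab_of_maps ((Phi_le Q).trans hQ) fun _ hu => ((mulOn_fn α).mem_pre.1
    ((Phi_le_of_sq (K := pre (fn α) E (𝚽 Q)) (k.le hQ) fun w hw => Fus.mem_pre_of (pow_mem (hQ hw) 2) (by
      rw [(mulOn_fn α).map_pow (hQ hw)]; exact (k.le hQ).pow_mem_Phi (stab_maps h hw))) hu)).2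

theorem fix_of_frat (k : PiGrp {2} E) (hQ : Q ≤ E) (hs : α ∈ stab E Q) (hc : (orderOf α).Coprime 2)
    (h : ∀ u ∈ Q, u⁻¹ * fn α u ∈ 𝚽 Q) : ∀ u ∈ Q, fn α u = u := by
  obtain ⟨_, e⟩ := Fus.isPGroup_ker_frattini (k.le hQ).isPGroup ⟨Fus.res Q α, CF.Fgs2.mem_ker_quotAut.2 fun x =>
    (mem_map_iff_mem (subtype_injective _)).1 (by
      have := h x x.2
      rw [← Fus.fn_res hQ hs x.2, Fus.fn_of_mem _ x.2] at this
      exact this)⟩
  have : Fus.res Q α = 1 := Fus.eq_one_of_ppow_of_coprime (congrArg Subtype.val e)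
    (hc.coprime_dvd_left ((Fus.mulOn_res hQ).orderOf_dvd hs))
  exact fun u hu => by rw [← Fus.fn_res hQ hs hu, this, Fus.fn_one]

theorem mem_OpIn_frat (k : PiGrp {2} E) {K : Subgroup (MulAut E)} (hK : K ≤ stab E D) (hα : α ∈ K)
    (a1 : ∀ u ∈ E, u⁻¹ * fn α u ∈ D) (a2 : ∀ u ∈ E, u ∈ D → u⁻¹ * fn α u ∈ 𝚽 E) : α ∈ OpIn 2 K := by
  have p : K ≤ stab E (𝚽 E) := fun β _ => Phi_stab k le_rfl (stab_top β)
  refine Fus.mem_OpIn_of_triv (fun i : Bool => i.rec E D) (fun i => i.rec D (𝚽 E)) ?_ ?_ (fun β c1 c2 c3 => ?_) hα ?_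
  · rintro (_ | _)
    exacts [fun β _ => stab_top β, hK]
  · rintro (_ | _)
    exacts [hK, p]
  · exact Fus.aut_ext fun u hu => (fix_of_frat k le_rfl (stab_top β) c2 (Fus.triv_of_triv k.isPGroup c2 (p c1)
      (fun u hu => c3 false u hu hu) (c3 true)) u hu).trans (Fus.fn_one u).symm
  · rintro (_ | _)
    exacts [fun u hu _ => a1 u hu, a2]

theorem ess_pi (hF : Sat F 2) (hE : E ≤ S) : PiGrp {2} E := piGrp_of_isPGroup Nat.prime_two (hF.pgroup hE)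

theorem ess_frat (hF : Sat F 2) (hE : F.IsEssential 2 E) (hD : F.autGroup E ≤ stab E D) (hs : s ∈ NS S E)
    (a1 : ∀ u ∈ E, u⁻¹ * (s * u * s⁻¹) ∈ D) (a2 : ∀ u ∈ E, u ∈ D → u⁻¹ * (s * u * s⁻¹) ∈ 𝚽 E) : s ∈ E :=
  have a := (hF.ess_lt hE).le
  hF.ess_mem hE hs (mem_OpIn_frat (ess_pi hF a) hD (Fus.cA_mem_autGroup F a hs.1)
    (fun u hu => fn_cA hs.2 hu ▸ a1 u hu) fun u hu h => fn_cA hs.2 hu ▸ a2 u hu h)

theorem norm_of_stab (hF : Sat F 2) (hE : E ≤ S) (l : D ≤ E) (hD : F.autGroup E ≤ stab E D) : NS S E ≤ 𝐍 D :=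
  fun _ hs => Fus.norm_of_cA_mem_stab l hs.2 (hD (Fus.cA_mem_autGroup F hE hs.1))

theorem conj_triv_of_lg (k : PiGrp {2} B) (h : A ≤ B) (l : ℓ B ≤ ℓ A + 1) (nA : s ∈ 𝐍 A) (nB : s ∈ 𝐍 B)
    (hu : u ∈ B) : u⁻¹ * (s * u * s⁻¹) ∈ A :=
  triv_of_lg k h l hu (conj_mem_of_norm nB hu) (mem_norm.1 nA u).symm

theorem ess_frat_top (hF : Sat F 2) (hE : F.IsEssential 2 E) (l : D ≤ E) (hD : F.autGroup E ≤ stab E D)
    (h1 : ℓ E ≤ ℓ D + 1) (hs : s ∈ NS S E) (a2 : ∀ u ∈ D, u⁻¹ * (s * u * s⁻¹) ∈ 𝚽 E) : s ∈ E :=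
  have a := (hF.ess_lt hE).le
  ess_frat hF hE hD hs (fun _ hu => conj_triv_of_lg (ess_pi hF a) l h1 (norm_of_stab hF a l hD hs) hs.2 hu)
    fun u _ => a2 u

theorem ess_frat_bot (hF : Sat F 2) (hE : F.IsEssential 2 E) (l : D ≤ E) (l' : 𝚽 E ≤ D)
    (hD : F.autGroup E ≤ stab E D) (h1 : ℓ D ≤ ℓ (𝚽 E) + 1) (hs : s ∈ NS S E)
    (a1 : ∀ u ∈ E, u⁻¹ * (s * u * s⁻¹) ∈ D) : s ∈ E :=
  have a := (hF.ess_lt hE).le
  ess_frat hF hE hD hs a1 fun _ _ hu => conj_triv_of_lg ((ess_pi hF a).le l) l' h1 (norm_Phi E hs.2)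
    (norm_of_stab hF a l hD hs) hu

theorem ess_no_chain (hF : Sat F 2) (hE : F.IsEssential 2 E) (l : D ≤ E) (l' : 𝚽 E ≤ D)
    (hD : F.autGroup E ≤ stab E D) (h1 : ℓ E ≤ ℓ D + 1) (h2 : ℓ D ≤ ℓ (𝚽 E) + 1) : False :=
  have a := (hF.ess_lt hE).le
  (hF.ess_NS hE).not_ge fun _ hs => ess_frat_bot hF hE l l' hD h2 hs fun _ hu =>
    conj_triv_of_lg (ess_pi hF a) l h1 (norm_of_stab hF a l hD hs) hs.2 hu

theorem gen_conj (h : Gen F E α) (hF : Sat F 2) (hE : F.IsEssential 2 E) (hy : y ∈ NS S E) (ny : y ∉ E) :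
    Gen F E (α * cA E y * α⁻¹) := by
  have a := (hF.ess_lt hE).le
  have sy := hF.ess_syl hE
  have l := Fus.le_Gam sy.le (hF.ess_Gam hE).1
  have m := Fus.cA_mem_autInducedBy (P := E) hy.1
  refine ⟨mul_mem (mul_mem h.1 (sy.le m)) h.inv.1, fun c => h.2 ?_⟩
  obtain ⟨j, hj⟩ := Fus.isPGroup_iff_mem.1 sy.pg _ m
  obtain ⟨b, b1, b2⟩ := (sy.mono l Fus.Gam_le).exists_conj_elt c (k := j) (by rw [conj_pow, hj]; group)
  have := Fus.mem_Gam_of_elt sy (Fus.Inn_norm _) (Fus.Inn_le_autInducedBy a) m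
    (mt (Fus.mem_of_cA_mem_Inn a (hF.ess_centric hE) hy) ny) (mul_mem (Fus.Gam_le b1) h.1)
    (by simpa [mul_assoc] using b2)
  exact (mul_mem_cancel_left b1).1 this

theorem gen_frat (h : Gen F E α) (hF : Sat F 2) (hE : F.IsEssential 2 E) (hs : s ∈ NS S E) (l : D ≤ E)
    (h2 : s ∈ 𝐍 D) (h3 : ∀ d ∈ D, fn (α * cA E s * α⁻¹) d ∈ D) (a1 : ∀ u ∈ E, u⁻¹ * (s * u * s⁻¹) ∈ D)
    (a2 : ∀ u ∈ D, u⁻¹ * (s * u * s⁻¹) ∈ 𝚽 E) : s ∈ E := by_contra fun ns => by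
  have a := (hF.ess_lt hE).le
  have m : cA E s ∈ F.autGroup E ⊓ stab E D := ⟨Fus.cA_mem_autGroup F a hs.1, Fus.cA_mem_stab l hs.2 h2⟩
  exact ns (h.mem hF hE hs ns hs ns (H := F.autGroup E ⊓ stab E D) inf_le_left m
    ⟨(gen_conj h hF hE hs ns).1, mem_stab_of_maps l h3⟩ hs (mem_OpIn_frat (ess_pi hF a) inf_le_right m
      (fun u hu => fn_cA hs.2 hu ▸ a1 u hu) fun u hu h => fn_cA hs.2 hu ▸ a2 u h))

/-- the elements of an abelian group killed by `n` -/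
def tor (E : Subgroup G) (ab : Abel E) (n : ℕ) : Subgroup G where
  carrier := {g | g ∈ E ∧ g ^ n = 1}
  mul_mem' := fun {a b} ha hb => ⟨mul_mem ha.1 hb.1, by
    rw [Commute.mul_pow (ab.mul_comm ha.1 hb.1), ha.2, hb.2, one_mul]⟩
  one_mem' := ⟨one_mem _, one_pow n⟩
  inv_mem' := fun {a} ha => ⟨inv_mem ha.1, by rw [inv_pow, ha.2, inv_one]⟩

theorem tor_le (ab : Abel E) (n : ℕ) : tor E ab n ≤ E := fun _ h => h.1

theorem tor_stab (ab : Abel E) (n : ℕ) (α : MulAut E) : α ∈ stab E (tor E ab n) :=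
  mem_stab_of_maps (tor_le ab n) fun u hu => ⟨fn_mem α hu.1, by
    rw [← (mulOn_fn α).map_pow hu.1, hu.2, (mulOn_fn α).map_one]⟩

theorem sup_stab (h1 : A ≤ E) (h2 : B ≤ E) (a : α ∈ stab E A) (b : α ∈ stab E B) : α ∈ stab E (A ⊔ B) :=
  mem_stab_of_maps (sup_le h1 h2) (((mulOn_fn α).mono (sup_le h1 h2)).maps_sup
    (fun _ hu => mem_sup_left (stab_maps a hu)) fun _ hu => mem_sup_right (stab_maps b hu))

theorem ess_meta_aux (hF : Sat F 2) (hE : F.IsEssential 2 E) (m : Meta E) (nm : ¬ Meta S) :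
    ∃ ab : Abel E, ∃ a ∈ E, ∃ s ∈ NS S E, s ∉ E ∧ (∀ g ∈ S, g ∉ E → g * s ∈ E) ∧ a ^ 2 ≠ 1 ∧
      zpowers a ⊔ zpowers (s * a * s⁻¹) = E ∧ ∀ n, a ^ n ≠ 1 → (a⁻¹ * (s * a * s⁻¹)) ^ n ≠ 1 := by
  have lt := hF.ess_lt hE
  have kS := ess_pi hF le_rfl
  have kE := kS.le lt.le
  have cE : S ⊓ 𝐂 E ≤ E := hF.ess_centric hE
  have ab : Abel E := by
    by_contra na
    obtain ⟨e⟩ := Fus.q8_of_meta kE.isPGroup (meta_iff.1 m) (fun c => hF.not_ess_of_pgroup (c.to_subgroup _) hE)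
      fun c => na (Abel.of_comm c)
    refine nm (meta_of_eight kS lt.le ?_ na cE)
    rw [Nat.card_congr e.toEquiv, show Nat.card (QuaternionGroup 2) = 2 ^ 3 by simp [QuaternionGroup.card]]
    exact logn_pow Nat.prime_two 3
  have l1 := meta_lg kE m
  have pS : ∀ β : MulAut E, β ∈ stab E (𝚽 E) := fun β => Phi_stab kE le_rfl (stab_top β)
  have ch : ∀ n, ∀ a ∈ E, a ^ n ≠ 1 → tor E ab n ≤ 𝚽 E := fun n a ha na => by
    by_contra c
    have l : tor E ab n ⊔ 𝚽 E ≤ E := sup_le (tor_le ab n) (Phi_le E)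
    have := (kE.le l).logn_lt (right_lt_sup.2 c)
    have := kE.logn_lt (lt_of_le_of_ne l fun e => na
      ((eq_of_le_sup_Phi (tor_le ab n) e.ge).ge ha).2)
    exact ess_no_chain hF hE l le_sup_right (fun β _ => sup_stab (tor_le ab n) (Phi_le E) (tor_stab ab n β) (pS β))
      (by omega) (by omega)
  have o1 : tor E ab 2 ≤ 𝚽 E := by
    by_contra c
    have : 𝚽 E ≤ ⊥ := Phi_le_of_sq kE fun a ha => by_contra fun d => c (ch 2 a ha d)
    rw [le_bot_iff.1 this, lg_bot] at l1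
    exact nm (meta_of_four kS lt.le l1 cE)
  have l2 : ¬ ℓ E ≤ ℓ (𝚽 E) + 1 := fun c => ess_no_chain hF hE (Phi_le E) le_rfl (fun β _ => pS β) c (by omega)
  have kN : PiGrp {2} (NS S E) := kS.le Fus.NS_le
  have nE : E ⊴ NS S E := ⟨Fus.le_NS lt.le, Fus.NS_le_norm⟩
  obtain ⟨L, L1, L2, L3, L4⟩ := exists_normal_between kN nE.Phi nE (Phi_le E) (r := ℓ (𝚽 E) + 1) (by omega) (by omega)
  obtain ⟨a, ha, na⟩ := exists_not_mem (p := 2) (H := L) (K := E) (by omega)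
  have c1 : ∀ n ∈ NS S E, ∀ u ∈ E, u⁻¹ * (n * u * n⁻¹) ∈ L := fun n hn u hu =>
    conj_triv_of_lg kE L2 (by omega) (L3.norm hn) hn.2 hu
  have c2 : ∀ n ∈ NS S E, ∀ u ∈ L, u⁻¹ * (n * u * n⁻¹) ∈ 𝚽 E := fun n hn u hu =>
    conj_triv_of_lg (kE.le L2) L1 L4.le (nE.Phi.norm hn) (L3.norm hn) hu
  have c3 : ∀ n ∈ NS S E, a⁻¹ * (n * a * n⁻¹) ∈ 𝚽 E → n ∈ E := fun n hn d => by
    refine ess_frat hF hE (fun β _ => pS β) hn (fun u hu => ?_) fun u _ hu => c2 n hn u (L1 hu)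
    by_cases f : u ∈ L
    · exact c2 n hn u f
    have f1 := mul_mem_of_logn kE L2 (by omega) (inv_mem ha) hu (by rwa [inv_mem_iff]) f
    have := mul_mem (nE.Phi.conj_mem' (nE.le (L2 f1)) d) (c2 n hn _ f1)
    rwa [show (a⁻¹ * u)⁻¹ * (a⁻¹ * (n * a * n⁻¹)) * (a⁻¹ * u) * ((a⁻¹ * u)⁻¹ * (n * (a⁻¹ * u) * n⁻¹)) =
      u⁻¹ * (n * u * n⁻¹) by group] at this
  have c4 : ∀ n ∈ NS S E, ∀ n' ∈ NS S E, n ∉ E → n' ∉ E → n * n' ∈ E := fun n hn n' hn' d d' => by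
    refine c3 _ (mul_mem hn hn') ?_
    rw [show a⁻¹ * (n * n' * a * (n * n')⁻¹) = a⁻¹ * (n * a * n⁻¹) * (n * (a⁻¹ * (n' * a * n'⁻¹)) * n⁻¹) by group]
    exact mul_mem_of_logn (kE.le L2) L1 L4.le (c1 n hn a ha) (L3.conj_mem hn (c1 n' hn' a ha)) (mt (c3 n hn) d)
      fun f => d' (c3 n' hn' ((mem_norm.1 (nE.Phi.norm hn) _).2 f))
  have c5 : NS S E = S := by
    refine kS.nil.eq_of_inf_norm_le Fus.NS_le fun g hg => ⟨hg.1, zpowers_le.1 (le_norm_iff.2 ?_)⟩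
    suffices H : ∀ g ∈ S ⊓ 𝐍 (NS S E), ∀ u ∈ E, g * u * g⁻¹ ∈ E from fun g' hg' => H g' (zpowers_le.2 hg hg')
    intro g hg u hu
    by_contra d
    have s1 := conj_mem_of_norm hg.2 (nE.le hu)
    have a2 : g⁻¹ * a ^ 2 * g ∈ E := by
      have t := conj_mem_of_norm' hg.2 (nE.le ha)
      rw [show g⁻¹ * a ^ 2 * g = g⁻¹ * a * g * (g⁻¹ * a * g) by rw [pow_two]; group]
      by_cases f : g⁻¹ * a * g ∈ E
      · exact mul_mem f f
      · exact c4 _ t _ t f f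
    have a3 : Commute (g * u * g⁻¹) (a ^ 2) := by
      have := ab.mul_comm hu a2
      calc g * u * g⁻¹ * a ^ 2 = g * (u * (g⁻¹ * a ^ 2 * g)) * g⁻¹ := by group
        _ = _ := by rw [this]; group
    generalize g * u * g⁻¹ = s' at *
    have a4 := conj_mem_of_norm s1.2 ha
    refine d (c3 _ s1 (o1 ⟨mul_mem (inv_mem ha) a4, ?_⟩))
    rw [Commute.mul_pow (ab.mul_comm (inv_mem ha) a4), conj_pow, a3.eq]; group
  obtain ⟨s, hs, ns⟩ := SetLike.exists_of_lt (hF.ess_NS hE)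
  have hb := conj_mem_of_norm hs.2 ha
  have cab : Commute a (s * a * s⁻¹) := ab.mul_comm ha hb
  have nab := mt (c3 s hs) ns
  have g1 : zpowers a ⊔ zpowers (s * a * s⁻¹) = E := by
    refine eq_of_le_sup_Phi (sup_le (zpowers_le.2 ha) (zpowers_le.2 hb)) ?_
    refine (sup_zpowers_eq (p := 2) kE L2 (by omega) ha na).ge.trans (sup_le
      ((sup_zpowers_eq (p := 2) (kE.le L2) L1 L4.le (c1 s hs a ha) nab).ge.trans ?_) (le_sup_of_le_left le_sup_left))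
    exact sup_le le_sup_right (zpowers_le.2 (mem_sup_left (mul_mem (inv_mem (mem_sup_left (mem_zpowers a)))
      (mem_sup_right (mem_zpowers _)))))
  exact ⟨ab, a, ha, s, hs, ns, fun g hg d => c4 g (c5.ge hg) s hs d ns, fun d => na (L1 (o1 ⟨ha, d⟩)), g1,
    fun n d d' => nab (ch n a ha d ⟨mul_mem (inv_mem ha) hb, d'⟩)⟩

theorem ess_meta (hF : Sat F 2) (hE : F.IsEssential 2 E) (m : Meta E) (nm : ¬ Meta S) :
    IsWreathed S ∧ Cyc ⁅S, S⁆ := by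
  obtain ⟨ab, a, ha, s, hs, ns, c4, a2, g1, ch⟩ := ess_meta_aux hF hE m nm
  have lt := hF.ess_lt hE
  have kS := ess_pi hF le_rfl
  have kE := kS.le lt.le
  have hb := conj_mem_of_norm hs.2 ha
  have cab : Commute a (s * a * s⁻¹) := ab.mul_comm ha hb
  obtain ⟨n, hn⟩ : ∃ n, orderOf a = 2 ^ n := ⟨_, (kE.elt ha).eq_pow_logn (orderOf_pos a).ne'⟩
  have hn2 : 2 ≤ n := by
    by_contra! c
    exact a2 (orderOf_dvd_iff_pow_eq_one.1 (hn ▸ pow_dvd_pow 2 (Nat.le_of_lt_succ c)))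
  have ob : orderOf (s * a * s⁻¹) = 2 ^ n := by
    rw [← hn]; exact (MulAut.conj s).orderOf_eq a
  have i0 : zpowers a ⊓ zpowers (s * a * s⁻¹) = ⊥ := by
    by_contra c
    obtain ⟨n, rfl⟩ : ∃ m, n = m + 1 := ⟨n - 1, by omega⟩
    have t : ∀ b : G, orderOf b = 2 ^ (n + 1) → PiGrp {2} (zpowers b) → ∀ X ≤ zpowers b, X ≠ ⊥ →
        𝛀 2 X = zpowers (b ^ 2 ^ n) := fun b ob kb X hX X1 => by
      have o : orderOf (b ^ 2 ^ n) = 2 := by
        rw [orderOf_pow' _ (by positivity), ob, Nat.gcd_eq_right (pow_dvd_pow 2 n.le_succ), pow_succ',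
          Nat.mul_div_cancel _ (by positivity)]
      rw [Om_eq_of_le hX ((cyc_zpowers b).Om_le kb hX X1)]
      exact ((cyc_zpowers b).eq_Om (elem_zpowers Nat.prime_two (pow_mem (mem_zpowers b) _) o)).symm
    have t1 := (t a hn (kE.le (zpowers_le.2 ha)) _ inf_le_left c).symm.trans
      (t _ ob (kE.le (zpowers_le.2 hb)) _ inf_le_right c)
    have t2 : a ^ 2 ^ n ≠ 1 := fun d => by
      have := Nat.le_of_dvd (by positivity) (hn ▸ orderOf_dvd_of_pow_eq_one d)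
      rw [Nat.pow_le_pow_iff_right one_lt_two] at this; omega
    rcases eq_of_mem_zpowers_two (by rw [← pow_mul, ← pow_succ, ← ob, pow_orderOf_eq_one])
      (t1.le (mem_zpowers _)) with d | d
    · exact t2 d
    · exact ch _ t2 (by rw [cab.inv_left.mul_pow, ← d, inv_pow, inv_mul_cancel])
  have s2 : s ^ 2 ∈ E := pow_two s ▸ c4 s hs.1 ns
  have sb : s * (s * a * s⁻¹) * s⁻¹ = a := by
    rw [show s * (s * a * s⁻¹) * s⁻¹ = s ^ 2 * a * (s ^ 2)⁻¹ by rw [pow_two]; group, ab.mul_comm s2 ha]; group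
  generalize hb0 : s * a * s⁻¹ = b at *
  obtain ⟨_, ⟨i, rfl⟩, _, ⟨j, rfl⟩, e1⟩ := (mem_sup_norm' (norm_of_cent (ab.cent (zpowers_le.2 hb)
    (zpowers_le.2 ha)))).1 (g1.ge s2)
  beta_reduce at e1
  have e2 : b ^ i * a ^ j = a ^ i * b ^ j := by
    calc b ^ i * a ^ j = s * (a ^ i * b ^ j) * s⁻¹ := by
          rw [← hb0, conj_zpow]; nth_rw 2 [← sb]; rw [conj_zpow, ← hb0]; group
      _ = _ := by rw [e1, pow_two]; group
  have e3 : b ^ j = b ^ i := by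
    have t : b ^ (i - j) = a ^ (i - j) := by
      calc b ^ (i - j) = b ^ i * a ^ j * (a ^ j)⁻¹ * (b ^ j)⁻¹ := by group
        _ = a ^ i * (b ^ j * (a ^ j)⁻¹) * (b ^ j)⁻¹ := by rw [e2]; group
        _ = _ := by rw [← ((cab.zpow_zpow j j).inv_left).eq]; group
    have : b ^ (i - j) ∈ zpowers a ⊓ zpowers b := ⟨t ▸ zpow_mem (mem_zpowers a) _, zpow_mem (mem_zpowers b) _⟩
    rw [i0, mem_bot, zpow_sub, mul_inv_eq_one] at this
    exact this.symm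
  have z2 : (s * (a ^ i)⁻¹) ^ 2 = 1 := by
    calc (s * (a ^ i)⁻¹) ^ 2 = ((s * a * s⁻¹) ^ i)⁻¹ * s ^ 2 * (a ^ i)⁻¹ := by rw [conj_zpow, pow_two, pow_two]; group
      _ = _ := by rw [hb0, ← e1, e3, (cab.zpow_zpow i i).eq]; group
  have za : s * (a ^ i)⁻¹ * a * (s * (a ^ i)⁻¹)⁻¹ = b := by rw [← hb0]; group
  have zS : s * (a ^ i)⁻¹ ∈ S := mul_mem hs.1 (inv_mem (zpow_mem (lt.le ha) i))
  have nz : s * (a ^ i)⁻¹ ∉ E := by rwa [mul_mem_cancel_right (inv_mem (zpow_mem ha i))]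
  have gS : E ⊔ zpowers s = S := le_antisymm (sup_le lt.le (zpowers_le.2 hs.1)) fun g hg => by
    by_cases d : g ∈ E
    · exact mem_sup_left d
    · exact (mul_mem_cancel_right (mem_sup_right (mem_zpowers s))).1 (mem_sup_left (c4 g hg d))
  constructor
  · refine ⟨n, hn2, ?_, ⟨a, lt.le ha⟩, ⟨b, lt.le hb⟩, ⟨_, zS⟩, by rw [← orderOf_coe]; exact hn, Subtype.ext cab,
      ?_, by rw [← orderOf_coe]; exact orderOf_eq_prime z2 fun d => nz ((show s * (a ^ i)⁻¹ = 1 from d) ▸ one_mem _),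
      Subtype.ext za⟩
    · have t1 := logn_sup_zpowers Nat.prime_two hs.2 ns s2
      have t2 := logn_sup_add (p := 2) (.inl (norm_of_cent (ab.cent (zpowers_le.2 ha) (zpowers_le.2 hb))))
      rw [g1, i0, lg_bot, Nat.card_zpowers, Nat.card_zpowers, hn, ob, logn_pow Nat.prime_two] at t2
      rw [gS] at t1
      rw [kS.card_eq, t1]
      congr 1; omega
    · refine (map_eq_bot_iff_of_injective _ S.subtype_injective).1 (le_bot_iff.1 (le_trans ?_ i0.le))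
      exact (map_inf_le _ _ _).trans (by simp)
  · have g2 : zpowers s ⊔ zpowers a = S := le_antisymm (sup_le (zpowers_le.2 hs.1) (zpowers_le.2 (lt.le ha)))
      (gS.ge.trans (sup_le (g1.ge.trans (sup_le le_sup_right (zpowers_le.2 (hb0 ▸ mul_mem (mul_mem
        (mem_sup_left (mem_zpowers s)) (mem_sup_right (mem_zpowers a))) (inv_mem (mem_sup_left (mem_zpowers s)))))))
        le_sup_left))
    have e4 : ⁅s, a⁆ = b * a⁻¹ := by rw [commutatorElement_def, hb0]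
    refine (cyc_zpowers ⁅s, a⁆).mono (der_le_zpowers g2 (g2.ge.trans (sup_le (zpowers_le.2 ?_) (zpowers_le.2 ?_))))
    · refine Fus.mem_normalizer_of_le (S := ⊤) le_top ?_
      rintro _ ⟨l, rfl⟩
      refine ⟨-l, ?_⟩
      beta_reduce
      rw [← conj_zpow, zpow_neg, ← inv_zpow, e4]
      congr 1
      calc (b * a⁻¹)⁻¹ = (s * b * s⁻¹) * (s * a * s⁻¹)⁻¹ := by rw [sb, hb0]; group
        _ = _ := by group
    · exact norm_of_cent (ab.cent le_rfl (zpowers_le.2 (e4 ▸ mul_mem hb (inv_mem ha)))) ha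

end CF.Rt.BC
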