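import Cfsg.Agent.RI.BC4
import Cfsg.Agent.Fus.Loc
import Cfsg.Agent.Fus.Group
import Cfsg.Agent.CIT.More
import Cfsg.Agent.S4418
import Cfsg.Agent.S5212

/-! Simple groups with bicyclic Sylow `2`-subgroups. -/

set_option autoImplicit false
set_option linter.unusedSectionVars false

namespace CF.Rt.BC

open Subgroup CF.BG CF.BG2 CF.Pgp Cfsg
open CF.Fus (Sat Mor Iso fn cA img Gen stab OpIn pre fn_cA fn_mem mulOn_fn stab_maps mem_stab_of_maps fn_mul PIso)
open scoped commutatorElement CF.Fus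

universe v

variable {G : Type v} [Group G] [Finite G] {A B C D E H K L M N P Q R S W X : Subgroup G}
  {a b c e g h k m s t u w x y z : G} {F : FusionSystem S} {f : G → G}

theorem meta_of_piso (h : PIso f H K) (m : Meta K) : Meta H :=
  meta_iff.2 (Fus.isMetacyclic_of_injective (meta_iff.1 m) h.equiv.toMonoidHom h.equiv.injective)

theorem NB.M3_stab (h : NB S x y) (α : MulAut S) : α ∈ stab S (M3 S x y) := by
  have i := Fus.piso_fn α
  have l := i.img_lt_img le_rfl h.M3_lt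
  rw [Fus.img_fn] at l
  exact mem_stab_of_maps h.M3_le (Fus.img_le_iff.1 ((h.cases l).resolve_left fun c =>
    h.nm3 (meta_of_piso (i.restrict h.M3_le) c)))

theorem NB.triv_top (h : NB S x y) (α : MulAut S) (hu : u ∈ S) : u⁻¹ * fn α u ∈ M3 S x y :=
  triv_of_lg h.k h.M3_le (by have := h.lg_S; have := h.lg_M3; omega) hu (fn_mem α hu)
    (Fus.mem_stab.1 (h.M3_stab α) u)

theorem NB.aut_two (h : NB S x y) (K : Subgroup (MulAut S)) : IsPGroup 2 K :=
  Fus.OpIn_isPGroup.to_le fun α hα => mem_OpIn_frat h.k (fun β _ => h.M3_stab β) hα (fun _ => h.triv_top α)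
    fun u _ hu => triv_of_lg (h.k.le h.M3_le) NB.Phi_le_M3 h.lg_M3.le hu (stab_maps (h.M3_stab α) hu)
      (Fus.mem_stab.1 (Phi_stab h.k le_rfl (stab_top α)) u)

theorem NB.focal (h : NB S x y) (hF : Sat F 2) (nw : ¬ IsWreathed S) :
    ∀ P f, Mor F P f → ∀ u ∈ P, u⁻¹ * f u ∈ M3 S x y := by
  refine hF.alperin (Fus.mc_focal F _).mono (Fus.mc_focal F _).comp ?_
  rintro P (rfl | hP) α hα u hu
  · exact h.triv_top α hu
  · have l := (h.cases (hF.ess_lt hP)).resolve_left fun c => nw (ess_meta hF hP c h.nm).1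
    exact l (mul_mem (inv_mem hu) (fn_mem α hu))

theorem quat_inv {m : ℕ} [NeZero m] {g : QuaternionGroup m} (h : g ^ 2 = 1) (h1 : g ≠ 1) : g = .a m := by
  rcases g with i | i
  · rw [pow_two, QuaternionGroup.a_mul_a, QuaternionGroup.one_def, QuaternionGroup.a.injEq] at h
    rcases (ZMod.neg_eq_self_iff i).1 (neg_eq_of_add_eq_zero_left h) with c | c
    · exact (h1 (by rw [c]; rfl)).elim
    · rw [← ZMod.natCast_zmod_val i, show i.val = m by omega]
  · have := orderOf_dvd_of_pow_eq_one h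
    rw [QuaternionGroup.orderOf_xa] at this
    omega

theorem bic_cases [IsSimpleGroup G] (nc : ¬ IsMulCommutative G) (T : Sylow 2 G)
    (hb : ∃ x y : ↥(T : Subgroup G), ∀ g : ↥(T : Subgroup G), ∃ i j : ℤ, g = x ^ i * y ^ j) :
    (∃ m, Nonempty ((T : Subgroup G) ≃* DihedralGroup m)) ∨ IsQuasiDihedral (T : Subgroup G) ∨
      IsWreathed (T : Subgroup G) := by
  have hF := Fus.sat_group T
  have k := ess_pi hF le_rfl
  have foc : ∀ D : Subgroup G, (∀ P f, Mor (groupFusionSystem (T : Subgroup G)) P f → ∀ u ∈ P, u⁻¹ * f u ∈ D) →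
      (T : Subgroup G) ≤ D := fun D h => by
    have := Transfer.sylow_inf_commutator_le T (K := D) fun u hu g hg => h (zpowers u) (Fus.cj g)
      (Fus.mor_group.2 ⟨zpowers_le.2 hu, by
        rintro _ ⟨i, rfl⟩
        rw [Fus.cj_apply, ← conj_zpow]; exact zpow_mem hg i, g, fun _ _ => rfl⟩) u (mem_zpowers u)
    rwa [((inferInstance : (_root_.commutator G).Normal).eq_bot_or_eq_top).resolve_left fun c =>
      nc ((commutator_eq_bot_iff G).1 c), inf_top_eq] at this
  have ns := CIT.not_sol_of_simple nc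
  obtain ⟨u, v, u1, v1, u2, v2, uv⟩ : ∃ u v : (T : Subgroup G), u ≠ 1 ∧ v ≠ 1 ∧ u ^ 2 = 1 ∧ v ^ 2 = 1 ∧ u ≠ v := by
    obtain ⟨z, -, hz⟩ := CIT.exists_inv_of_not_sol ns
    obtain ⟨V, hV, -⟩ := CIT.exists_klein (CIT.rank2_of_simple nc) hz
    obtain ⟨Q, l⟩ := (Invol.klein_isPGroup hV).exists_le_sylow
    obtain ⟨u, hu, v, hv, u1, v1, uv⟩ := Invol.klein_exists hV
    have e := Sylow.equiv Q T
    have t : ∀ u (hu : u ∈ V), e ⟨u, l hu⟩ ^ 2 = 1 := fun u hu => by
      rw [← map_pow, MulEquiv.map_eq_one_iff]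
      exact Subtype.ext ((pow_two u).trans (Invol.klein_mul_self hV hu))
    exact ⟨e ⟨u, l hu⟩, e ⟨v, l hv⟩, fun c => u1 (congrArg Subtype.val (e.map_eq_one_iff.1 c)),
      fun c => v1 (congrArg Subtype.val (e.map_eq_one_iff.1 c)), t u hu, t v hv,
      fun c => uv (congrArg Subtype.val (e.injective c))⟩
  by_cases m : Meta (T : Subgroup G)
  swap
  · obtain ⟨x, y, h⟩ := hb
    have b : NB (T : Subgroup G) x y := ⟨⟨x.2, y.2, fun g hg => by
      obtain ⟨i, j, e⟩ := h ⟨g, hg⟩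
      obtain ⟨i', hi⟩ := (mem_powers_iff_mem_zpowers (x := x)).2 (zpow_mem (mem_zpowers x) i)
      obtain ⟨j', hj⟩ := (mem_powers_iff_mem_zpowers (x := y)).2 (zpow_mem (mem_zpowers y) j)
      rw [← hi, ← hj] at e
      exact ⟨i', j', congrArg Subtype.val e⟩⟩, k, m⟩
    by_contra c
    exact b.M3_lt.not_ge (foc _ (b.focal hF fun d => c (.inr (.inr d))))
  by_contra c
  simp only [not_or] at c
  have T1 : (T : Subgroup G) ≠ ⊥ := fun d => u1 (Subtype.ext (mem_bot.1 (d.le u.2)))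
  refine (k.nil.comm_lt (NormalIn.refl _) T1).not_ge (foc _ fun P f hf w hw => ?_)
  have i := Cfsg.Agent.S5212.result hF.pg _ hF.sat (meta_iff.1 m) ?_ c.1 ?_ c.2.1
  · obtain ⟨l, s, hs, e⟩ := Fus.mor_inner.1 ((Fus.hom_eq_iff.1 i P f).1 hf)
    rw [e w hw]
    exact Transfer.inv_mul_conj_mem_commutator (l hw) hs
  · rintro ⟨n, r, ⟨e⟩⟩
    obtain ⟨N, hN, h1, h2⟩ := meta_iff.1 m
    have h3 : ¬ 2 < Nat.card (T ⧸ N) := fun d => ns (by
      have := Cfsg.Agent.S4418.result T N h1 h2 d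
      exact inferInstanceAs (Group.IsSolvable (⊤ : Subgroup G)))
    have ex : ∀ g : (T : Subgroup G), g ^ 2 ^ n = 1 := fun g => e.injective (by
      rw [map_pow, map_one]
      ext i
      simp [← ofAdd_nsmul])
    have h4 : Nat.card N ≤ 2 ^ n := by
      obtain ⟨g, hg⟩ := IsCyclic.exists_ofOrder_eq_natCard (α := N)
      rw [← hg, ← orderOf_coe]
      exact Nat.le_of_dvd (by positivity) (orderOf_dvd_of_pow_eq_one (ex g))
    have h5 : Nat.card T = 2 ^ (n * r) := by
      rw [Nat.card_congr e.toEquiv]; simp [pow_mul]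
    have h6 := card_eq_card_quotient_mul_card_subgroup N
    have h7 : 2 ^ (n * r) ≤ 2 ^ (n + 1) := by
      rw [← h5, h6, pow_succ']; exact Nat.mul_le_mul (by omega) h4
    rw [Nat.pow_le_pow_iff_right one_lt_two] at h7
    have n0 : n ≠ 0 := by rintro rfl; exact u1 (by simpa using ex u)
    have r2 : ¬ r ≤ 1 := fun d => by
      have : IsCyclic T := by
        refine e.isCyclic.2 ?_
        interval_cases r
        · exact isCyclic_of_subsingleton
        · exact (AddEquiv.toMultiplicative (AddEquiv.funUnique (Fin 1) (ZMod (2 ^ n)))).isCyclic.2 inferInstance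
      have o : ∀ u : (T : Subgroup G), u ≠ 1 → u ^ 2 = 1 → zpowers (u : G) = 𝛀 2 T := fun u u1 u2 =>
        Cyc.eq_Om this (elem_zpowers' Nat.prime_two u.2 (congrArg Subtype.val u2) fun d => u1 (Subtype.ext d))
      rcases eq_of_mem_zpowers_two (congrArg Subtype.val v2) (((o u u1 u2).trans (o v v1 v2).symm).le
        (mem_zpowers _)) with d | d
      exacts [u1 (Subtype.ext d), uv (Subtype.ext d)]
    obtain ⟨rfl, rfl⟩ : n = 1 ∧ r = 2 := by
      constructor <;> nlinarith [Nat.pos_of_ne_zero n0]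
    haveI : Nontrivial T := ⟨u, v, uv⟩
    haveI : IsKleinFour T := ⟨h5, (Monoid.exponent_eq_prime_iff Nat.prime_two).2 fun g hg => orderOf_eq_prime (ex g) hg⟩
    exact c.1 ⟨2, IsKleinFour.nonempty_mulEquiv⟩
  · rintro ⟨n, ⟨e⟩⟩
    rcases n with _ | n
    · haveI := Finite.of_equiv _ e.toEquiv
      haveI : Finite ℤ := Finite.of_injective (fun i : ℤ => (QuaternionGroup.a i : QuaternionGroup 0))
        fun _ _ h => QuaternionGroup.a.inj h
      exact not_finite ℤ
    have t : ∀ u : (T : Subgroup G), u ≠ 1 → u ^ 2 = 1 → e u = .a (n + 1 : ℕ) := fun u u1 u2 =>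
      quat_inv (by rw [← map_pow, u2, map_one]) fun d => u1 (e.map_eq_one_iff.1 d)
    exact uv (e.injective ((t u u1 u2).trans (t v v1 v2).symm))

end CF.Rt.BC
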