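import Cfsg.Agent.RI.BC5

/-! Essential subgroups of rank three in a bicyclic `2`-group. -/

set_option autoImplicit false
set_option linter.unusedSectionVars false

namespace CF.Rt.BC

open Subgroup CF.BG CF.BG2 CF.Pgp Cfsg
open CF.Fus (Sat Mor Iso fn cA img Gen stab OpIn pre fn_cA fn_mem mulOn_fn stab_maps mem_stab_of_maps fn_mul PIso)
open scoped commutatorElement CF.Fus

universe v

section
variable {V : Type*} [CommGroup V] [Finite V]

theorem transv (k : PiGrp {2} (⊤ : Subgroup V)) (l : ℓ (⊤ : Subgroup V) = 3) (sq : ∀ v : V, v * v = 1)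
    {t : MulAut V} (h1 : t ≠ 1) (h2 : t * t = 1) : ∃ (L : Subgroup V) (p : V), (∀ v, v ∈ L ↔ t v = v) ∧ ℓ L = 2 ∧
      p ∈ L ∧ p ≠ 1 ∧ ∀ v ∉ L, t v = v * p := by
  let L : Subgroup V := t.toMonoidHom.eqLocus (MonoidHom.id V)
  have hL : ∀ v, v ∈ L ↔ t v = v := fun v => Iff.rfl
  have iv : ∀ v : V, v⁻¹ = v := fun v => inv_eq_of_mul_eq_one_left (sq v)
  have d : ∀ v, v * t v ∈ L := fun v => by
    rw [hL, map_mul, ← MulAut.mul_apply, h2, MulAut.one_apply, mul_comm]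
  have d1 : ∀ v, v * t v ∈ (⊥ : Subgroup V) ↔ v ∈ L := fun v => by
    rw [mem_bot, hL, ← eq_inv_iff_mul_eq_one, iv, eq_comm]
  obtain ⟨g, ng⟩ : ∃ g, g ∉ L := by
    by_contra! c
    exact h1 (MulEquiv.ext c)
  have l1 := k.logn_lt (lt_top_iff_ne_top.2 fun c : L = ⊤ => ng (c ▸ mem_top g))
  have l2 : ℓ L = 2 := by
    by_contra c
    have n : ∀ (H : Subgroup V) v, v ∈ 𝐍 H := fun H v => le_normalizer_of_normal (mem_top v)
    have l3 := lg_sup_zpowers_le (n L g) (by rw [pow_two, sq]; exact one_mem _)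
    obtain ⟨h, -, nh⟩ := exists_not_mem (p := 2) (H := L ⊔ zpowers g) (K := ⊤) (by omega)
    have := mul_mem_of_logn (k.le le_top) bot_le (by rw [lg_bot]; omega) (d g) (d h) (mt (d1 g).1 ng)
      (mt (d1 h).1 fun c => nh (mem_sup_left c))
    rw [mul_mul_mul_comm, ← map_mul, d1] at this
    exact nh ((mul_mem_cancel_left (mem_sup_right (mem_zpowers g))).1 (mem_sup_left this))
  refine ⟨L, g * t g, hL, l2, d g, mt (d1 g).1 ng, fun v nv => ?_⟩
  have := (hL _).1 (mul_mem_of_logn k le_top (by omega) (mem_top v) (mem_top g) nv ng)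
  rw [map_mul, ← eq_mul_inv_iff_mul_eq, iv] at this
  rw [this, mul_assoc]

theorem two_transv (k : PiGrp {2} (⊤ : Subgroup V)) (l : ℓ (⊤ : Subgroup V) = 3) (sq : ∀ v : V, v * v = 1)
    {t t' : MulAut V} (h1 : t ≠ 1) (h2 : t * t = 1) (h1' : t' ≠ 1) (h2' : t' * t' = 1)
    (H : ∀ D : Subgroup V, (∀ d ∈ D, t' d ∈ D) → (∀ v, v⁻¹ * t v ∈ D) → (∀ d ∈ D, t d = d) → False) :
    ∃ p p' q : V, t p' = p' * p ∧ (t * t') p = p' ∧ (t * t') p' = p' * p ∧ (t * t') q = q ∧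
      zpowers p' ⊔ zpowers p ⊔ zpowers q = ⊤ := by
  obtain ⟨L, p, a1, a2, a3, a4, a5⟩ := transv k l sq h1 h2
  obtain ⟨L', p', b1, b2, b3, b4, b5⟩ := transv k l sq h1' h2'
  have t1 : ∀ D : Subgroup V, p ∈ D → ∀ v, v⁻¹ * t v ∈ D := fun D hp v => by
    by_cases c : v ∈ L
    · rw [(a1 v).1 c, inv_mul_cancel]; exact one_mem _
    · rwa [a5 v c, inv_mul_cancel_left]
  have c1 : p ∉ L' := fun c => H (zpowers p) (by
    rintro _ ⟨i, rfl⟩; rw [map_zpow, (b1 p).1 c]; exact ⟨i, rfl⟩) (t1 _ (mem_zpowers p))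
      fun d hd => (a1 d).1 (zpowers_le.2 a3 hd)
  have c2 : p' ∉ L := fun c => H L (fun d hd => by
    by_cases c' : d ∈ L'
    · rwa [(b1 d).1 c']
    · rw [b5 d c']; exact mul_mem hd c) (t1 _ a3) fun d => (a1 d).1
  have n : ∀ (H : Subgroup V) v, v ∈ 𝐍 H := fun H v => le_normalizer_of_normal (mem_top v)
  have l1 := Pgp.logn_sup_add (p := 2) (H := L) (K := L') (.inl fun v _ => n _ v)
  have l2 := logn_card_le (p := 2) (le_top : L ⊔ L' ≤ ⊤)
  obtain ⟨q, hq, q1⟩ := exists_not_mem (p := 2) (H := ⊥) (K := L ⊓ L') (by rw [lg_bot]; omega)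
  refine ⟨p, p', q, a5 _ c2, ?_, ?_, ?_, ?_⟩
  · rw [MulAut.mul_apply, b5 p c1, map_mul, (a1 p).1 a3, a5 _ c2, mul_left_comm, sq, mul_one]
  · rw [MulAut.mul_apply, (b1 p').1 b3, a5 _ c2]
  · rw [MulAut.mul_apply, (b1 q).1 hq.2, (a1 q).1 hq.1]
  · have e1 : zpowers q ⊔ zpowers p = L := by
      have := lg_zpowers ((pow_two q).trans (sq q)) q1
      exact sup_zpowers_eq (p := 2) (k.le le_top) (zpowers_le.2 hq.1) (by omega) a3
        fun c => c1 (zpowers_le.2 hq.2 c)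
    rw [sup_assoc, sup_comm (zpowers p), e1, sup_comm]
    exact sup_zpowers_eq (p := 2) k le_top (by omega) (mem_top _) c2

end

variable {G : Type v} [Group G] [Finite G] {A B C D E H K L M N P Q R S W X : Subgroup G}
  {a b c e g h k m s t u w x y z : G} {F : FusionSystem S} {f : G → G}

theorem lg_img {α : MulAut E} (h : D ≤ E) : ℓ (img (fn α) D) = ℓ D := by rw [(Fus.piso_fn α).card_img h]

theorem img_Phi (k : PiGrp {2} E) (α : MulAut E) : img (fn α) (𝚽 E) = 𝚽 E :=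
  (Fus.mem_stab_iff_img (Phi_le E)).1 (Phi_stab k le_rfl (stab_top α))

theorem ess_rank (hF : Sat F 2) (hE : F.IsEssential 2 E) (nm : ¬ Meta E) (l : D ≤ E) (l' : 𝚽 E ≤ D) (m : Meta D)
    (h : ℓ E ≤ ℓ D + 1) : ℓ (𝚽 E) + 3 ≤ ℓ E := by
  have k := ess_pi hF (hF.ess_lt hE).le
  by_contra! c
  obtain ⟨H, hH, nH⟩ : ∃ H, H < E ∧ ¬ Meta H := by
    by_contra! d
    exact nm (meta_of_proper k (by omega) d)
  have l1 : H ⊔ 𝚽 E < E := lt_of_le_of_ne (sup_le hH.le (Phi_le E)) fun e => hH.ne (eq_of_le_sup_Phi hH.le e.ge)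
  have n1 : ¬ Meta (H ⊔ 𝚽 E) := fun d => nH (d.mono le_sup_left)
  have p1 : 𝚽 E ≤ H ⊔ 𝚽 E := le_sup_right
  generalize H ⊔ 𝚽 E = B at *
  have l2 := k.logn_lt l1
  have l3 := (k.le l1.le).logn_lt (lt_of_le_of_ne p1 fun e => n1 (e ▸ m.mono l'))
  have l4 := k.logn_lt (lt_of_le_of_ne l fun e => nm (e ▸ m))
  have mv : ∀ X, X ≤ E → 𝚽 E ≤ X → ℓ E ≤ ℓ X + 1 → ℓ X ≤ ℓ (𝚽 E) + 1 → ∃ α : MulAut E, ∃ u ∈ X, fn α u ∉ X :=
    fun X x1 x2 x3 x4 => by
      by_contra! d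
      exact ess_no_chain hF hE x1 x2 (fun α _ => mem_stab_of_maps x1 (d α)) x3 x4
  obtain ⟨α, b, hb, nb⟩ := mv B l1.le p1 (by omega) (by omega)
  obtain ⟨β, d, hd, nd⟩ := mv D l l' h (by omega)
  have key : ∀ (γ : MulAut E) (X Y : Subgroup G), X ≤ E → 𝚽 E ≤ X → ℓ X ≤ ℓ (𝚽 E) + 1 → 𝚽 E ≤ Y → ∀ u ∈ X,
      u ∉ 𝚽 E → fn γ u ∈ Y → img (fn γ) X ≤ Y := fun γ X Y x1 x2 x3 y1 u hu nu hY => by
    rw [← sup_zpowers_eq (p := 2) (k.le x1) x2 x3 hu nu, (Fus.piso_fn γ).img_sup (Phi_le E) (zpowers_le.2 (x1 hu)),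
      img_Phi k, ((mulOn_fn γ).mono (zpowers_le.2 (x1 hu))).img_zpowers]
    exact sup_le y1 (zpowers_le.2 hY)
  have st : ∀ (γ : MulAut E) u, fn γ u ∈ 𝚽 E ↔ u ∈ 𝚽 E := fun γ => Fus.mem_stab.1 (Phi_stab k le_rfl (stab_top γ))
  have nbP : b ∉ 𝚽 E := fun c => nb (p1 ((st α b).2 c))
  have ndP : d ∉ 𝚽 E := fun c => nd (l' ((st β d).2 c))
  have main : ∀ (γ : MulAut E), (fn α b)⁻¹ * fn γ d ∈ B ∧ (fn α b)⁻¹ * fn γ d ∉ 𝚽 E := fun γ => by
    have mD : Meta (img (fn γ) D) := meta_of_piso ((Fus.piso_fn γ).restrict l).symm m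
    have pD : 𝚽 E ≤ img (fn γ) D := (img_Phi k γ).ge.trans (Fus.img_mono l')
    have lD := lg_img (α := γ) l
    have eD := (Fus.piso_fn γ).img_le l
    refine ⟨mul_mem_of_logn k l1.le (by omega) (inv_mem (fn_mem α (l1.le hb))) (fn_mem γ (l hd)) (by rwa [inv_mem_iff])
      fun c => n1 (mD.mono ?_), fun c => n1 (meta_of_piso ((Fus.piso_fn α).restrict l1.le) (mD.mono ?_))⟩
    · exact ((k.le l1.le).eq_of_logn_le (key γ D B l l' (by omega) p1 d hd ndP c) (by omega)).ge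
    · refine key α B _ l1.le p1 (by omega) pD b hb nbP ?_
      have := mul_mem (Fus.mem_img_of_mem (f := fn γ) hd) (inv_mem (pD c))
      simpa using this
  have := mul_mem_of_logn (k.le l1.le) p1 (by omega) (inv_mem (main 1).1) (main β).1 (by
    rw [inv_mem_iff]; exact (main 1).2) (main β).2
  rw [Fus.fn_one, mul_inv_rev, inv_inv, mul_assoc, mul_inv_cancel_left] at this
  exact nd ((mul_mem_cancel_left (inv_mem hd)).1 (l' this))

theorem eq_one_of_cube (k : PiGrp {2} E) (hu : u ∈ E) (h : u ^ 3 = 1) : u = 1 := by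
  have := mem_zpowers_odd (k.elt hu) (a := 3) (by decide)
  simpa [h] using this

/-- the structure of an essential subgroup of rank three -/
structure Str (S E : Subgroup G) (s a b c z : G) : Prop where
  hs : s ∈ NS S E
  gen : zpowers a ⊔ zpowers b ⊔ zpowers c = E
  ca : Commute c a
  cb : Commute c b
  qa : a ^ 2 = z
  qb : b ^ 2 = z
  ab : ⁅a, b⁆ = z
  z2 : z ^ 2 = 1
  act : b⁻¹ * (a⁻¹ * (s * a * s⁻¹)) ∈ 𝚽 E
  lg : ℓ E = ℓ (𝚽 E) + 3

theorem exists_str (hF : Sat F 2) (hE : F.IsEssential 2 E) (l : ℓ E = ℓ (𝚽 E) + 3) (hs : s ∈ NS S E) (ns : s ∉ E)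
    (s2 : s ^ 2 ∈ E) (s3 : ∀ u ∈ 𝚽 E, u⁻¹ * (s * u * s⁻¹) ∈ 𝚽 (𝚽 E)) : ∃ a b c z, Str S E s a b c z := by
  have lt := hF.ess_lt hE
  have k := ess_pi hF lt.le
  obtain ⟨V, _, π, ρ, sec⟩ := Fus.exists_sec (P := E) (A := 𝚽 E) le_rfl (Phi_normal E).norm
  have pS : ∀ β : MulAut E, β ∈ stab E (𝚽 E) := fun β => Phi_stab k le_rfl (stab_top β)
  have act : ∀ β : MulAut E, ∀ u ∈ E, ρ β (π u) = π (fn β u) := fun β => sec.act (pS β) (stab_top β)
  have mul : ∀ β γ, ρ (β * γ) = ρ β * ρ γ := fun β γ => sec.mulOn (K := ⊤) (fun β _ => pS β)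
    (fun β _ => stab_top β) (mem_top β) (mem_top γ)
  have one : ∀ β, ρ β = 1 ↔ ∀ u ∈ E, u⁻¹ * fn β u ∈ 𝚽 E := fun β => sec.eq_one_iff (pS β) (stab_top β)
  have eqv : ∀ {u w}, u ∈ E → w ∈ E → (π u = π w ↔ u⁻¹ * w ∈ 𝚽 E) := fun hu hw => by
    rw [← sec.ker _ (mul_mem (inv_mem hu) hw), sec.mul.map_inv_mul hu hw, inv_mul_eq_one]
  have sq : ∀ v : V, v * v = 1 := fun v => by
    obtain ⟨u, hu, rfl⟩ := sec.surj v
    rw [← sec.mul hu hu, sec.ker _ (mul_mem hu hu), ← pow_two]; exact k.pow_mem_Phi hu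
  have cV : Nat.card V = 2 ^ 3 := by
    have := logn_card_eq_add (p := 2) (Phi_le E)
    rw [sec.card, (k.relIndex _).eq_pow_logn (relIndex_ne_zero' _ _)]; congr 1; omega
  haveI : Finite V := Nat.finite_of_card_ne_zero (by rw [cV]; norm_num)
  letI : CommGroup V := { (inferInstance : Group V) with
    mul_comm := fun a b => by
      have iv : ∀ v : V, v⁻¹ = v := fun v => inv_eq_of_mul_eq_one_left (sq v)
      rw [← iv (a * b), mul_inv_rev, iv, iv] }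
  obtain ⟨α, hα⟩ := hF.exists_gen hE
  have r1 : ρ 1 = 1 := (one 1).2 fun u _ => by simp [Fus.fn_one]
  have t1 : ρ (cA E s) ≠ 1 := fun c => ns (ess_frat hF hE (fun β _ => stab_top β) hs
    (fun u hu => mul_mem (inv_mem hu) (conj_mem_of_norm hs.2 hu)) fun u hu _ => fn_cA hs.2 hu ▸ (one _).1 c u hu)
  have t2 : ρ (cA E s) * ρ (cA E s) = 1 := by
    rw [← mul, ← Fus.cA_mul hs.2 hs.2, ← pow_two, one]
    intro u hu
    rw [fn_cA (le_normalizer s2) hu, ← mul_assoc, ← mul_assoc]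
    simpa [commutatorElement_def] using k.der_le_Phi (commutator_mem_commutator (inv_mem hu) s2)
  have ia : ρ α⁻¹ = (ρ α)⁻¹ := eq_inv_of_mul_eq_one_left (by rw [← mul, inv_mul_cancel, r1])
  obtain ⟨p, p', q, e1, e2, e3, e4, e5⟩ := two_transv (V := V)
    (piGrp_of_isPGroup Nat.prime_two ((IsPGroup.of_card cV).to_subgroup ⊤))
    (by rw [card_top, cV]; exact logn_pow Nat.prime_two 3) sq t1 t2 (t' := ρ (α * cA E s * α⁻¹))
    (by rw [mul, mul, ia]; simpa using t1) (by rw [mul, mul, ia, conj_mul, t2]; group) fun D d1 d2 d3 => by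
      have m : ∀ {u}, u ∈ pre π E D ↔ u ∈ E ∧ π u ∈ D := sec.mul.mem_pre
      refine ns (gen_frat hα hF hE hs (D := pre π E D) Fus.pre_le (Fus.mem_normalizer_of_le (S := ⊤) le_top
        fun u hu => ?_) (fun u hu => m.2 ⟨fn_mem _ (m.1 hu).1, act _ u (m.1 hu).1 ▸ d1 _ (m.1 hu).2⟩)
        (fun u hu => ?_) fun u hu => ?_)
      · rw [← fn_cA hs.2 (m.1 hu).1]
        exact m.2 ⟨fn_mem _ (m.1 hu).1, by rw [← act _ u (m.1 hu).1, d3 _ (m.1 hu).2]; exact (m.1 hu).2⟩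
      · rw [← fn_cA hs.2 hu]
        exact m.2 ⟨mul_mem (inv_mem hu) (fn_mem _ hu), by
          rw [sec.mul.map_inv_mul hu (fn_mem _ hu), ← act _ u hu]; exact d2 _⟩
      · rw [← fn_cA hs.2 (m.1 hu).1, ← eqv (m.1 hu).1 (fn_mem _ (m.1 hu).1), ← act _ u (m.1 hu).1, d3 _ (m.1 hu).2]
  rw [← mul] at e2 e3 e4
  have tP : cA E s * (α * cA E s * α⁻¹) ∈ Fus.trivOn E (𝚽 E) (𝚽 (𝚽 E)) := by
    have : cA E s ∈ Fus.trivOn E (𝚽 E) (𝚽 (𝚽 E)) := Fus.mem_trivOn.2 ⟨Phi_stab k (Phi_le E) (pS _),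
      fun u hu h => fn_cA hs.2 hu ▸ s3 u h⟩
    exact mul_mem this (Fus.conj_mem_trivOn (pS α) (Phi_stab k (Phi_le E) (pS α)) this)
  generalize cA E s * (α * cA E s * α⁻¹) = β at *
  have b3 : ρ β * ρ β * ρ β = 1 := by
    have : (⊤ : Subgroup V) ≤ (ρ β * ρ β * ρ β).toMonoidHom.eqLocus (MonoidHom.id V) := by
      have e6 : ρ β (p' * p) = p := by rw [map_mul, e2, e3, mul_right_comm, sq, one_mul]
      refine e5.ge.trans (sup_le (sup_le (zpowers_le.2 ?_) (zpowers_le.2 ?_)) (zpowers_le.2 ?_))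
      · show ρ β (ρ β (ρ β p')) = p'
        rw [e3, e6, e2]
      · show ρ β (ρ β (ρ β p)) = p
        rw [e2, e3, e6]
      · show ρ β (ρ β (ρ β q)) = q
        rw [e4, e4, e4]
    exact MulEquiv.ext fun v => this (mem_top v)
  obtain ⟨j, hj⟩ := Fus.isPGroup_iff_mem.1 Fus.OpIn_isPGroup _ (mem_OpIn_frat k (K := ⊤) (D := E) (α := β ^ 3)
    (fun β _ => stab_top β) (mem_top _) (fun u hu => mul_mem (inv_mem hu) (fn_mem _ hu))
    fun u hu _ => (one _).1 (by rw [pow_three', mul, mul, b3]) u hu)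
  obtain ⟨τ, τ3, τb, τP⟩ : ∃ τ : MulAut E, τ ^ 3 = 1 ∧ ρ τ = ρ β ∧ ∀ u ∈ 𝚽 E, fn τ u = u := by
    have o : (β ^ 4 ^ j) ^ 3 = 1 := by
      rw [← pow_mul, mul_comm, pow_mul, show 4 ^ j = 2 ^ j * 2 ^ j from (mul_pow 2 2 j), pow_mul, hj, one_pow]
    refine ⟨β ^ 4 ^ j, o, ?_, fix_of_frat k (Phi_le E) (pS _) (Nat.Coprime.coprime_dvd_left
      (orderOf_dvd_of_pow_eq_one o) (by norm_num)) fun u hu => (pow_mem tP _).2 u (Phi_le E hu) hu⟩
    have : ∀ n : ℕ, ρ (β ^ (3 * n + 1)) = ρ β := fun n => by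
      induction n with
      | zero => simp
      | succ n ih => rw [show 3 * (n + 1) + 1 = 3 + (3 * n + 1) by ring, pow_add, mul, ih, pow_three', mul, mul, b3,
          one_mul]
    obtain ⟨n, hn⟩ : ∃ n, 4 ^ j = 3 * n + 1 := ⟨4 ^ j / 3, by
      have : 4 ^ j % 3 = 1 := by rw [Nat.pow_mod]; simp
      omega⟩
    rw [hn, this]
  rw [← τb] at e2 e3 e4
  have mt := mulOn_fn τ
  have t3 : ∀ u, fn τ (fn τ (fn τ u)) = u := fun u => by rw [← fn_mul, ← fn_mul, ← pow_three', τ3, Fus.fn_one]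
  obtain ⟨g, hg, rfl⟩ := sec.surj p'
  obtain ⟨c, hc, rfl⟩ := sec.surj q
  have hb := mul_mem (inv_mem hg) (fn_mem τ hg)
  have πb : π (g⁻¹ * fn τ g) = p := by rw [sec.mul.map_inv_mul hg (fn_mem τ hg), ← act _ g hg, e3]; group
  have cb : ∀ u ∈ 𝚽 E, Commute (g⁻¹ * fn τ g) u := fun u hu => by
    have := τP _ ((Phi_normal E).conj_mem hg hu)
    rw [mt.map_conj hg (Phi_le E hu), τP u hu] at this
    calc g⁻¹ * fn τ g * u = g⁻¹ * (fn τ g * u * (fn τ g)⁻¹) * fn τ g := by group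
      _ = _ := by rw [this]; group
  have prod : g⁻¹ * fn τ g * fn τ (g⁻¹ * fn τ g) * fn τ (fn τ (g⁻¹ * fn τ g)) = 1 := by
    rw [mt.map_inv_mul hg (fn_mem τ hg), mt.map_inv_mul (fn_mem τ hg) (fn_mem τ (fn_mem τ hg)), t3]; group
  generalize g⁻¹ * fn τ g = b at *
  have ha := fn_mem τ hb
  have πa : π (fn τ b) = π g := by rw [← act _ b hb, πb, e2]
  have cτ : ∀ w ∈ E, (∀ u ∈ 𝚽 E, Commute w u) → ∀ u ∈ 𝚽 E, Commute (fn τ w) u := fun w hw h u hu => by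
    have := congrArg (fn τ) (h u hu).eq
    rwa [mt hw (Phi_le E hu), mt (Phi_le E hu) hw, τP u hu] at this
  have ca := cτ b hb cb
  have zP := k.pow_mem_Phi hb
  have qa : fn τ b ^ 2 = b ^ 2 := by rw [← mt.map_pow hb, τP _ zP]
  have qc : fn τ (fn τ b) ^ 2 = b ^ 2 := by rw [← mt.map_pow ha, qa, τP _ zP]
  have τc : fn τ c = c := by
    have u1 := (eqv hc (fn_mem τ hc)).1 (by rw [← act _ c hc, e4])
    have := Fus.fn_pow_eq_mul_pow hc (Phi_le E u1) (mul_inv_cancel_left c (fn τ c)).symm (τP _ u1) 3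
    rw [τ3, Fus.fn_one, left_eq_mul] at this
    exact (inv_mul_eq_one.1 (eq_one_of_cube k (Phi_le E u1) this)).symm
  have ccb : Commute c b := by
    have u1 : b⁻¹ * (c * b * c⁻¹) ∈ 𝚽 E := by
      simpa [commutatorElement_def, mul_assoc] using k.der_le_Phi (commutator_mem_commutator (inv_mem hb) hc)
    have e6 : c * b * c⁻¹ = b * (b⁻¹ * (c * b * c⁻¹)) := by group
    generalize b⁻¹ * (c * b * c⁻¹) = u at *
    have st : ∀ w ∈ E, c * w * c⁻¹ = w * u → c * fn τ w * c⁻¹ = fn τ w * u := fun w hw h => by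
      have := congrArg (fn τ) h
      rwa [mt.map_conj hc hw, mt hw (Phi_le E u1), τc, τP u u1] at this
    have e7 := st b hb e6
    have e8 := st _ ha e7
    have : u ^ 3 = 1 := by
      have cd := cτ _ ha ca u u1
      calc u ^ 3 = b * fn τ b * fn τ (fn τ b) * u ^ 3 := by rw [prod, one_mul]
        _ = b * u * (fn τ b * u) * (fn τ (fn τ b) * u) := by
          simp only [pow_three, mul_assoc, (ca u u1).symm.left_comm, cd.symm.left_comm]
        _ = c * (b * fn τ b * fn τ (fn τ b)) * c⁻¹ := by rw [← e6, ← e7, ← e8]; group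
        _ = 1 := by rw [prod]; group
    rw [eq_one_of_cube k (Phi_le E u1) this, mul_one] at e6
    exact mul_inv_eq_iff_eq_mul.1 e6
  have cca : Commute c (fn τ b) := by
    have := congrArg (fn τ) ccb.eq
    rwa [mt hc hb, mt hb hc, τc] at this
  have cP := k.der_le_Phi (commutator_mem_commutator ha hb)
  have e9 : (b * fn τ b) ^ 2 = (b ^ 2)⁻¹ := by rw [eq_inv_of_mul_eq_one_left prod, inv_pow, qc]
  rw [Transfer.mul_pow_of_class_two (cb _ cP) (ca _ cP), qa, Nat.choose_self, pow_one] at e9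
  have e10 : ⁅fn τ b, b⁆ ^ 2 = 1 := by
    rw [← Transfer.commutatorElement_pow_right' (cb _ cP), commutatorElement_eq_one_iff_commute]; exact ca _ zP
  have e11 : ⁅fn τ b, b⁆ = ((b ^ 2) ^ 3)⁻¹ := by
    rw [← inv_mul_cancel_left (b ^ 2 * b ^ 2) ⁅fn τ b, b⁆, e9]; group
  have z2 : (b ^ 2) ^ 2 = 1 := eq_one_of_cube k (pow_mem (pow_mem hb 2) 2) (by
    rw [e11, inv_pow, inv_eq_one] at e10; rw [← e10]; group)
  refine ⟨fn τ b, b, c, b ^ 2, hs, ?_, cca, ccb, qa, rfl, ?_, z2, ?_, l⟩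
  · have lK : zpowers (fn τ b) ⊔ zpowers b ⊔ zpowers c ≤ E :=
      sup_le (sup_le (zpowers_le.2 ha) (zpowers_le.2 hb)) (zpowers_le.2 hc)
    refine eq_of_le_sup_Phi lK fun w hw => ?_
    have : (⊤ : Subgroup V) ≤ img π (zpowers (fn τ b) ⊔ zpowers b ⊔ zpowers c) :=
      e5.ge.trans (sup_le (sup_le (zpowers_le.2 (πa ▸ Fus.mem_img_of_mem (mem_sup_left (mem_sup_left (mem_zpowers _)))))
        (zpowers_le.2 (πb ▸ Fus.mem_img_of_mem (mem_sup_left (mem_sup_right (mem_zpowers _))))))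
        (zpowers_le.2 (Fus.mem_img_of_mem (mem_sup_right (mem_zpowers _)))))
    obtain ⟨u, hu, e⟩ := (sec.mul.mono lK).mem_img.1 (this (mem_top (π w)))
    rw [← mul_inv_cancel_left u w]
    exact mul_mem (mem_sup_left hu) (mem_sup_right ((eqv (lK hu) hw).1 e))
  · rw [e11, pow_succ, z2, one_mul]; exact inv_eq_of_mul_eq_one_left ((pow_two _).symm.trans z2)
  · rw [← mul_assoc, ← mul_inv_rev, ← eqv (mul_mem ha hb) (conj_mem_of_norm hs.2 ha), ← fn_cA hs.2 ha, ← act _ _ ha,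
      sec.mul ha hb, πa, πb, e1]

end CF.Rt.BC
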