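import Cfsg.Agent.RI.BC6

/-! Bicyclic `2`-groups with an essential subgroup have cyclic derived subgroup. -/

set_option autoImplicit false
set_option linter.unusedSectionVars false

namespace CF.Rt.BC

open Subgroup CF.BG CF.BG2 CF.Pgp Cfsg
open CF.Fus (Sat Mor Iso fn cA img Gen stab OpIn pre fn_cA fn_mem mulOn_fn stab_maps mem_stab_of_maps fn_mul PIso)
open scoped commutatorElement CF.Fus

universe v

variable {G : Type v} [Group G] [Finite G] {A B C D E H K L M N P Q R S W X : Subgroup G}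
  {a b c e g h k m s t u w x y z : G} {F : FusionSystem S} {f : G → G}

theorem cm_iff (hu : u ∈ 𝐍 K) : u⁻¹ * (g * u * g⁻¹) ∈ K ↔ ⁅g, u⁆ ∈ K := by
  rw [mem_norm.1 hu, commutatorElement_def]
  exact iff_of_eq (congrArg (· ∈ K) (by group))

theorem norm_of_maps (h : ∀ u ∈ H, g * u * g⁻¹ ∈ H) : g ∈ 𝐍 H := Fus.mem_normalizer_of_le (S := ⊤) le_top h

theorem norm_of_gen (e1 : A ⊔ zpowers e = E) (h1 : g ∈ 𝐍 A) (h2 : g * e * g⁻¹ ∈ E) : g ∈ 𝐍 E :=
  norm_of_maps (show E ≤ E.comap (MulAut.conj g).toMonoidHom from e1.ge.trans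
    (sup_le (fun _ hu => e1.le (mem_sup_left (conj_mem_of_norm h1 hu))) (zpowers_le.2 h2)))

theorem exists_inv (k : PiGrp {2} H) (h : H ≠ ⊥) : ∃ j ∈ H, j ^ 2 = 1 ∧ j ≠ 1 :=
  let ⟨_, hX⟩ := k.exists_elem_one h
  let ⟨j, h1, h2, _⟩ := hX.exists_gen
  ⟨j, hX.le h2, hX.ab.pow j h2, h1⟩

theorem lg_sup_Phi (k : PiGrp {2} E) (h1 : 𝚽 E ≤ D) (h2 : D ≤ E) (hg : g ∈ E) :
    ℓ (D ⊔ zpowers g : Subgroup G) ≤ ℓ D + 1 :=
  lg_sup_zpowers_le (norm_of_Phi_le k h1 h2 hg) (h1 (k.pow_mem_Phi hg))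

theorem center_stab (α : MulAut E) : α ∈ stab E (𝐙 E) :=
  (Fus.mem_stab_iff_img Fus.CS_le).2 (((Fus.piso_fn α).img_CS le_rfl).trans (by rw [Fus.img_fn]))

theorem conj_eq_comm (g u : G) : g * u * g⁻¹ = ⁅g, u⁆ * u := by rw [commutatorElement_def]; group

namespace Str

theorem ha (h : Str S E s a b c z) : a ∈ E := h.gen.le (mem_sup_left (mem_sup_left (mem_zpowers a)))
theorem hb (h : Str S E s a b c z) : b ∈ E := h.gen.le (mem_sup_left (mem_sup_right (mem_zpowers b)))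
theorem hc (h : Str S E s a b c z) : c ∈ E := h.gen.le (mem_sup_right (mem_zpowers c))
theorem hz (h : Str S E s a b c z) : z ∈ E := h.qa ▸ pow_mem h.ha 2

theorem le (h : Str S E s a b c z) (h1 : a ∈ K) (h2 : b ∈ K) (h3 : c ∈ K) : E ≤ K :=
  h.gen.ge.trans (sup_le (sup_le (zpowers_le.2 h1) (zpowers_le.2 h2)) (zpowers_le.2 h3))

theorem cent (h : Str S E s a b c z) (h1 : Commute a u) (h2 : Commute b u) (h3 : Commute c u) : u ∈ 𝐂 E :=
  le_cent1_iff.1 (h.le (mem_cent1.2 h1) (mem_cent1.2 h2) (mem_cent1.2 h3))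

theorem cc (h : Str S E s a b c z) : c ∈ 𝐂 E := h.cent h.ca.symm h.cb.symm (.refl c)

theorem zc (h : Str S E s a b c z) : z ∈ 𝐂 E :=
  h.cent (h.qa ▸ (Commute.refl a).pow_right 2) (h.qb ▸ (Commute.refl b).pow_right 2) (h.qa ▸ h.ca.pow_right 2)

theorem der (h : Str S E s a b c z) : ⁅E, E⁆ ≤ zpowers z := by
  have n : E ≤ 𝐍 (zpowers z) := norm_of_cent' (zpowers_le.2 h.zc)
  have t : ∀ g ∈ E, ⁅g, a⁆ ∈ zpowers z → ⁅g, b⁆ ∈ zpowers z → ∀ u ∈ E, ⁅g, u⁆ ∈ zpowers z := fun g hg h1 h2 u hu =>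
    (h.le (K := cm1 g (zpowers z)) ⟨n h.ha, h1⟩ ⟨n h.hb, h2⟩ ⟨n h.hc, by
      rw [commutatorElement_eq_one_iff_mul_comm.2 (mem_cent.1 h.cc g hg)]; exact one_mem _⟩ hu).2
  have i : ∀ g u : G, ⁅g, u⁆ ∈ zpowers z → ⁅u, g⁆ ∈ zpowers z := fun g u h => commutatorElement_inv g u ▸ inv_mem h
  have z1 : ⁅a, b⁆ ∈ zpowers z := h.ab ▸ mem_zpowers z
  exact commutator_le.2 fun g hg => t g hg (i _ _ (t a h.ha (by simp) z1 g hg))
    (i _ _ (t b h.hb (i _ _ z1) (by simp) g hg))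

end Str

theorem NB.lg_inf (h : NB S x y) (l : E ≤ M3 S x y) : ℓ E ≤ ℓ (E ⊓ 𝚽 S : Subgroup G) + 1 := by
  have := Pgp.logn_sup_add (p := 2) (H := E) (K := 𝚽 S) (.inl ((l.trans h.M3_le).trans (Phi_normal S).norm))
  have := logn_card_le (p := 2) (sup_le l (NB.Phi_le_M3 (S := S)))
  have := h.lg_M3
  omega

theorem NB.ess_str (h : NB S x y) (hF : Sat F 2) (hE : F.IsEssential 2 E) (nm : ¬ Meta E) :
    E ≤ M3 S x y ∧ ∃ s a b c z, Str S E s a b c z := by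
  have lt := hF.ess_lt hE
  have k := h.k.le lt.le
  have l := (h.cases lt).resolve_left nm
  have m : Meta (E ⊓ 𝚽 S) := h.meta_Phi.mono inf_le_right
  have l1 := h.lg_inf l
  have l2 := ess_rank hF hE nm inf_le_left (le_inf (Phi_le E) (h.k.Phi_mono lt.le)) m l1
  have l3 := meta_lg (k.le inf_le_left) m
  have l4 := k.Phi_mono (inf_le_left (b := 𝚽 S))
  have l5 := logn_card_le (p := 2) l4
  have l6 := (k.le (Phi_le E)).eq_of_logn_le l4 (by omega)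
  have kN : PiGrp {2} (NS S E) := h.k.le Fus.NS_le
  have := kN.logn_lt (hF.ess_NS hE)
  obtain ⟨L, L1, L2, L3⟩ := kN.exists_logn_between (hF.ess_NS hE).le (n := ℓ E + 1) (by omega) (by omega)
  obtain ⟨s, hs, ns, ms⟩ : ∃ s ∈ L, s ∉ E ∧ (s ∉ M3 S x y ∨ s ∈ 𝚽 S) := by
    obtain ⟨s, hs, ns⟩ := exists_not_mem (p := 2) (H := E) (K := L) (by omega)
    by_cases c : s ∉ M3 S x y ∨ s ∈ 𝚽 S
    · exact ⟨s, hs, ns, c⟩
    obtain ⟨e, he, ne⟩ := SetLike.not_le_iff_exists.1 fun d : E ≤ 𝚽 S => nm (h.meta_Phi.mono d)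
    push Not at c
    exact ⟨s * e, mul_mem hs (L1 he), by rwa [mul_mem_cancel_right he], .inr (h.mul_mem_Phi c.1 (l he) c.2 ne)⟩
  have s1 := L2 hs
  have s2 := sq_mem_of_lg (kN.le L2) L1 L3.le hs
  have := meta_comm_Phi (X := E ⊓ 𝚽 S ⊔ zpowers s) (h.k.le (sup_le (inf_le_left.trans lt.le) (zpowers_le.2 s1.1)))
    ((h.meta_sup s1.1 ms).mono (sup_le_sup_right inf_le_right _)) le_sup_left (lg_sup_zpowers_le
      (norm_inf (zpowers_le.2 s1.2) (zpowers_le.2 ((Phi_normal S).norm s1.1)) (mem_zpowers s))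
      ⟨s2, h.k.pow_mem_Phi s1.1⟩)
  rw [l6] at this
  refine ⟨l, s, exists_str hF hE (by omega) s1 ns s2 fun u hu => ?_⟩
  simpa [commutatorElement_def, mul_assoc] using
    this (commutator_mem_commutator (inv_mem hu) (mem_sup_right (mem_zpowers s)))

theorem NB.norm_of_conj (h : NB S x y) (hW : WD S W) (l : E ≤ M3 S x y) (he : e ∈ E) (ne : e ∉ 𝚽 S) (hz : z ∈ 𝐂 S)
    (zE : z ∈ E) (d : ⁅E, E⁆ ≤ zpowers z) (wE : W ≤ E)
    (K : ∀ n ∈ NS S E, n ∈ 𝚽 S → ⁅e, n⁆ ∈ zpowers z → n ∈ E) (hg : g ∈ S) (hw : w ∈ W)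
    (e1 : g * e * g⁻¹ = w * e) : g ∈ NS S E := by
  have lS := l.trans h.M3_le
  have gen := sup_zpowers_eq (p := 2) (h.k.le lS) inf_le_left (h.lg_inf l) he fun c => ne c.2
  have nz : S ≤ 𝐍 (zpowers z) := norm_of_cent' (zpowers_le.2 hz)
  have e2 : E ⊓ 𝚽 S = 𝚽 S ⊓ cm1 e (zpowers z) := (h.k.le (inf_le_left.trans (Phi_le S))).nil.eq_of_inf_norm_le
    (fun u hu => ⟨hu.2, nz (lS hu.1), d (commutator_mem_commutator he hu.1)⟩) fun n hn =>
      ⟨K n ⟨Phi_le S hn.1.1, norm_of_gen gen hn.2 (by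
        rw [conj_eq_comm, ← commutatorElement_inv]
        exact mul_mem (inv_mem (zpowers_le.2 zE hn.1.2.2)) he)⟩ hn.1.1 hn.1.2.2, hn.1.1⟩
  refine ⟨hg, norm_of_gen gen (e2 ▸ norm_of_maps fun u hu => ?_) (e1 ▸ mul_mem (wE hw) he)⟩
  have u1 := (Phi_normal S).conj_mem hg hu.1
  refine ⟨u1, nz (Phi_le S u1), ?_⟩
  have := conj_mem_of_norm' (nz (hW.n.le hw)) (conj_mem_of_norm (nz hg) hu.2.2)
  rw [show g * ⁅e, u⁆ * g⁻¹ = ⁅g * e * g⁻¹, g * u * g⁻¹⁆ by simp only [commutatorElement_def]; group, e1] at this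
  have c : Commute w (g * u * g⁻¹) := mem_cent.1 (hW.cent u1) w hw
  generalize g * u * g⁻¹ = u' at *
  convert this using 1
  simp only [commutatorElement_def, mul_inv_rev, mul_assoc, inv_mul_cancel_left, c.inv_right.symm.eq]

theorem NB.cent_W (h : NB S x y) (hW : WD S W) (he : e ∈ M3 S x y) (ne : e ∉ 𝚽 S) (hc : e ^ 2 ∈ 𝐂 S) :
    M3 S x y ≤ 𝐂 W := (h.sup_eq_M3 he ne).ge.trans (sup_le hW.cent (zpowers_le.2 (mem_cent.2 fun w hw => by
  have := h.invert he ne hc (hW.le hw)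
  rw [inv_eq_of_mul_eq_one_left ((pow_two w).symm.trans (hW.sq w hw)), mul_inv_eq_iff_eq_mul] at this
  exact this.symm)))

theorem Str.b_mem (t : Str S E s a b c z) (k : PiGrp {2} S) (l : E ≤ S) : b ∈ 𝚽 S := by
  have := mul_mem (k.der_le_Phi (Transfer.inv_mul_conj_mem_commutator (l t.ha) t.hs.1))
    (inv_mem (k.Phi_mono l t.act))
  rwa [mul_inv_rev, mul_inv_cancel_left, inv_inv] at this

theorem NB.str_one (h : NB S x y) (nc : ¬ Cyc ⁅S, S⁆) (hF : Sat F 2) (hE : F.IsEssential 2 E) (l : E ≤ M3 S x y)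
    (nP : ¬ E ≤ 𝚽 S) (t : Str S E s a b c 1) : False := by
  obtain ⟨W, hW⟩ := h.exists_W nc
  have lt := hF.ess_lt hE
  have k := h.k.le lt.le
  have kW := h.k.le hW.n.le
  have ab : Abel E := der_eq_bot.1 (le_bot_iff.1 (t.der.trans (by simp)))
  have pP := h.k.Phi_mono lt.le
  have lg := t.lg
  have lW := hW.lg
  have nE := (Phi_normal E).norm
  have J : ∀ j ∈ 𝚽 E, j ^ 2 = 1 → j ≠ 1 → 1 ≤ ℓ (W ⊓ 𝚽 E : Subgroup G) := fun j h1 h2 h3 =>
    (lg_zpowers h2 h3).ge.trans (logn_card_le (zpowers_le.2 ⟨hW.all j (pP h1) h2, h1⟩))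
  obtain ⟨e, he, ne, e2⟩ : ∃ e ∈ E, e ∉ 𝚽 S ∧ e ^ 2 = 1 := by
    by_contra! d
    have aW := hW.all a (by_contra fun c => d a t.ha c t.qa) t.qa
    have bW := hW.all b (by_contra fun c => d b t.hb c t.qb) t.qb
    obtain ⟨j, j1, j2, j3⟩ := exists_inv (k.le (Phi_le E)) fun f => d c t.hc
      (fun c => nP (t.le (h.k.der_le_Phi (hW.le aW)) (h.k.der_le_Phi (hW.le bW)) c)) (f.le (k.pow_mem_Phi t.hc))
    have := J j j1 j2 j3
    have := Pgp.logn_sup_add (p := 2) (H := W) (K := 𝚽 E) (.inr (((Phi_le E).trans lt.le).trans hW.n.norm))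
    have := lg_sup_zpowers_le (H := W ⊔ 𝚽 E) (norm_sup (lt.le.trans hW.n.norm) nE t.hc)
      (mem_sup_right (k.pow_mem_Phi t.hc))
    have := logn_card_le (p := 2) (t.le (K := W ⊔ 𝚽 E ⊔ zpowers c) (mem_sup_left (mem_sup_left aW))
      (mem_sup_left (mem_sup_left bW)) (mem_sup_right (mem_zpowers c)))
    omega
  have cW := h.cent_W hW (l he) ne (e2 ▸ one_mem _)
  have wE : W ≤ E := fun w hw => hF.ess_centric hE ⟨hW.n.le hw, cent_symm (l.trans cW) hw⟩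
  have K : ∀ e ∈ E, e ∉ 𝚽 S → e ^ 2 = 1 → ∀ n ∈ NS S E, (∀ w ∈ W, ⁅n, w⁆ ∈ 𝚽 E) → ⁅n, e⁆ ∈ 𝚽 E → n ∈ E :=
    fun e he ne e2 n hn h1 h2 => by
      have l1 : tor E ab 2 ⊔ 𝚽 E ≤ E := sup_le (tor_le ab 2) (Phi_le E)
      have l2 : tor E ab 2 ⊔ 𝚽 E ≤ cm1 n (𝚽 E) := sup_le (fun u hu => by
        by_cases c : u ∈ 𝚽 S
        · exact ⟨nE hu.1, h1 u (hW.all u c hu.2)⟩
        · have := mul_mem hu (show e ∈ tor E ab 2 from ⟨he, e2⟩)
          exact (mul_mem_cancel_right (show e ∈ cm1 n (𝚽 E) from ⟨nE he, h2⟩)).1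
            ⟨nE this.1, h1 _ (hW.all _ (h.mul_mem_Phi (l hu.1) (l he) c ne) this.2)⟩)
        fun u hu => ⟨nE (Phi_le E hu), mul_mem (conj_mem_of_norm (norm_Phi E hn.2) hu) (inv_mem hu)⟩
      refine ess_frat_top hF hE l1 (fun β _ => sup_stab (tor_le ab 2) (Phi_le E) (tor_stab ab 2 β)
        (Phi_stab k le_rfl (stab_top β))) ((logn_card_le ?_).trans (lg_sup_Phi k le_sup_right l1 t.hc)) hn
        fun u hu => (cm_iff (l2 hu).1).2 (l2 hu).2
      exact t.le (mem_sup_left (mem_sup_left ⟨t.ha, t.qa⟩)) (mem_sup_left (mem_sup_left ⟨t.hb, t.qb⟩))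
        (mem_sup_right (mem_zpowers c))
  have N : ∀ e ∈ E, e ∉ 𝚽 S → e ^ 2 = 1 → ∀ w ∈ W, w ≠ 1 → ∃ g ∈ NS S E, g ∉ E ∧ g * e * g⁻¹ = w * e :=
    fun e he ne e2 w hw w1 => by
      obtain ⟨g, hg, e1⟩ := h.trans nc (l he) ne (e2 ▸ one_mem _) (hW.le hw)
      refine ⟨g, h.norm_of_conj hW l he ne (one_mem _) (one_mem _) t.der wE (fun n hn n1 n2 => K e he ne e2 n hn
        (fun w hw => ?_) ?_) hg hw e1, fun c => w1 ?_, e1⟩
      · rw [commutatorElement_eq_one_iff_mul_comm.2 (mem_cent.1 (hW.cent n1) w hw).symm]; exact one_mem _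
      · rw [← commutatorElement_inv, show ⁅e, n⁆ = 1 by simpa using n2]; simp
      · rw [ab.mul_comm c he, mul_inv_cancel_right, right_eq_mul] at e1; exact e1
  by_cases P0 : 𝚽 E = ⊥
  swap
  · obtain ⟨j, j1, j2, j3⟩ := exists_inv (k.le (Phi_le E)) P0
    have := J j j1 j2 j3
    obtain ⟨g, hg, ng, e1⟩ := N e he ne e2 j (hW.all j (pP j1) j2) j3
    refine ng (K e he ne e2 g hg (fun w hw => (cm_iff (nE (wE hw))).1 (conj_triv_of_lg kW inf_le_left (by omega)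
      (norm_inf (zpowers_le.2 (hW.n.norm hg.1)) (zpowers_le.2 (norm_Phi E hg.2)) (mem_zpowers g))
      (hW.n.norm hg.1) hw).2) ?_)
    rwa [commutatorElement_def, e1, mul_inv_cancel_right]
  rw [P0, lg_bot] at lg
  have sq : ∀ u ∈ E, u ^ 2 = 1 := fun u hu => P0.le (k.pow_mem_Phi hu)
  obtain ⟨r, hr, nr⟩ := SetLike.exists_of_lt ((h.k.le h.M3_le).nil.lt_inf_norm (lt_of_le_of_ne l fun d => h.nm
    (meta_of_lg_der h.k (by
      have := logn_card_le (p := 2) hW.le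
      have := h.lg_S
      have := h.lg_M3
      rw [← d] at this; omega))))
  have rN : r ∈ NS S E := ⟨h.M3_le hr.1, hr.2⟩
  have a1 : ∀ u ∈ E, u⁻¹ * (r * u * r⁻¹) ∈ W := fun u hu =>
    conj_triv_of_lg k wE (by omega) (hW.n.norm rN.1) hr.2 hu
  have pW := (cm_iff (hW.n.norm (lt.le he))).1 (a1 e he)
  have rc : ∀ w ∈ W, ⁅r, w⁆ = 1 := fun w hw =>
    commutatorElement_eq_one_iff_mul_comm.2 (mem_cent.1 (cW hr.1) w hw).symm
  have a2 : E ≤ cm1 r (zpowers ⁅r, e⁆) := by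
    have n : E ≤ 𝐍 (zpowers ⁅r, e⁆) := norm_of_cent (ab.cent le_rfl (zpowers_le.2 (wE pW)))
    exact (sup_zpowers_eq (p := 2) k wE (by omega) he fun c => ne (h.k.der_le_Phi (hW.le c))).ge.trans
      (sup_le (fun w hw => ⟨n (wE hw), rc w hw ▸ one_mem _⟩) (zpowers_le.2 ⟨n he, mem_zpowers _⟩))
  generalize ⁅r, e⁆ = p at pW a2
  have star : ∀ β, Gen F E β → fn β p ∉ W := fun β hβ c => by
    refine nr (gen_frat hβ hF hE rN wE (hW.n.norm rN.1) (fun d hd => ?_) a1 fun u hu => ?_)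
    · have u1 := fn_mem β⁻¹ (wE hd)
      obtain ⟨i, hi⟩ := (a2 u1).2
      rw [fn_mul, fn_mul, fn_cA hr.2 u1, conj_eq_comm, ← hi, mulOn_fn β (zpow_mem (wE pW) i) u1,
        (mulOn_fn β).map_zpow (wE pW), ← fn_mul, mul_inv_cancel, Fus.fn_one]
      exact mul_mem (zpow_mem c i) hd
    · rw [cm_iff (nE (wE hu)), rc u hu]; exact one_mem _
  obtain ⟨α, hα⟩ := hF.exists_gen hE
  have p1 := fn_mem α (wE pW)
  have iE := (Fus.piso_fn α).img_le wE
  have := Pgp.logn_sup_add (p := 2) (H := W) (K := img (fn α) W) (.inl (norm_of_cent (ab.cent wE iE)))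
  have := logn_card_le (p := 2) (sup_le wE iE)
  have := lg_img (α := α) wE
  obtain ⟨q, hq, q1⟩ := exists_not_mem (p := 2) (H := ⊥) (K := W ⊓ img (fn α) W) (by rw [lg_bot]; omega)
  obtain ⟨u, hu, rfl⟩ := ((mulOn_fn α).mono wE).mem_img.1 hq.2
  obtain ⟨f, hf, nf, e1⟩ := N _ p1 (fun c => star α hα (hW.all _ c (sq _ p1))) (sq _ p1) _ hq.1 q1
  refine star _ (gen_conj hα.inv hF hE hf nf) ?_
  rw [inv_inv, fn_mul, fn_mul, fn_cA hf.2 p1, e1, ← mulOn_fn α (wE hu) (wE pW), ← fn_mul, inv_mul_cancel, Fus.fn_one]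
  exact mul_mem hu pW

theorem NB.str_ne (h : NB S x y) (nc : ¬ Cyc ⁅S, S⁆) (hF : Sat F 2) (hE : F.IsEssential 2 E) (l : E ≤ M3 S x y)
    (t : Str S E s a b c z) (z1 : z ≠ 1) : False := by
  obtain ⟨W, hW⟩ := h.exists_W nc
  have lt := hF.ess_lt hE
  have k := h.k.le lt.le
  have pP := h.k.Phi_mono lt.le
  have aS := lt.le t.ha
  have lg := t.lg
  have lW := hW.lg
  have A := h.bic.abel_der
  have r := meta_sr2 (h.k.le (Phi_le S)) h.meta_Phi
  have zP : z ∈ 𝚽 E := t.qa ▸ k.pow_mem_Phi t.ha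
  have zW := hW.all z (pP zP) t.z2
  have nab : ¬ Commute a b := fun c => z1 (t.ab.symm.trans (commutatorElement_eq_one_iff_commute.2 c))
  have zz : zpowers z ≤ 𝐂 E := zpowers_le.2 t.zc
  have sq2 : ∀ w ∈ zpowers z, w ^ 2 = 1 := (abelem_zpowers Nat.prime_two t.z2).pow
  have PZ : 𝚽 E ≤ 𝐙 E := le_inf (Phi_le E) (comm_eq_bot.1 (le_bot_iff.1 (comm_Phi_le k (by simp)
    fun w hw m hm => comm_sq_mem (commutatorElement_eq_one_iff_mul_comm.2
      (mem_cent.1 (zz (t.der (commutator_mem_commutator hw hm))) w hw))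
      (sq2 _ (t.der (commutator_mem_commutator hw hm))))))
  have nZ := (center_normal E).norm
  have ne : a ∉ 𝚽 S := fun c => by
    have bP := t.b_mem h.k lt.le
    have wP : W ≤ 𝚽 S := hW.le.trans h.k.der_le_Phi
    have l1 : W ⊔ zpowers a ≤ 𝚽 S := sup_le wP (zpowers_le.2 c)
    have l2 : W ⊔ zpowers a ⊔ zpowers b ≤ 𝚽 S := sup_le l1 (zpowers_le.2 bP)
    have kP := h.k.le (Phi_le S)
    have i1 := (kP.le l1).logn_lt (lt_sup_zpowers fun d => z1 (t.qa.symm.trans (hW.sq a d)))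
    have i2 := (kP.le l2).logn_lt (lt_sup_zpowers fun d => nab (mem_cent1.1 ((sup_le
      (cent_symm hW.cent |>.trans (cent_le_cent1 c)) (zpowers_le.2 (self_mem_cent1 a))) d)).symm)
    have i3 := lg_zpowers t.z2 z1
    have n : W ⊔ zpowers a ⊔ zpowers b ≤ 𝐍 (zpowers z) := l2.trans (norm_of_cent
      (hW.cent.trans (cent_anti (zpowers_le.2 zW))))
    have ab : Abelem 2 (qt (zpowers z) (W ⊔ zpowers a ⊔ zpowers b)) := by
      have na := n (mem_sup_left (mem_sup_right (mem_zpowers a)))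
      have nb := n (mem_sup_right (mem_zpowers b))
      have q : ∀ u ∈ 𝐍 (zpowers z), u ^ 2 = z → Abelem 2 (qt (zpowers z) (zpowers u)) := fun u hu e => by
        rw [qt_zpowers hu]
        exact abelem_zpowers Nat.prime_two (by rw [← qe_pow hu, e, qe_of_mem (mem_zpowers z)])
      have cW := cent_symm hW.cent
      rw [qt_sup (le_sup_left.trans n) (le_sup_right.trans n), qt_sup ((le_sup_left.trans le_sup_left).trans n)
        (zpowers_le.2 na)]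
      exact (((Abelem.mk' Nat.prime_two (A.mono hW.le) hW.sq).qt _).sup (q a na t.qa) (qt_cent _
        (cW.trans (cent_anti (zpowers_le.2 c))))).sup (q b nb t.qb) (sup_le (qt_cent _ (cW.trans
          (cent_anti (zpowers_le.2 bP)))) ((qt_cent_iff (zpowers_le.2 na) (zpowers_le.2 nb)).2
            ((commutator_mono (zpowers_le.2 t.ha) (zpowers_le.2 t.hb)).trans t.der)))
    have := logn_card_le (p := 2) (((kP.le l2).abelem_qt_iff n).1 ab)
    have := r.Phi kP l2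
    omega
  obtain ⟨v, vS, u, uP, ev⟩ : ∃ v ∈ ⁅S, S⁆, ∃ u ∈ 𝚽 E, v = b * u ∧ s * a * s⁻¹ = a * v :=
    ⟨_, Transfer.inv_mul_conj_mem_commutator aS t.hs.1, _, t.act, by group, by group⟩
  obtain ⟨ev, sa⟩ := ev
  have uE := Phi_le E uP
  have cu : ∀ w ∈ E, Commute w u := fun w hw => mem_cent.1 (PZ uP).2 w hw
  have cz : ∀ w ∈ E, Commute w z := fun w hw => mem_cent.1 t.zc w hw
  have vE : v ∈ E := ev ▸ mul_mem t.hb uE
  have av : a * v * a⁻¹ = z * v := by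
    rw [ev, ← mul_assoc, mul_assoc _ u, ← (cu _ (inv_mem t.ha)).eq, ← mul_assoc, conj_eq_comm, t.ab, mul_assoc]
  have zi : z⁻¹ = z := inv_eq_of_mul_eq_one_left ((pow_two z).symm.trans t.z2)
  have v2 : v ^ 2 = z := by
    have s1 : s * z * s⁻¹ = z := by
      have := t.der (commutator_mem_commutator (conj_mem_of_norm t.hs.2 t.ha) (conj_mem_of_norm t.hs.2 t.hb))
      rw [show ⁅s * a * s⁻¹, s * b * s⁻¹⁆ = s * ⁅a, b⁆ * s⁻¹ by simp only [commutatorElement_def]; group, t.ab] at this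
      exact (eq_of_mem_zpowers_two t.z2 this).resolve_left fun d => z1 (by simpa using d)
    rw [← t.qa, ← conj_pow, sa] at s1
    have : (a * v) ^ 2 = a * v * a⁻¹ * a ^ 2 * v := by simp only [pow_two]; group
    rw [this, av, t.qa, mul_assoc z, (cz v vE).eq, ← mul_assoc, ← pow_two, t.z2, one_mul] at s1
    exact (pow_two v).trans s1
  have iv : a * v * a⁻¹ = v⁻¹ := by
    rw [av, ← zi, ← v2, pow_two]; group
  have K : ∀ n ∈ NS S E, ⁅n, a⁆ ∈ 𝐙 E → n ∈ E := fun n hn h1 => by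
    have n1 : n ∈ 𝐍 (𝐙 E) := norm_inf_cent (zpowers_le.2 hn.2) (zpowers_le.2 hn.2) (mem_zpowers n)
    have nav : a ∉ E ⊓ 𝐂₁ v := fun d => z1 (by
      rw [mem_cent1.1 d.2, mul_inv_cancel_right, right_eq_mul] at av; exact av)
    have l1 : 𝐙 E ≤ E ⊓ 𝐂₁ v := inf_le_inf_left E (cent_le_cent1 vE)
    have nv : v ∉ 𝐙 E := fun d => nav ⟨t.ha, mem_cent1.2 (mem_cent.1 d.2 a t.ha)⟩
    have i1 := k.logn_lt (lt_of_le_of_ne inf_le_left fun d : E ⊓ 𝐂₁ v = E => nav (d.ge t.ha))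
    have i2 := (k.le inf_le_left).logn_lt (lt_of_le_of_ne l1 fun d => nv (d.ge ⟨vE, self_mem_cent1 v⟩))
    have i3 : ℓ (𝚽 E) < ℓ (𝐙 E) := (k.le inf_le_left).logn_lt (lt_of_le_of_ne PZ fun d => by
      have l2 : 𝚽 E ⊔ zpowers a ≤ E := sup_le (Phi_le E) (zpowers_le.2 t.ha)
      have := lg_sup_Phi k le_rfl (Phi_le E) t.ha
      have := lg_sup_Phi k le_sup_left l2 t.hb
      have := logn_card_le (p := 2) (t.le (K := 𝚽 E ⊔ zpowers a ⊔ zpowers b) (mem_sup_left (mem_sup_right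
        (mem_zpowers a))) (mem_sup_right (mem_zpowers b)) (mem_sup_left (mem_sup_left (d.ge ⟨t.hc, t.cc⟩))))
      omega)
    have Zc : 𝐙 E ≤ cm1 n (𝐙 E) := fun w hw => ⟨nZ hw.1, mul_mem (conj_mem_of_norm n1 hw) (inv_mem hw)⟩
    have vc : v ∈ cm1 n (𝐙 E) := ⟨nZ vE, (cm_iff (nZ vE)).1 (triv_of_lg (k.le inf_le_left) l1 (by omega)
      ⟨vE, self_mem_cent1 v⟩ ⟨conj_mem_of_norm hn.2 vE, mem_cent1.2 (A.mul_comm ((der_normal S).conj_mem hn.1 vS) vS)⟩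
      (mem_norm.1 n1 v).symm)⟩
    have l3 := t.le (K := cm1 n (𝐙 E)) ⟨nZ t.ha, h1⟩ ((mul_mem_cancel_right (Zc (PZ uP))).1 (ev ▸ vc))
      (Zc ⟨t.hc, t.cc⟩)
    exact ess_frat_bot hF hE inf_le_left PZ (fun β _ => center_stab β) (by omega) hn
      fun w hw => (cm_iff (nZ hw)).2 (l3 hw).2
  have gen := sup_zpowers_eq (p := 2) k inf_le_left (h.lg_inf l) t.ha fun c => ne c.2
  have wZ : (∀ w ∈ W, Commute a w) → W ≤ 𝐙 E := fun c w hw => by
    have : w ∈ 𝐂 E := cent_symm (gen.ge.trans (sup_le (inf_le_right.trans hW.cent) (zpowers_le.2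
      (mem_cent.2 fun w hw => (c w hw).symm)))) hw
    exact ⟨hF.ess_centric hE ⟨hW.n.le hw, this⟩, this⟩
  have zS : z ∈ 𝐂 S := by
    refine le_cent1_iff.1 ((h.gen (l t.ha) ne).ge.trans (sup_le (zpowers_le.2 (by_contra fun c => ?_))
      (zpowers_le.2 (mem_cent1.2 (cz a t.ha)))))
    have hx := h.bic.hx
    have gS := (der_normal S).conj_mem hx vS
    have ag : a * (x * v * x⁻¹) * a⁻¹ = (x * v * x⁻¹)⁻¹ := by rw [conj_conj A aS hx vS, iv]; group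
    have g2 : (x * v * x⁻¹) ^ 2 = x * z * x⁻¹ := by rw [conj_pow, v2]
    have z'W := hW.n.conj_mem hx zW
    have n1 : x * z * x⁻¹ ∉ zpowers z := fun d => (eq_of_mem_zpowers_two t.z2 d).elim (fun d => z1 (by simpa using d))
      fun d => c (mem_cent1.2 (mul_inv_eq_iff_eq_mul.1 d))
    generalize x * v * x⁻¹ = g at *
    generalize x * z * x⁻¹ = z' at *
    have ga : ⁅g, a⁆ = z' := by
      rw [← g2, commutatorElement_def, mul_assoc, mul_assoc, ← mul_assoc a, show a * g⁻¹ * a⁻¹ = (a * g * a⁻¹)⁻¹ by group,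
        ag, inv_inv, pow_two]
    have lZ := wZ fun w hw => mem_cent1.1 (mem_cent1_comm.1 (((sup_zpowers_eq (p := 2) (h.k.le hW.n.le)
      (zpowers_le.2 zW) (by have := lg_zpowers t.z2 z1; omega) z'W n1).ge.trans (sup_le (zpowers_le.2
        (mem_cent1.2 (cz a t.ha).symm)) (zpowers_le.2 (mem_cent1.2 ?_)))) hw))
    swap
    · rw [← mul_inv_eq_iff_eq_mul.1 (show a * z' * a⁻¹ = z' by
        rw [← g2, ← conj_pow, ag, inv_pow, g2, inv_eq_of_mul_eq_one_left ((pow_two _).symm.trans (hW.sq _ z'W))])]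
    have tl := (tor_le A 4).trans h.k.der_le_Phi
    have tn : tor ⁅S, S⁆ A 4 ⊴ S := ⟨tl.trans (Phi_le S), le_norm_iff.2 fun n hn w hw =>
      ⟨(der_normal S).conj_mem hn hw.1, by rw [conj_pow, hw.2]; group⟩⟩
    have wt : W ≤ tor ⁅S, S⁆ A 4 := fun w hw => ⟨hW.le hw, by
      rw [show 4 = 2 * 2 from rfl, pow_mul, hW.sq w hw, one_pow]⟩
    have c1 := comm_Phi_le_of_lg h.k hW.n tn wt (r _ _ tl wt fun w hw =>
      hW.all _ (pow_mem (tl hw) 2) (by rw [← pow_mul]; exact hw.2))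
    have gt : g ∈ tor ⁅S, S⁆ A 4 := ⟨gS, by rw [show 4 = 2 * 2 from rfl, pow_mul, g2, hW.sq _ z'W]⟩
    have gN : g ∈ NS S E := ⟨der_le S gS, norm_of_gen gen (norm_of_maps fun w hw => ⟨by
      rw [conj_eq_comm, ← commutatorElement_inv]
      exact E.mul_mem (E.inv_mem (lZ (c1 (commutator_mem_commutator hw.2 gt))).1) hw.1,
      (Phi_normal S).conj_mem (der_le S gS) hw.2⟩) (by rw [conj_eq_comm, ga]; exact mul_mem (lZ z'W).1 t.ha)⟩
    exact n1 (ga ▸ t.der (commutator_mem_commutator (K g gN (ga ▸ lZ z'W)) t.ha))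
  have a2 : a ^ 2 ∈ 𝐂 S := t.qa ▸ zS
  have lZ := wZ fun w hw => (mem_cent.1 (h.cent_W hW (l t.ha) ne a2 (l t.ha)) w hw).symm
  obtain ⟨w, hw, nw⟩ := exists_not_mem (p := 2) (H := zpowers z) (K := W) (by have := lg_zpowers_le t.z2; omega)
  obtain ⟨g, hg, e1⟩ := h.trans nc (l t.ha) ne a2 (hW.le hw)
  have ga : ⁅g, a⁆ = w := by rw [commutatorElement_def, e1, mul_inv_cancel_right]
  have gN := h.norm_of_conj hW l t.ha ne zS t.hz t.der (lZ.trans inf_le_left) (fun n hn _ d => K n hn (by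
    rw [← commutatorElement_inv]; exact (𝐙 E).inv_mem (zpowers_le.2 (PZ zP) d))) hg hw e1
  exact nw (ga ▸ t.der (commutator_mem_commutator (K g gN (ga ▸ lZ hw)) t.ha))

theorem NB.cyc_of_ess (h : NB S x y) (hF : Sat F 2) (hE : F.IsEssential 2 E) : Cyc ⁅S, S⁆ := by
  by_contra nc
  have nm : ¬ Meta E := fun m => nc (ess_meta hF hE m h.nm).2
  obtain ⟨l, s, a, b, c, z, t⟩ := h.ess_str hF hE nm
  by_cases z1 : z = 1
  · exact h.str_one nc hF hE l (fun d => nm (h.meta_Phi.mono d)) (z1 ▸ t)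
  · exact h.str_ne nc hF hE l t z1

theorem NB.eq_inner (h : NB S x y) (hF : Sat F 2) (nc : ¬ Cyc ⁅S, S⁆) : F = innerFusionSystem S :=
  hF.eq_inner_of_pgroup fun _ hP => by
    rcases hP with rfl | hP
    exacts [h.aut_two _, (nc (h.cyc_of_ess hF hP)).elim]

end CF.Rt.BC
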