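import Cfsg.Agent.Fus.Master
import Cfsg.Agent.Fus.Ess

/-! A saturated fusion system generated by `S` and a group of automorphisms of one subgroup `E`. -/

set_option autoImplicit false

namespace CF.Rt.BC

open Cfsg Cfsg.FusionSystem Subgroup CF.Fus
open scoped commutatorElement CF.Fus

variable {Ω : Type*} [Group Ω] {S E D P Q : Subgroup Ω} {A : Subgroup (MulAut E)} {f g : Ω → Ω} {p : ℕ}

/-- an upper bound for the maps of the generated system -/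
structure UB (S E D : Subgroup Ω) (A : Subgroup (MulAut E)) (P : Subgroup Ω) (f : Ω → Ω) : Prop where
  le : P ≤ S
  maps : ∀ x ∈ P, f x ∈ S
  iso : PIso f P (img f P)
  c1 : (∃ s ∈ S, ∀ x ∈ P, f x = s * x * s⁻¹) ∨
    (∃ s ∈ S, ∀ x ∈ P, s * x * s⁻¹ ∈ E) ∧ ∃ t ∈ S, ∀ x ∈ P, t * f x * t⁻¹ ∈ E
  c2 : ∀ s ∈ S, (∀ e ∈ E, s * e * s⁻¹ ∈ P) → ∃ t ∈ S, ∃ α ∈ A, ∀ e ∈ E, f (s * e * s⁻¹) = t * fn α e * t⁻¹
  c3 : ∀ x ∈ P, x ∈ D ∨ f x ∈ D → f x = x

theorem eq_cj_of_card [Finite E] {s : Ω} (h : ∀ x ∈ P, s * x * s⁻¹ ∈ E) (c : Nat.card E ≤ Nat.card P) :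
    img (cj s) P = E := eq_of_le_of_card_ge (img_le_iff.2 h) (by rwa [card_img_cj])

theorem morData_UB [Finite S] (l : E ≤ S) (hA : autInducedBy S E ≤ A) (hD : D ≤ CS S S) : MorData S (UB S E D A) where
  le h := h.le
  maps h := h.maps
  mul h := h.iso.mul
  inj h := h.iso.inj
  congr := fun {P f g} h e => ⟨h.le, fun x hx => e x hx ▸ h.maps x hx, img_congr e ▸ h.iso.congr e,
    h.c1.imp (fun ⟨s, hs, c⟩ => ⟨s, hs, fun x hx => (e x hx).trans (c x hx)⟩)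
      fun ⟨c, t, ht, d⟩ => ⟨c, t, ht, fun x hx => e x hx ▸ d x hx⟩,
    fun s hs c => let ⟨t, ht, α, hα, d⟩ := h.c2 s hs c; ⟨t, ht, α, hα, fun x hx => (e _ (c x hx)).trans (d x hx)⟩,
    fun x hx => e x hx ▸ h.c3 x hx⟩
  cj := fun {P u} hP hu => ⟨hP, fun _ hx => mul_mem (mul_mem hu (hP hx)) (inv_mem hu), piso_cj u P,
    .inl ⟨u, hu, fun _ _ => rfl⟩, fun s hs _ => ⟨u * s, mul_mem hu hs, 1, one_mem _, fun e _ => by
      rw [cj_apply, fn_one]; group⟩, fun x _ c => by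
        rw [cj_apply] at c ⊢
        rcases c with c | c
        · rw [(hD c).2 u hu, mul_inv_cancel_right]
        · have := (hD c).2 u⁻¹ (inv_mem hu)
          calc u * x * u⁻¹ = u⁻¹ * (u * x * u⁻¹) * u := by rw [this]; group
            _ = x := by group⟩
  comp := fun {P Q f g} h k m => by
    refine ⟨h.le, fun x hx => k.maps _ (m x hx), ?_, ?_, fun s hs c => ?_, fun x hx c => ?_⟩
    · have := h.iso.trans (k.iso.restrict (img_le_iff.2 m))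
      rwa [h.iso.mul.img_img] at this
    · rcases h.c1 with ⟨s, hs, c⟩ | ⟨c, t, ht, d⟩ <;> rcases k.c1 with ⟨u, hu, c'⟩ | ⟨⟨u, hu, c'⟩, v, hv, d'⟩
      · exact .inl ⟨u * s, mul_mem hu hs, fun x hx => by
          rw [Function.comp_apply, c' _ (m x hx), c x hx]; group⟩
      · exact .inr ⟨⟨u * s, mul_mem hu hs, fun x hx => by
          have := c' _ (m x hx)
          rwa [c x hx, show u * (s * x * s⁻¹) * u⁻¹ = u * s * x * (u * s)⁻¹ by group] at this⟩,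
          v, hv, fun x hx => d' _ (m x hx)⟩
      · exact .inr ⟨c, t * u⁻¹, mul_mem ht (inv_mem hu), fun x hx => by
          rw [Function.comp_apply, c' _ (m x hx), show t * u⁻¹ * (u * f x * u⁻¹) * (t * u⁻¹)⁻¹ = t * f x * t⁻¹ by group]
          exact d x hx⟩
      · exact .inr ⟨c, v, hv, fun x hx => d' _ (m x hx)⟩
    · obtain ⟨t, ht, α, hα, d⟩ := h.c2 s hs c
      obtain ⟨u, hu, β, hβ, d'⟩ := k.c2 t ht fun e he => by
        have := m _ (c _ (fn_mem α⁻¹ he))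
        rwa [d _ (fn_mem α⁻¹ he), fn_fn_inv] at this
      exact ⟨u, hu, β * α, mul_mem hβ hα, fun e he => by rw [Function.comp_apply, d e he, d' _ (fn_mem α he), fn_mul]⟩
    · rcases c with c | c
      · have := h.c3 x hx (.inl c)
        rw [Function.comp_apply, k.c3 _ (m x hx) (.inl (this.symm ▸ c)), this]
      · have := k.c3 _ (m x hx) (.inr c)
        rw [Function.comp_apply, this, h.c3 x hx (.inr (this ▸ c))]
  symm := fun {P f} h => by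
    haveI := fin_of_le l
    haveI := fin_of_le h.le
    have i := h.iso
    refine ⟨pinv f P, ⟨img_le_iff.2 h.maps, fun _ hx => h.le (i.pinv_mem hx), i.symm.img_eq.symm ▸ i.symm, ?_,
      fun s hs c => ?_, fun y hy c => ?_⟩, fun _ => i.pinv_apply⟩
    · refine h.c1.imp (fun ⟨s, hs, c⟩ => ⟨s⁻¹, inv_mem hs, fun y hy => ?_⟩) fun ⟨⟨s, hs, c⟩, t, ht, d⟩ =>
        ⟨⟨t, ht, fun y hy => ?_⟩, s, hs, fun y hy => c _ (i.pinv_mem hy)⟩
      · obtain ⟨x, hx, rfl⟩ := i.surj hy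
        rw [i.pinv_apply hx, c x hx]; group
      · obtain ⟨x, hx, rfl⟩ := i.surj hy
        exact d x hx
    · rcases h.c1 with ⟨u, hu, c'⟩ | ⟨⟨r, hr, c'⟩, -⟩
      · refine ⟨u⁻¹ * s, mul_mem (inv_mem hu) hs, 1, one_mem _, fun e he => ?_⟩
        obtain ⟨x, hx, e1⟩ := i.surj (c e he)
        rw [← e1, i.pinv_apply hx, fn_one, show u⁻¹ * s * e * (u⁻¹ * s)⁻¹ = u⁻¹ * (s * e * s⁻¹) * u by group, ← e1,
          c' x hx]; group
      haveI := i.finite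
      have e1 := eq_cj_of_card c' (by
        rw [i.card_eq, ← card_img_cj s E]; exact card_le_of_le (img_le_iff.2 c))
      have m : ∀ e ∈ E, r⁻¹ * e * r⁻¹⁻¹ ∈ P := fun e he => by rw [inv_inv]; exact mem_img_cj.1 (e1.ge he)
      obtain ⟨t, ht, α, hα, d⟩ := h.c2 r⁻¹ (inv_mem hr) m
      have n : t⁻¹ * s ∈ normalizer (E : Set Ω) := mem_normalizer_of_le (S := E) le_rfl fun e he => by
        obtain ⟨x, hx, e2⟩ := i.surj (c e he)
        have := d _ (c' x hx)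
        rw [show r⁻¹ * (r * x * r⁻¹) * r⁻¹⁻¹ = x by group, e2] at this
        rw [show t⁻¹ * s * e * (t⁻¹ * s)⁻¹ = t⁻¹ * (s * e * s⁻¹) * t by group, this]
        simpa [mul_assoc] using fn_mem α (c' x hx)
      refine ⟨r⁻¹, inv_mem hr, α⁻¹ * cA E (t⁻¹ * s), mul_mem (inv_mem hα)
        (hA (cA_mem_autInducedBy (mul_mem (inv_mem ht) hs))), fun e he => ?_⟩
      have h1 := fn_mem (α⁻¹ * cA E (t⁻¹ * s)) he
      rw [← i.pinv_apply (m _ h1), d _ h1, fn_mul, fn_fn_inv, fn_cA n he]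
      congr 1; group
    · obtain ⟨x, hx, rfl⟩ := i.surj hy
      rw [i.pinv_apply hx] at c ⊢
      exact (h.c3 x hx c.symm).symm

theorem ub_fn [Finite S] (l : E ≤ S) (hA : autInducedBy S E ≤ A) (fx : ∀ α ∈ A, ∀ d ∈ D, fn α d = d)
    {α : MulAut E} (hα : α ∈ A) : UB S E D A E (fn α) :=
  ⟨l, fun _ hx => l (fn_mem α hx), (img_fn α).symm ▸ piso_fn α,
    .inr ⟨⟨1, one_mem _, by simp⟩, 1, one_mem _, fun x hx => by simpa using fn_mem α hx⟩,
    fun s hs c => ⟨1, one_mem _, α * cA E s, mul_mem hα (hA (cA_mem_autInducedBy hs)), fun e he => by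
      rw [fn_mul, fn_cA (mem_normalizer_of_le l c) he]; group⟩,
    fun x _ c => c.elim (fx α hα x) fun c => fn_inj α (fx α hα _ c)⟩

theorem exists_sat [Finite S] [Fact p.Prime] (hS : IsPGroup p S) (lt : E < S) (sy : SylIn p (autInducedBy S E) A)
    (ti : ∀ α ∈ A, ∀ g ∈ NS S E, g ∉ E → α * cA E g * α⁻¹ ∈ autInducedBy S E → α ∈ autInducedBy S E)
    (hD : D ≤ CS S S) (hd : ⁅E, E⁆ ≤ D) (fx : ∀ α ∈ A, ∀ d ∈ D, fn α d = d) :
    ∃ F : FusionSystem S, Sat F p ∧ F.autGroup E = A := by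
  have l := lt.le
  haveI := fin_of_le l
  have B : ∀ Q g, (Q = E ∧ ∃ α ∈ A, g = fn α) → Mor (ofMor (morData_UB l sy.le hD)) Q g := by
    rintro _ _ ⟨rfl, α, hα, rfl⟩
    exact (mor_ofMor _).2 (ub_fn l sy.le fx hα)
  obtain ⟨F, F1, F2⟩ := exists_gen _ B
  have U : ∀ {P f}, Mor F P f → UB S E D A P f := fun h => (mor_ofMor _).1 (h.sub (F2 _ le_rfl B))
  have mA : ∀ α ∈ A, Mor F E (fn α) := fun α hα => F1 _ _ ⟨rfl, α, hα, rfl⟩
  have eA : F.autGroup E = A := le_antisymm (fun β hβ => by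
    obtain ⟨t, ht, α, hα, d⟩ := (U (mor_fn l hβ)).c2 1 (one_mem _) (by simp)
    have : β * α⁻¹ ∈ autInducedBy S E := mem_autInducedBy'.2 ⟨t, ht, fun x hx => by
      have := d _ (fn_mem α⁻¹ hx)
      rwa [one_mul, inv_one, mul_one, fn_fn_inv, ← fn_mul] at this⟩
    exact (mul_mem_cancel_right (inv_mem hα)).1 (sy.le this)) fun α hα => (mA α hα).aut_mem
  have cjE : ∀ {P Q}, (∃ s ∈ S, img (cj s) E = P) → F.IsConj P Q → ∃ s ∈ S, img (cj s) E = Q := by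
    rintro _ Q ⟨s, hs, rfl⟩ c
    obtain ⟨f, hf⟩ := conj_iso c
    obtain ⟨t, ht, α, -, d⟩ := (U hf.1).c2 s hs fun e he => mem_img_of_mem (f := cj s) he
    haveI := fin_of_le hf.le'
    refine ⟨t, ht, eq_of_le_of_card_ge (img_le_iff.2 fun e he => ?_) (by rw [← hf.card_eq, card_img_cj, card_img_cj])⟩
    have := hf.maps (mem_img_of_mem (f := cj s) (fn_mem α⁻¹ he))
    rwa [cj_apply, d _ (fn_mem α⁻¹ he), fn_fn_inv] at this
  have inn : ∀ P, P ≤ S → (¬ ∃ s ∈ S, ∀ x ∈ P, s * x * s⁻¹ ∈ E) → F.autGroup P ≤ autInducedBy S P :=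
    fun P hP c β hβ => mem_autInducedBy'.2 ((U (mor_fn hP hβ)).c1.resolve_right fun d => c d.1)
  have top : ∀ {Q}, F.IsConj S Q → Q = S := fun c => eq_of_le_of_card_ge (conj_le' c) (conj_card c).le
  refine ⟨F, sat_of_family (ℋ := fun P => P = S ∨ ∃ s ∈ S, img (cj s) E = P) hS ?_ ?_ ?_ ?_, eA⟩
  · rintro P Q (rfl | h) c
    exacts [.inl (top c), .inr (cjE h c)]
  · rintro P (rfl | ⟨s, hs, rfl⟩)
    · refine ⟨P, conj_refl F le_rfl, fa_top_of hS fun α hα _ _ => Inn_eq (P := P) ▸ inn P le_rfl (fun ⟨s, hs, c⟩ =>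
        lt.not_ge fun x hx => by simpa [mul_assoc] using c _ (mul_mem (mul_mem (inv_mem hs) hx) hs)) hα,
        rec_iff.2 ⟨le_rfl, fun Q f hf => ⟨f, ?_, fun _ _ => rfl⟩⟩⟩
      obtain rfl := top (conj_symm hf.isConj)
      exact hf.1.mono Nf_le
    refine ⟨E, conj_symm (iso_cj F l hs).isConj, fa_iff.2 ⟨l, eA ▸ sy⟩, rec_of_up l (fun Q c => ?_) fun α hα => ?_⟩
    · obtain ⟨t, ht, rfl⟩ := cjE ⟨1, one_mem _, img_cj_one E⟩ c
      exact ⟨conj_le' c, cj t⁻¹, mor_cj F NS_le (inv_mem ht), by rw [img_cj_cj, inv_mul_cancel, img_cj_one]⟩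
    by_cases c : α ∈ autInducedBy S E
    · obtain ⟨g, hg, e⟩ := mem_autInducedBy'.1 c
      exact ⟨cj g, mor_cj F Nf_le hg, fun x hx => (e x hx).symm⟩
    refine ⟨fn α, (mor_fn l hα).mono fun g hg => by_contra fun d => c (ti α (eA ▸ hα) g (Nf_le_NS hg) d ?_),
      fun _ _ => rfl⟩
    obtain ⟨-, n, k, hk, e⟩ := mem_Nf.1 hg
    exact mem_autInducedBy'.2 ⟨k, hk, fun x hx => by
      rw [fn_mul, fn_mul, fn_cA n (fn_mem α⁻¹ hx), e _ (fn_mem α⁻¹ hx), fn_fn_inv]⟩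
  · refine fun K hK => F2 K le_rfl ?_
    rintro _ _ ⟨rfl, α, hα, rfl⟩
    exact hK _ _ (.inr ⟨1, one_mem _, img_cj_one _⟩) (mA α hα)
  intro P hc hP
  have lP := (centric_iff.1 hc).1
  haveI := fin_of_le lP
  by_cases c : ∃ s ∈ S, ∀ x ∈ P, s * x * s⁻¹ ∈ E
  swap
  · obtain ⟨r, hr, nr⟩ := SetLike.exists_of_lt (lt_NS hS (lt_of_le_of_ne lP fun e => hP (.inl e)))
    refine ⟨P, conj_refl F lP, fun d => nr (d (mem_NK.2 ⟨hr, le_OpIn le_rfl le_normalizer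
      ((isPGroup_autInducedBy hS).to_le (inn P lP c)) (cA_mem_autGroup F lP hr.1)⟩))⟩
  obtain ⟨s, hs, c⟩ := c
  have i := (iso_cj F lP hs).isConj
  have l1 : img (cj s) P < E := lt_of_le_of_ne (img_le_iff.2 c) fun e =>
    hP (.inr ⟨s⁻¹, inv_mem hs, by rw [← e, img_cj_cj, inv_mul_cancel, img_cj_one]⟩)
  have cQ := centric_CS_le (centric_conj hc i)
  refine ⟨_, i, fun d => ?_⟩
  generalize img (cj s) P = Q at *
  have lQ := l1.le.trans l
  haveI := fin_of_le lQ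
  obtain ⟨r, hr, nr⟩ := SetLike.exists_of_lt (lt_NS (hS.to_le l) l1)
  have fD : ∀ β ∈ F.autGroup Q, ∀ x ∈ Q, x ∈ D → fn β x = x := fun β hβ x hx c =>
    (U (mor_fn lQ hβ)).c3 x hx (.inl c)
  have m := cA_mem_autGroup F lQ (l hr.1)
  have DQ : D ≤ Q := fun x hx => cQ ⟨(hD hx).1, fun y hy => (hD hx).2 y (lQ hy)⟩
  haveI := fin_of_le DQ
  refine nr (d (mem_NK.2 ⟨⟨l hr.1, hr.2⟩, mem_OpIn₂ (D := D) (hS.to_le lQ) (fun β hβ => mem_stab_of_maps DQ
    fun x hx => (fD β hβ x (DQ hx) hx).symm ▸ hx) m (fun x hx => ?_) (fD _ m)⟩))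
  rw [fn_cA hr.2 hx]
  simpa [commutatorElement_def, mul_assoc] using hd (commutator_mem_commutator (inv_mem (l1.le hx)) hr.1)

end CF.Rt.BC
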