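import Cfsg.Agent.RI.BC7
import Cfsg.Agent.RI.BC8

/-! Adjoining an automorphism of order three of `V₄ × C` or `Q₈ * C`. -/

set_option autoImplicit false
set_option linter.unusedSectionVars false

namespace CF.Rt.BC

open Subgroup CF.BG CF.BG2 CF.Pgp Cfsg
open CF.Fus (Sat Mor Iso fn cA img Gen stab OpIn pre fn_cA fn_mem mulOn_fn stab_maps mem_stab_of_maps fn_mul PIso
  MulOn SylIn)
open scoped commutatorElement CF.Fus

universe v

theorem s3_lemma {Γ : Type*} [Group Γ] {I T : Subgroup Γ} [I.Normal] (hI : I ≤ T) (hT : IsPGroup 2 T) {ρ : Γ}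
    (ρ3 : ρ ^ 3 = 1) (h : ∀ t ∈ T, t ∉ I → t * ρ * t⁻¹ * ρ ∈ I) :
    SylIn 2 T (zpowers ρ ⊔ T) ∧ ∀ α ∈ zpowers ρ ⊔ T, ∀ t ∈ T, t ∉ I → α * t * α⁻¹ ∈ T → α ∈ T := by
  have q : ∀ t ∈ T, t ∉ I → ∀ σ ∈ zpowers ρ, t * σ * t⁻¹ * σ ∈ I := by
    rintro t ht nt _ ⟨i, rfl⟩
    have := (QuotientGroup.eq_one_iff _).2 (h t ht nt)
    rw [← QuotientGroup.eq_one_iff]
    simp only [QuotientGroup.mk_mul, QuotientGroup.mk_inv, QuotientGroup.mk_zpow] at this ⊢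
    rw [← conj_zpow, eq_inv_of_mul_eq_one_left this, inv_zpow, inv_mul_cancel]
  have s3 : ∀ σ ∈ zpowers ρ, σ ^ 3 = 1 := by
    rintro _ ⟨i, rfl⟩
    rw [← zpow_natCast, ← zpow_mul, mul_comm, zpow_mul, zpow_natCast, ρ3, one_zpow]
  have d : ∀ α ∈ zpowers ρ ⊔ T, ∃ σ ∈ zpowers ρ, ∃ t ∈ T, α = σ * t := by
    have m : ∀ t ∈ T, ∀ σ ∈ zpowers ρ, ∃ σ' ∈ zpowers ρ, ∃ t' ∈ T, t * σ = σ' * t' := fun t ht σ hσ => by
      by_cases c : t ∈ I
      · exact ⟨σ, hσ, _, hI (‹I.Normal›.conj_mem' t c σ), by group⟩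
      · exact ⟨σ⁻¹, inv_mem hσ, _, mul_mem (hI (‹I.Normal›.conj_mem _ (q t ht c σ hσ) σ)) ht, by group⟩
    let A : Subgroup Γ := ⟨⟨⟨{α | ∃ σ ∈ zpowers ρ, ∃ t ∈ T, α = σ * t}, by
      rintro _ _ ⟨σ, hσ, t, ht, rfl⟩ ⟨σ', hσ', t', ht', rfl⟩
      obtain ⟨τ, hτ, u, hu, e⟩ := m t ht σ' hσ'
      exact ⟨_, mul_mem hσ hτ, _, mul_mem hu ht', by rw [mul_assoc, ← mul_assoc t, e]; group⟩⟩,
      1, one_mem _, 1, one_mem _, (mul_one 1).symm⟩, by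
      rintro _ ⟨σ, hσ, t, ht, rfl⟩
      exact mul_inv_rev σ t ▸ m _ (inv_mem ht) _ (inv_mem hσ)⟩
    exact show zpowers ρ ⊔ T ≤ A from sup_le (fun σ hσ => ⟨σ, hσ, 1, one_mem _, (mul_one σ).symm⟩)
      fun t ht => ⟨1, one_mem _, t, ht, (one_mul t).symm⟩
  refine ⟨⟨le_sup_right, hT, fun C h1 h2 h3 => le_antisymm (fun α hα => ?_) h1⟩, fun α hα t ht nt e => ?_⟩
  · obtain ⟨σ, hσ, t, ht, rfl⟩ := d α (h2 hα)
    obtain ⟨k, hk⟩ := Fus.isPGroup_iff_mem.1 h3 σ ((mul_mem_cancel_right (h1 ht)).1 hα)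
    rwa [Fus.eq_one_of_ppow_of_coprime hk (Nat.Coprime.coprime_dvd_left (orderOf_dvd_of_pow_eq_one (s3 σ hσ))
      (by norm_num)), one_mul]
  · obtain ⟨σ, hσ, u, hu, rfl⟩ := d α hα
    have m := mul_mem (mul_mem hu ht) (inv_mem hu)
    have := mul_mem (mul_mem (inv_mem e) m) (hI (q _ (inv_mem m)
      (fun c => nt (by simpa [mul_assoc] using ‹I.Normal›.conj_mem' _ (inv_mem c) u)) σ hσ))
    rw [show (σ * u * t * (σ * u)⁻¹)⁻¹ * (u * t * u⁻¹) * ((u * t * u⁻¹)⁻¹ * σ * (u * t * u⁻¹)⁻¹⁻¹ * σ) =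
      σ * σ by group] at this
    refine mul_mem ?_ hu
    rw [show σ = (σ * σ)⁻¹ from eq_inv_of_mul_eq_one_left (by rw [← s3 σ hσ, pow_three])]
    exact inv_mem this

variable {G : Type v} [Group G] [Finite G] {A B C D E H K L M N P Q R S W X : Subgroup G}
  {a b c e g h k m s t u v w x y z : G} {F : FusionSystem S} {f : G → G}

theorem ext_two (hf : MulOn f H) (n : g ∈ 𝐍 H) (ng : g ∉ H) (g2 : g ^ 2 ∈ H) (e1 : k ^ 2 = f (g ^ 2))
    (e2 : ∀ u ∈ H, f (g * u * g⁻¹) = k * f u * k⁻¹) :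
    ∃ f', MulOn f' (H ⊔ zpowers g) ∧ (∀ u ∈ H, f' u = f u) ∧ f' g = k := by
  classical
  have d : ∀ u ∈ H ⊔ zpowers g, u ∈ H ∨ ∃ w ∈ H, u = w * g := fun u hu => by
    obtain ⟨a, ha, i, rfl⟩ := (Fus.mem_sup_zpowers n).1 hu
    obtain ⟨j, rfl | rfl⟩ := Int.even_or_odd' i
    · exact .inl (mul_mem ha (by rw [zpow_mul, zpow_ofNat]; exact zpow_mem g2 j))
    · exact .inr ⟨_, mul_mem ha (zpow_mem g2 j), by rw [zpow_add_one, zpow_mul, mul_assoc, zpow_ofNat]⟩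
  have f1 : ∀ w ∈ H, (if w * g ∈ H then f (w * g) else f (w * g * g⁻¹) * k) = f w * k := fun w hw => by
    rw [if_neg (by rwa [mul_mem_cancel_left hw]), mul_inv_cancel_right]
  refine ⟨fun u => if u ∈ H then f u else f (u * g⁻¹) * k, fun u hu w hw => ?_, fun u hu => if_pos hu, ?_⟩
  · beta_reduce
    replace hu := d u hu
    replace hw := d w hw
    rcases hu with hu | ⟨u, hu, rfl⟩ <;> rcases hw with hw | ⟨w, hw, rfl⟩
    · rw [if_pos hu, if_pos hw, if_pos (mul_mem hu hw), hf hu hw]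
    · rw [← mul_assoc, f1 _ (mul_mem hu hw), f1 w hw, if_pos hu, hf hu hw, mul_assoc]
    · have := conj_mem_of_norm n hw
      rw [show u * g * w = u * (g * w * g⁻¹) * g by group, f1 _ (mul_mem hu this), f1 u hu, if_pos hw, hf hu this,
        e2 w hw]; group
    · have := conj_mem_of_norm n hw
      rw [show u * g * (w * g) = u * (g * w * g⁻¹) * g ^ 2 by rw [pow_two]; group,
        if_pos (mul_mem (mul_mem hu this) g2), f1 u hu, f1 w hw, hf (mul_mem hu this) g2, hf hu this, e2 w hw, ← e1,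
        pow_two]; group
  · have := f1 1 (one_mem _)
    rwa [one_mul, hf.map_one, one_mul] at this

theorem eqOn_gen {f' : G → G} (h : MulOn f (A ⊔ zpowers g)) (h' : MulOn f' (A ⊔ zpowers g)) (e : ∀ u ∈ A, f u = f' u)
    (e' : f g = f' g) : ∀ u ∈ A ⊔ zpowers g, f u = f' u := h.eqOn_sup h' e (by
  rintro _ ⟨i, rfl⟩
  have m : g ∈ A ⊔ zpowers g := mem_sup_right (mem_zpowers g)
  rw [h.map_zpow m, h'.map_zpow m, e'])

/-- the data of the construction -/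
structure CD (S E C : Subgroup G) (b v z : G) : Prop where
  lt : E < S
  gen : C ⊔ zpowers b ⊔ zpowers v = E
  cb : b ∈ 𝐂 C
  cv : v ∈ 𝐂 C
  ab : Abel C
  zC : z ∈ C
  zS : z ∈ 𝐂 S
  z2 : z ^ 2 = 1
  qb : b ^ 2 = z
  qv : v ^ 2 = z
  qbv : (b * v) ^ 2 = z
  nb : b ∉ C
  nv : v ∉ C
  nbv : b * v ∉ C
  act : ∀ n ∈ NS S E, n ∉ E → n ∈ 𝐍 C ∧ (b * v)⁻¹ * (n * b * n⁻¹) ∈ zpowers z ∧ v⁻¹ * (n * v * n⁻¹) ∈ zpowers z

namespace CD

theorem le (h : CD S E C b v z) : C ≤ E := (le_sup_left.trans le_sup_left).trans h.gen.le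
theorem hb (h : CD S E C b v z) : b ∈ E := h.gen.le (mem_sup_left (mem_sup_right (mem_zpowers b)))
theorem hv (h : CD S E C b v z) : v ∈ E := h.gen.le (mem_sup_right (mem_zpowers v))
theorem cz (h : CD S E C b v z) (hu : u ∈ E) : Commute u z := mem_cent.1 h.zS u (h.lt.le hu)
theorem zi (h : CD S E C b v z) : z⁻¹ = z := inv_eq_of_mul_eq_one_left ((pow_two z).symm.trans h.z2)

theorem vb (h : CD S E C b v z) : v * b * v⁻¹ = b * z := by
  calc v * b * v⁻¹ = b⁻¹ * (b * v) ^ 2 * (v ^ 2)⁻¹ := by simp only [pow_two]; group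
    _ = b * (b ^ 2)⁻¹ := by rw [h.qbv, h.qv, pow_two]; group
    _ = _ := by rw [h.qb, h.zi]

theorem bv (h : CD S E C b v z) : b * v * b⁻¹ = v * z := by
  calc b * v * b⁻¹ = (b * v) ^ 2 * v⁻¹ * (b ^ 2)⁻¹ := by simp only [pow_two]; group
    _ = v * (v ^ 2)⁻¹ := by rw [h.qbv, h.qb, ← (h.cz (inv_mem h.hv)).eq, pow_two]; group
    _ = _ := by rw [h.qv, h.zi]

theorem le' (h : CD S E C b v z) (h1 : C ≤ K) (h2 : b ∈ K) (h3 : v ∈ K) : E ≤ K :=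
  h.gen.ge.trans (sup_le (sup_le h1 (zpowers_le.2 h2)) (zpowers_le.2 h3))

theorem cent (h : CD S E C b v z) : E ≤ 𝐂 C := h.le' h.ab h.cb h.cv

theorem fix (h : CD S E C b v z) (hg : g ∈ E) (hu : u ∈ C) : g * u * g⁻¹ = u := by
  rw [← mem_cent.1 (h.cent hg) u hu, mul_inv_cancel_right]

theorem der (h : CD S E C b v z) : ⁅E, E⁆ ≤ zpowers z := by
  have n : E ≤ 𝐍 (zpowers z) := norm_of_cent (h.cent.trans (cent_anti (zpowers_le.2 h.zC)))
  have t : ∀ g ∈ E, ⁅g, b⁆ ∈ zpowers z → ⁅g, v⁆ ∈ zpowers z → ∀ u ∈ E, ⁅g, u⁆ ∈ zpowers z := fun g hg h1 h2 u hu =>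
    (h.le' (K := cm1 g (zpowers z)) (fun c hc => ⟨n (h.le hc), by
      rw [commutatorElement_def, h.fix hg hc, mul_inv_cancel]; exact one_mem _⟩) ⟨n h.hb, h1⟩ ⟨n h.hv, h2⟩ hu).2
  have i : ∀ g u : G, ⁅g, u⁆ ∈ zpowers z → ⁅u, g⁆ ∈ zpowers z := fun g u h => commutatorElement_inv g u ▸ inv_mem h
  have z1 : ⁅b, v⁆ ∈ zpowers z := by
    rw [commutatorElement_def, h.bv, (h.cz h.hv).eq, mul_inv_cancel_right]; exact mem_zpowers z
  exact commutator_le.2 fun g hg => t g hg (i _ _ (t b h.hb (by simp) z1 g hg))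
    (i _ _ (t v h.hv (i _ _ z1) (by simp) g hg))

theorem aut_ext (h : CD S E C b v z) {α β : MulAut E} (h1 : ∀ u ∈ C, fn α u = fn β u) (h2 : fn α b = fn β b)
    (h3 : fn α v = fn β v) : α = β := by
  have l : C ⊔ zpowers b ≤ E := le_sup_left.trans h.gen.le
  exact Fus.aut_ext fun u hu => eqOn_gen ((mulOn_fn α).mono h.gen.le) ((mulOn_fn β).mono h.gen.le)
    (eqOn_gen ((mulOn_fn α).mono l) ((mulOn_fn β).mono l) h1 h2) h3 u (h.gen.ge hu)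

theorem exists_rho (h : CD S E C b v z) : ∃ ρ : MulAut E, (∀ u ∈ C, fn ρ u = u) ∧ fn ρ b = v ∧ fn ρ v = (b * v)⁻¹ := by
  have nC := norm_of_cent h.cent
  have hb := h.hb
  have hv := h.hv
  obtain ⟨f, f1, f2, f3⟩ := ext_two (k := v) (Fus.mulOn_id C) (nC hb) h.nb (h.qb ▸ h.zC) (h.qv.trans h.qb.symm)
    fun u hu => (h.fix hb hu).trans (h.fix hv hu).symm
  have m : b ∈ C ⊔ zpowers b := mem_sup_right (mem_zpowers b)
  have n : v ∈ 𝐍 (C ⊔ zpowers b : Subgroup G) := norm_of_gen rfl (nC hv) (h.vb ▸ mul_mem m (mem_sup_left h.zC))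
  obtain ⟨g, g1, g2, g3⟩ := ext_two (g := v) (k := (b * v)⁻¹) f1 n (fun c => by
      obtain ⟨a, ha, i, e⟩ := (Fus.mem_sup_zpowers (nC hb)).1 c
      obtain ⟨j, rfl | rfl⟩ := Int.even_or_odd' i
      · exact h.nv (e ▸ mul_mem ha (by rw [zpow_mul, zpow_ofNat, h.qb]; exact zpow_mem h.zC j))
      · refine h.nbv (e ▸ ?_)
        rw [show b * (a * b ^ (2 * j + 1)) = b * a * b⁻¹ * (b ^ 2) ^ (j + 1) by group, h.qb]
        exact mul_mem (conj_mem_of_norm (nC hb) ha) (zpow_mem h.zC _))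
    (h.qv ▸ mem_sup_left h.zC) (by rw [inv_pow, h.qbv, h.qv, f2 z h.zC, h.zi]; rfl)
    (eqOn_gen ((Fus.mulOn_cj v _).comp f1 fun u hu => conj_mem_of_norm n hu) (f1.comp (Fus.mulOn_cj (b * v)⁻¹ ⊤)
      fun _ _ => mem_top _) (fun u hu => by
        simp only [Function.comp_apply, Fus.cj_apply, h.fix hv hu, f2 u hu, id, h.fix (inv_mem (mul_mem hb hv)) hu]) (by
      show f (v * b * v⁻¹) = (b * v)⁻¹ * f b * (b * v)⁻¹⁻¹
      rw [h.vb, f1 m (mem_sup_left h.zC), f3, f2 z h.zC, id, show (b * v)⁻¹ * v * (b * v)⁻¹⁻¹ =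
        v⁻¹ * b⁻¹ * (v * b * v⁻¹) * v ^ 2 by rw [pow_two]; group, h.vb, h.qv, ← h.qv, pow_two]; group))
  rw [h.gen] at g1
  have e1 : ∀ u ∈ C, g u = u := fun u hu => (g2 u (mem_sup_left hu)).trans (f2 u hu)
  have e2 : g b = v := (g2 b m).trans f3
  have e3 : g (b * v)⁻¹ = b := by rw [g1.map_inv (mul_mem hb hv), g1 hb hv, e2, g3]; group
  have mp : ∀ u ∈ E, g u ∈ E := fun u hu => (g1.mem_pre.1 (h.le' (K := pre g E E)
    (fun u hu => Fus.mem_pre_of (h.le hu) ((e1 u hu).symm ▸ h.le hu)) (Fus.mem_pre_of hb (e2 ▸ hv))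
    (Fus.mem_pre_of hv (g3 ▸ inv_mem (mul_mem hb hv))) hu)).2
  have t3 : ∀ u ∈ E, g (g (g u)) = u := fun u hu => by
    have k := (g1.comp g1 mp).comp g1 fun u hu => mp _ (mp u hu)
    exact eqOn_gen (k.mono h.gen.le) (Fus.mulOn_id _) (eqOn_gen (k.mono (le_sup_left.trans h.gen.le)) (Fus.mulOn_id _)
      (fun u hu => by simp [e1 u hu]) (by simp only [Function.comp_apply, e2, g3, e3, id]))
      (by simp only [Function.comp_apply, e2, g3, e3, id]) u (h.gen.ge hu)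
  obtain ⟨ρ, e⟩ := (PIso.of_inverse (g := fun u => g (g u)) g1 mp (fun u hu => mp _ (mp u hu)) t3 t3).exists_aut
  exact ⟨ρ, fun u hu => (e u (h.le hu)).trans (e1 u hu), (e b hb).trans e2, (e v hv).trans g3⟩

theorem inn (h : CD S E C b v z) {α : MulAut E} (h1 : ∀ u ∈ C, fn α u = u) (h2 : b⁻¹ * fn α b ∈ zpowers z)
    (h3 : v⁻¹ * fn α v ∈ zpowers z) : α ∈ Inn E := by
  have hb := h.hb
  have hv := h.hv
  have t : ∀ g ∈ E, fn α b = g * b * g⁻¹ → fn α v = g * v * g⁻¹ → α ∈ Inn E := fun g hg e1 e2 => by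
    have n := le_normalizer hg
    rw [h.aut_ext (α := α) (β := cA E g) (fun u hu => by rw [h1 u hu, fn_cA n (h.le hu), h.fix hg hu]) (by rw [e1, fn_cA n hb])
      (by rw [e2, fn_cA n hv])]
    exact Fus.cA_mem_Inn hg
  rcases eq_of_mem_zpowers_two h.z2 h2 with e1 | e1 <;> rcases eq_of_mem_zpowers_two h.z2 h3 with e2 | e2 <;>
    rw [inv_mul_eq_iff_eq_mul] at e1 e2
  · exact t 1 (one_mem _) (by simpa using e1) (by simpa using e2)
  · exact t b hb (by simpa using e1) (e2.trans h.bv.symm)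
  · exact t v hv (e1.trans h.vb.symm) (by simpa using e2)
  · refine t (b * v) (mul_mem hb hv) (e1.trans ?_) (e2.trans (h.bv.symm.trans (by group)))
    rw [show b * v * b * (b * v)⁻¹ = b * (v * b * v⁻¹) * b⁻¹ by group, h.vb, mul_assoc b (b * z), mul_assoc b z,
      ← (h.cz (inv_mem hb)).eq]; group

theorem exists_sat (h : CD S E C b v z) (k : IsPGroup 2 S) :
    ∃ F : FusionSystem S, Sat F 2 ∧ ¬ IsPGroup 2 (F.autGroup E) := by
  obtain ⟨ρ, r1, r2, r3⟩ := h.exists_rho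
  have hb := h.hb
  have hv := h.hv
  have hw := mul_mem hb hv
  have r4 : fn ρ (b * v) = b⁻¹ := by rw [mulOn_fn ρ hb hv, r2, r3]; group
  have r5 : fn ρ (b * v)⁻¹ = b := by rw [(mulOn_fn ρ).map_inv hw, r4, inv_inv]
  have ρ3 : ρ ^ 3 = 1 := h.aut_ext (fun u hu => by simp [pow_three, fn_mul, r1 u hu, Fus.fn_one])
    (by rw [pow_three, fn_mul, fn_mul, r2, r3, r5, Fus.fn_one]) (by rw [pow_three, fn_mul, fn_mul, r3, r5, r2, Fus.fn_one])
  have zC := zpowers_le.2 h.zC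
  have zS : zpowers z ≤ CS S S := zpowers_le.2 ⟨h.lt.le (h.le h.zC), h.zS⟩
  have fT : ∀ α ∈ autInducedBy S E, ∀ d ∈ zpowers z, fn α d = d := fun α hα d hd => by
    obtain ⟨g, hg, e⟩ := Fus.mem_autInducedBy'.1 hα
    rw [e d (h.le (zC hd)), (zS hd).2 g hg, mul_inv_cancel_right]
  have M : ∀ α : MulAut E, (∀ d ∈ zpowers z, fn α d = d) → ∀ u ∈ E, ∀ w x, u⁻¹ * w ∈ zpowers z →
      x⁻¹ * fn α u ∈ zpowers z → x⁻¹ * fn α w ∈ zpowers z := fun α a u hu w x h1 h2 => by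
    rw [← mul_inv_cancel_left u w, mulOn_fn α hu (h.le (zC h1)), a _ h1, ← mul_assoc]
    exact mul_mem h2 h1
  have iv : ∀ u, u ^ 2 = z → u⁻¹ * u⁻¹ ∈ zpowers z := fun u e => by
    rw [← mul_inv_rev, ← pow_two, e]; exact inv_mem (mem_zpowers z)
  have N : ∀ n ∈ NS S E, n ∉ E → (b * v)⁻¹ * fn (cA E n) b ∈ zpowers z ∧ v⁻¹ * fn (cA E n) v ∈ zpowers z ∧
      b⁻¹ * fn (cA E n) (b * v) ∈ zpowers z := fun n hn nn => by
    obtain ⟨-, a1, a2⟩ := h.act n hn nn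
    rw [mulOn_fn _ hb hv, fn_cA hn.2 hb, fn_cA hn.2 hv]
    refine ⟨a1, a2, ?_⟩
    have := mul_mem (mul_mem (h.qv.symm ▸ mem_zpowers z : v ^ 2 ∈ zpowers z) (h.fix (inv_mem hv) (zC a1) ▸ a1)) a2
    convert this using 1
    simp only [pow_two]; group
  haveI : (Inn E).Normal := ⟨fun i hi α => conj_mem_of_norm (Fus.Inn_norm ⊤ (mem_top α)) hi⟩
  obtain ⟨sy, ti⟩ := s3_lemma (Fus.Inn_le_autInducedBy h.lt.le) (Fus.isPGroup_autInducedBy k) ρ3 fun t ht nt => by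
    obtain ⟨n, n1, n2, rfl⟩ := Fus.mem_autInducedBy.1 ht
    have nn : n ∉ E := fun c => nt (Fus.cA_mem_Inn c)
    obtain ⟨a1, a2, a3⟩ := N n ⟨n1, n2⟩ nn
    obtain ⟨b1, b2, b3⟩ := N n⁻¹ (inv_mem ⟨n1, n2⟩) (by rwa [inv_mem_iff])
    have nC := (h.act n ⟨n1, n2⟩ nn).1
    have fρ := fun d hd => r1 d (zC hd)
    rw [Fus.cA_inv n2] at b1 b2 b3
    refine h.inn (fun u hu => ?_) ?_ ?_ <;> simp only [fn_mul]
    · rw [r1 u hu, r1, Fus.fn_fn_inv]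
      rw [← Fus.cA_inv n2, fn_cA (inv_mem n2) (h.le hu)]
      exact conj_mem_of_norm (inv_mem nC) hu
    · rw [r2]
      exact M _ (fT _ ht) _ hw _ _ (M ρ fρ _ hv _ _ b2 (r3 ▸ iv _ h.qbv)) a3
    · rw [r3]
      exact M _ (fT _ ht) _ hv _ _ (M ρ fρ _ hb _ _ (M _ (fT _ (inv_mem ht)) _ hw _ _ (iv _ h.qbv) b3)
        (by rw [r2, inv_mul_cancel]; exact one_mem _)) a2
  have ce : ∀ g ∈ NS S E, g ∉ E → cA E g ∉ Inn E := fun g hg ng c => by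
    obtain ⟨u, hu, e⟩ := Fus.mem_Inn.1 c
    have := (N g hg ng).1
    rw [← e, fn_cA (le_normalizer hu) hb, conj_eq_comm] at this
    have d := h.der (commutator_mem_commutator hu hb)
    generalize ⁅u, b⁆ = w at d this
    have := mul_mem (conj_mem_of_norm (norm_of_cent h.cent (inv_mem hb)) (zC d)) (inv_mem (zC this))
    exact h.nv (by simpa [mul_assoc] using this)
  obtain ⟨F, hF, e⟩ := BC.exists_sat k h.lt sy (fun α hα g hg ng => ti α hα _ (Fus.cA_mem_autInducedBy hg.1)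
    (ce g hg ng)) zS h.der (show _ ≤ Fus.fix E (zpowers z) from sup_le (zpowers_le.2 fun d hd => r1 d (zC hd)) fT)
  refine ⟨F, hF, fun c => ?_⟩
  obtain ⟨j, hj⟩ := Fus.isPGroup_iff_mem.1 c ρ (e.ge (mem_sup_left (mem_zpowers ρ)))
  rw [Fus.eq_one_of_ppow_of_coprime hj (Nat.Coprime.coprime_dvd_left (orderOf_dvd_of_pow_eq_one ρ3) (by norm_num)),
    Fus.fn_one] at r2
  exact h.nbv (by rw [← r2, ← pow_two, h.qb]; exact h.zC)

end CD

end CF.Rt.BC
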